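import Groth.Agent.ExtFund.MoveLift
import Groth.Agent.CotT.CI

/-!
Regular immersions from stalks and from dimensions.
-/

set_option autoImplicit false
set_option linter.style.haveILetI false
set_option linter.unusedSectionVars false
set_option backward.isDefEq.respectTransparency false
set_option backward.isDefEq.respectTransparency.types false
set_option maxHeartbeats 1000000

universe u

open CategoryTheory Limits AlgebraicGeometry TopologicalSpace Opposite
open Groth.Agent.QC (resO)
open RingTheory.Sequence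
open scoped Pointwise

noncomputable section

namespace Groth.Agent.ExtFund

/-- Weak regularity at all primes gives weak regularity. -/
theorem isWeaklyRegular_of_localized {A : Type u} [CommRing A] (L : List A)
    (h : ∀ (p : Ideal A) [p.IsPrime], IsWeaklyRegular (LocalizedModule p.primeCompl A)
      (L.map (algebraMap A (Localization.AtPrime p)))) : IsWeaklyRegular A L := by
  refine ⟨fun i hi => ?_⟩
  rw [isSMulRegular_quotient_iff_mem_of_smul_mem]
  intro m hm
  let S := Ideal.ofList (L.take i) • (⊤ : Submodule A A)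
  let K : Ideal A := S.comap (LinearMap.toSpanSingleton A A m)
  by_contra hne
  have hK : K ≠ ⊤ := fun e => hne (by
    have h1 : (1 : A) ∈ K := e ▸ Submodule.mem_top
    simpa [K, S] using h1)
  obtain ⟨p, hp, hKp⟩ := Ideal.exists_le_maximal K hK
  haveI := hp.isPrime
  obtain ⟨t, ht, htm⟩ := (LocH.weaklyRegular_localized_iff p.primeCompl L).1 (h p) i hi m hm
  exact ht (hKp htm)

variable {P X : Scheme.{u}} (ι : X ⟶ P) [IsClosedImmersion ι] [IsLocallyNoetherian P]

/-- Regularity at the points of `X` is enough. -/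
theorem isRegularImmersion_of_stalk (c : ℕ)
    (h : ∀ x : X, ∃ (U : P.Opens) (l : List Γ(P, U)) (hx : ι.base x ∈ U), IsAffineOpen U ∧ l.length = c ∧
      RingHom.ker (ι.app U).hom = Ideal.ofList l ∧
      IsWeaklyRegular (P.presheaf.stalk (ι.base x)) (l.map (P.presheaf.germ U (ι.base x) hx).hom).reverse) :
    RegImm.IsRegularImmersionOfCodim RegImm.Kind.regular c ι := by
  refine ⟨inferInstance, fun x => ?_⟩
  obtain ⟨U, l, hx, hU, hlen, hker, hreg⟩ := h x
  obtain ⟨W, hW, hp⟩ := near_reg hU hx l hreg
  obtain ⟨U', hU', hx', hle⟩ := exists_isAffineOpen_mem_and_subset (show ι.base x ∈ W ⊓ U from ⟨hW, hx⟩)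
  have h' : U' ≤ U := le_trans hle inf_le_right
  have hR : Reg U' (l.map (resO P h')) := hp U' h' hU' hx' (le_trans hle inf_le_left)
  have hker' : RingHom.ker (ι.app U').hom = Ideal.ofList (l.map (resO P h')).reverse := by
    rw [(conormalChart (ι := ι) hU).ker_eq_map hU' h', hker, Ideal.map_ofList]
    simp [Ideal.ofList]
  refine ⟨⟨U', hU'⟩, hx', IsZariskiLocalAtTarget.restrict ‹IsClosedImmersion ι› U', (l.map (resO P h')).reverse,
    by simp [hlen], ⟨isWeaklyRegular_of_localized _ fun p _ => ?_, fun e => ?_⟩, hker'⟩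
  · let q : P := hU'.fromSpec ⟨p, inferInstance⟩
    have hq : q ∈ U' := by
      show q ∈ (U' : Set P)
      rw [← hU'.range_fromSpec]
      exact Set.mem_range_self _
    have hprime : hU'.primeIdealOf ⟨q, hq⟩ = ⟨p, inferInstance⟩ :=
      hU'.fromSpec.isOpenEmbedding.injective (hU'.fromSpec_primeIdealOf _)
    letI : Algebra Γ(P, U') (P.presheaf.stalk q) := (P.presheaf.germ U' q hq).hom.toAlgebra
    haveI : IsLocalization p.primeCompl (P.presheaf.stalk q) := by
      have h0 := hU'.isLocalization_stalk ⟨q, hq⟩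
      rwa [hprime] at h0
    let e : Localization p.primeCompl ≃ₐ[Γ(P, U')] P.presheaf.stalk q := IsLocalization.algEquiv p.primeCompl _ _
    refine (AddEquiv.isWeaklyRegular_congr (e := e.toAddEquiv) ?_).2 (hR q hq)
    rw [List.forall₂_map_left_iff, List.forall₂_map_right_iff]
    refine List.forall₂_same.2 fun r _ y => ?_
    show e (algebraMap Γ(P, U') (Localization p.primeCompl) r * y) = _
    rw [map_mul, e.commutes]
    rfl
  · have h1 : (1 : Γ(P, U')) ∈ RingHom.ker (ι.app U').hom := by
      rw [hker']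
      rw [smul_eq_mul, Ideal.mul_top] at e
      exact e ▸ Submodule.mem_top
    rw [RingHom.mem_ker, map_one] at h1
    have h2 := congrArg (X.presheaf.germ (ι ⁻¹ᵁ U') x hx').hom h1
    rw [map_one, map_zero] at h2
    exact one_ne_zero h2

/-- Generators in number the codimension, in a regular scheme. -/
theorem isRegularImmersion_of_dim (c : ℕ) (hP : ∀ p : P, IsRegularLocalRing (P.presheaf.stalk p))
    (hdim : ∀ x : X, (c : WithBot ℕ∞) + ringKrullDim (X.presheaf.stalk x) = ringKrullDim (P.presheaf.stalk (ι.base x)))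
    (hgen : ∀ x : X, ∃ (U : P.Opens) (l : List Γ(P, U)), ι.base x ∈ U ∧ IsAffineOpen U ∧ l.length = c ∧
      RingHom.ker (ι.app U).hom = Ideal.ofList l) :
    RegImm.IsRegularImmersionOfCodim RegImm.Kind.regular c ι := by
  refine isRegularImmersion_of_stalk ι c fun x => ?_
  obtain ⟨U, l, hx, hU, hlen, hker⟩ := hgen x
  refine ⟨U, l, hx, hU, hlen, hker, ?_⟩
  haveI := hP (ι.base x)
  let rs := (l.map (P.presheaf.germ U (ι.base x) hx).hom).reverse
  have hrs : Ideal.ofList rs = RingHom.ker (ι.stalkMap x).hom := by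
    ext r
    rw [RingHom.mem_ker, (cuts_of_ker hU hker (ι.base x) hx).2 x rfl r]
    simp [rs, Ideal.ofList]
  have e : (P.presheaf.stalk (ι.base x) ⧸ Ideal.ofList rs) ≃+* X.presheaf.stalk x :=
    (Ideal.quotEquivOfEq hrs).trans (RingHom.quotientKerEquivOfSurjective (ι.stalkMap_surjective x))
  refine CotT.isWeaklyRegular_of_dim rs ?_ ?_
  · rw [hrs]
    exact RingHom.ker_ne_top _
  · rw [ringKrullDim_eq_of_ringEquiv e, show rs.length = c by simp [rs, hlen]]
    exact hdim x

end Groth.Agent.ExtFund
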