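import Groth.Agent.ExtFund.Main
import Groth.Agent.ExtFund.Codim
import Groth.Agent.ExtShX.DualPn
import Groth.Agent.ExtShX.Rep
import Groth.Agent.TopDegRep.Basic

/-!
Closed subschemes of projective space which are locally complete intersections: the dualizing sheaf.
-/

set_option autoImplicit false
set_option linter.style.haveILetI false
set_option linter.unusedSectionVars false
set_option backward.isDefEq.respectTransparency false
set_option backward.isDefEq.respectTransparency.types false
set_option maxHeartbeats 1000000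

universe u

open CategoryTheory Limits AlgebraicGeometry TopologicalSpace Opposite Abelian
open Groth.Agent.SerrePn

noncomputable section

namespace Groth.Agent.ExtFund

variable {k : Type u} [Field k] {N : ℕ} {X : Scheme.{u}} [X.Over (Spec (CommRingCat.of k))]
  (ι : X ⟶ CohB1.ProjSpace N k) [IsClosedImmersion ι]
  (hι : ι ≫ CohB1.ProjSpace.toSpec N k = X ↘ Spec (CommRingCat.of k))

include hι in
theorem dim_stalk_eq {d : ℕ} (hd : d ≤ N)
    (heq : ∀ Z : Set ↥X, Z ∈ irreducibleComponents ↥X → topologicalKrullDim ↥Z = (d : WithBot ℕ∞)) (x : X) :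
    ((N - d : ℕ) : WithBot ℕ∞) + ringKrullDim (X.presheaf.stalk x) =
      ringKrullDim ((CohB1.ProjSpace N k).presheaf.stalk (ι.base x)) := by
  haveI : LocallyOfFiniteType (CohB1.ProjSpace N k ↘ Spec (CommRingCat.of k)) :=
    (ProjMor.isProper_toSpec N k).toLocallyOfFiniteType
  haveI : LocallyOfFiniteType (X ↘ Spec (CommRingCat.of k)) := by
    rw [← hι]
    exact inferInstanceAs (LocallyOfFiniteType (ι ≫ (CohB1.ProjSpace N k ↘ Spec (CommRingCat.of k))))
  obtain ⟨a, e, ha, he, hn⟩ := ExtShX.exists_dims_field (CohB1.ProjSpace N k ↘ Spec (CommRingCat.of k)) N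
    ExtShX.components_projSpace (ι x)
  obtain ⟨a', e', ha', he', hn'⟩ := ExtShX.exists_dims_field (X ↘ Spec (CommRingCat.of k)) d heq x
  have hr' := (Scheme.Hom.isClosedEmbedding ι).isEmbedding.comp
    (Topology.IsEmbedding.subtypeVal (p := (· ∈ closure ({x} : Set X))))
  have h1 := IsHomeomorph.topologicalKrullDim_eq _ hr'.toHomeomorph.isHomeomorph
  have h2 : Set.range (ι ∘ (Subtype.val : closure ({x} : Set X) → X)) =
      closure ({ι x} : Set (CohB1.ProjSpace N k)) := by
    rw [Set.range_comp, Subtype.range_coe, ← (Scheme.Hom.isClosedEmbedding ι).closure_image_eq, Set.image_singleton]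
  have h3 := IsHomeomorph.topologicalKrullDim_eq _ (Homeomorph.setCongr h2).isHomeomorph
  rw [ha, ← h1, ha', Nat.cast_inj] at h3
  rw [he', he]
  exact_mod_cast (by omega : N - d + e' = e)

include hι in
/-- The dualizing sheaf of a locally complete intersection in projective space. -/
theorem exists_trace_lci {c : ℕ} (hc : c ≤ N) (hreg : RegImm.IsRegularImmersionOfCodim RegImm.Kind.regular c ι)
    (hdim : topologicalKrullDim ↥X ≤ ((N - c : ℕ) : WithBot ℕ∞)) (C : X.Modules)
    (hC : ExtPow.IsExtPow c (Omega.conormal ι) C) (ω : X.Modules)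
    (e : (DCoh.sheafHom C).obj ((Scheme.Modules.pullback ι).obj (om k N)) ≅ ω) :
    ∃ t : Coh.HH X ω (N - c) →ₗ[k] k, ∀ F : X.Modules, Coh.IsCoh F → ∀ ψ : Coh.HH X F (N - c) →ₗ[k] k,
      ∃! φ : F ⟶ ω, ∀ x : Coh.HH X F (N - c),
        ψ x = t (Sheaf.H.map ((SheafOfModules.toSheaf X.ringCatSheaf).map φ) (N - c) x) := by
  haveI := CohFinite.isNoetherian_projSpace N k
  haveI : HasExt.{u} (CohB1.ProjSpace N k).Modules := hasExt_of_enoughInjectives _
  haveI : ∀ M : (CohB1.ProjSpace N k).Modules, ModSite.HasSheafHom (O := (CohB1.ProjSpace N k).sheaf) M :=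
    fun M => ModSiteTensor.hasSheafHom M
  haveI : HasInjectiveResolutions (ModSite.Mod (CohB1.ProjSpace N k).sheaf) :=
    inferInstanceAs (HasInjectiveResolutions (CohB1.ProjSpace N k).Modules)
  refine ExtShX.exists_trace_closed ι hι (N - c) (Nat.sub_le _ _) hdim ω ?_
  rw [Nat.sub_sub_self hc]
  obtain ⟨i⟩ := nonempty_extSh_iso hreg (om k N) (CohFinite.isCoh_twist N k _).1 hC
  obtain ⟨j⟩ := ExtShX.nonempty_extShIso ((Scheme.Modules.pushforward ι).obj (Coh.structureModule X)) c (om k N)
  exact ⟨(Scheme.Modules.pushforward ι).mapIso e.symm ≪≫ i.symm ≪≫ j⟩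

end Groth.Agent.ExtFund
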