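import Groth.Agent.ExtFund.Smooth
import Groth.Agent.ExtFund.Pn
import Groth.Agent.PnSpec.Twist
import Groth.Agent.PBundle.TopPower
import Groth.Agent.PBundle.Local
import Groth.Agent.PBundle.Free
import Groth.Agent.CycPB.BundleSmooth
import Groth.Agent.S5792
import Groth.Agent.CMChart.OverField
import Groth.Agent.S10829

/-!
Top forms of a smooth projective scheme are a dualizing sheaf.
-/

set_option autoImplicit false
set_option backward.isDefEq.respectTransparency false
set_option backward.isDefEq.respectTransparency.types false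
set_option linter.style.haveILetI false
set_option maxHeartbeats 1000000

universe u

open CategoryTheory CategoryTheory.Limits AlgebraicGeometry TopologicalSpace Opposite
open Groth.Agent.SerrePn

noncomputable section

namespace Groth.Agent.ExtFund

variable {X : Scheme.{u}}

theorem isInvertible_of_hasDet {n : ℕ} {E L : X.Modules} (h : DetDeg.HasDet n E L) : PicF.IsInvertible L := by
  obtain ⟨ι, C, hcov, -⟩ := h
  exact InvGen.isInvertible fun x => ⟨_, _, (hcov x).choose_spec, (C (hcov x).choose).gen⟩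

/-- The zeroth determinant is trivial. -/
theorem nonempty_iso_structure_of_hasDet_zero {E L : X.Modules} (h : DetDeg.HasDet 0 E L) :
    Nonempty (L ≅ Coh.structureModule X) := by
  obtain ⟨ι, C, hcov, hcomp⟩ := h
  refine nonempty_iso_of_gens (fun i => (C i).U) hcov (fun i => (C i).l) (fun i => W7Hull.one (C i).U)
    (fun i => (C i).gen) (fun i => W7Hull.isGen_one _) fun i j V hi hj r hr => ?_
  rw [(hcomp i j).sec hi hj 0 (fun t => t.elim0), Matrix.det_fin_zero] at hr
  obtain rfl : (1 : Γ(X, V)) = r := ((C i).gen V hi).1 hr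
  change (X.presheaf.map (homOfLE hj).op).hom 1 = (1 : Γ(X, V)) * (X.presheaf.map (homOfLE hi).op).hom 1
  rw [map_one, map_one, mul_one]

variable {k : Type u} [Field k]

theorem smoothOfRelativeDimension_projSpace (N : ℕ) :
    SmoothOfRelativeDimension N (CohB1.ProjSpace.toSpec N k) := by
  obtain ⟨e, he, -⟩ := PnSpec.exists_iso_twist N k
  haveI : Smooth (CohB1.ProjSpace.toSpec N k) := by
    rw [← he]
    infer_instance
  haveI := Horrocks.isIntegral_projSpace (k := k) (n := N)
  exact SectRank.smoothOfRelativeDimension_of_dim _ (S10829.result k N)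

/-- The top forms of projective space. -/
theorem nonempty_top_projSpace (N : ℕ) {L : (CohB1.ProjSpace N k).Modules}
    (hL : ExtPow.IsExtPow N (Omega.sheaf (CohB1.ProjSpace.toSpec N k)) L) : Nonempty (L ≅ om k N) := by
  obtain ⟨e, he, ht⟩ := PnSpec.exists_iso_twist N k
  let B := CohB1.ProjSpaceOver.toBase N (Spec (CommRingCat.of k))
  haveI hN := smoothOfRelativeDimension_projSpace (k := k) N
  haveI : IsProper (CohB1.ProjSpace.toSpec N k) := ProjMor.isProper_toSpec N k
  have hB : B = e.inv ≫ CohB1.ProjSpace.toSpec N k := by rw [← he, Iso.inv_hom_id_assoc]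
  haveI : SmoothOfRelativeDimension N B := by
    have h : SmoothOfRelativeDimension (0 + N) (e.inv ≫ CohB1.ProjSpace.toSpec N k) := inferInstance
    rwa [zero_add, ← hB] at h
  haveI : QuasiSeparated B := by rw [hB]; infer_instance
  haveI : SmoothOfRelativeDimension N (e.hom ≫ B) := by rw [he]; exact hN
  haveI : QuasiSeparated (e.hom ≫ B) := inferInstance
  obtain ⟨L', -, hL'⟩ := SGA6Ext.exists_extPow N (Omega.sheaf B)
    (fun x => ⟨_, _, (isFinLocFreeOfRank_omega B N x).choose_spec.1, (isFinLocFreeOfRank_omega B N x).choose_spec.2⟩)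
  obtain ⟨t⟩ := PBundle.isInverseOf_topPower (PBundle.isProjBundle_free N _)
    (OmegaLib.isUniversal_dOmega B) hL'
  obtain ⟨w⟩ := W7Hull.nonempty_twistOver_pow N (Spec (CommRingCat.of k)) (N + 1)
  obtain ⟨a⟩ : Nonempty (L' ≅ Twist.twistOver N (Spec (CommRingCat.of k)) (-((N : ℤ) + 1))) := by
    refine PBundle.nonempty_iso_of_isInverse ⟨PicGrp.tensorModIso (Iso.refl L') w ≪≫ t⟩ ?_
    have h := PBundle.isInverseOf_twistOver N (Spec (CommRingCat.of k)) ((N + 1 : ℕ) : ℤ)
    rwa [show -((N : ℤ) + 1) = -((N + 1 : ℕ) : ℤ) by push_cast; ring]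
  obtain ⟨b⟩ := ht (-((N : ℤ) + 1))
  have hc := isFinLocFreeOfRank_conormal B e.hom N N
  rw [Nat.sub_self] at hc
  obtain ⟨L0, -, hL0⟩ := SGA6Ext.exists_extPow 0 (Omega.conormal e.hom)
    (fun x => ⟨_, _, (hc x).choose_spec.1, (hc x).choose_spec.2⟩)
  obtain ⟨z⟩ := nonempty_iso_structure_of_hasDet_zero (DetDeg.hasDet_of_isExtPow hc hL0)
  obtain ⟨d⟩ := nonempty_adjunction B e.hom N N 0 (Nat.zero_add N).symm hL' (ωY := L) (by rw [he]; exact hL) hL0
  exact ⟨(SecTwist.unitorR L).symm ≪≫ PicGrp.tensorModIso (Iso.refl _) z.symm ≪≫ d.symm ≪≫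
    (Scheme.Modules.pullback e.hom).mapIso a ≪≫ b⟩

theorem topologicalKrullDim_le_of_smooth (p : X ⟶ Spec (CommRingCat.of k)) (r : ℕ) [SmoothOfRelativeDimension r p] :
    topologicalKrullDim X ≤ (r : WithBot ℕ∞) := by
  haveI : Smooth p := SmoothOfRelativeDimension.smooth r p
  rw [S5792.result X]
  refine iSup_le fun x => ?_
  rw [← CMChart.fibreDimAt_eq_localDim p x, LocalDimBC.fibreDimAt_of_smoothOfRelativeDimension r p x]

variable [X.Over (Spec (CommRingCat.of k))]

/-- Top forms are dualizing. -/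
theorem exists_trace_smooth {N r : ℕ} (ι : X ⟶ CohB1.ProjSpace N k) [IsClosedImmersion ι]
    (hι : ι ≫ CohB1.ProjSpace.toSpec N k = X ↘ Spec (CommRingCat.of k))
    [SmoothOfRelativeDimension r (X ↘ Spec (CommRingCat.of k))] (Ω : X.Modules)
    (hΩ : ExtPow.IsExtPow r (Omega.sheaf (X ↘ Spec (CommRingCat.of k))) Ω) :
    ∃ t : Coh.HH X Ω r →ₗ[k] k, ∀ F : X.Modules, Coh.IsCoh F → ∀ ψ : Coh.HH X F r →ₗ[k] k, ∃! φ : F ⟶ Ω,
      ∀ x : Coh.HH X F r, ψ x = t (Sheaf.H.map ((SheafOfModules.toSheaf X.ringCatSheaf).map φ) r x) := by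
  by_cases hX : IsEmpty X
  · have key : ∀ {A B : X.Modules} (φ ψ : A ⟶ B), φ = ψ := fun φ ψ => Scheme.Modules.hom_ext _ _ fun V => by
      ext s
      exact QC.section_eq_of_locally fun x _ => isEmptyElim x
    refine ⟨0, fun F _ ψ => ⟨0, fun x => ?_, fun φ _ => key _ _⟩⟩
    have h2 : (SheafOfModules.toSheaf X.ringCatSheaf).map (0 : F ⟶ F) =
        𝟙 ((SheafOfModules.toSheaf X.ringCatSheaf).obj F) := by
      rw [key (0 : F ⟶ F) (𝟙 F)]
      exact CategoryTheory.Functor.map_id _ _
    have h1 : x = 0 := by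
      have h3 := (Sheaf.H.map_id_apply x).symm
      rw [← h2, Functor.map_zero] at h3
      refine h3.trans ?_
      have h4 := Sheaf.H.map_add_apply (0 : (SheafOfModules.toSheaf X.ringCatSheaf).obj F ⟶ (SheafOfModules.toSheaf X.ringCatSheaf).obj F) 0 x
      rw [add_zero] at h4
      exact add_eq_left.1 h4.symm
    rw [h1, map_zero]
    rfl
  haveI := CohFinite.isNoetherian_projSpace N k
  haveI hN := smoothOfRelativeDimension_projSpace (k := k) N
  haveI : IsProper (CohB1.ProjSpace.toSpec N k) := ProjMor.isProper_toSpec N k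
  haveI hr' : SmoothOfRelativeDimension r (ι ≫ CohB1.ProjSpace.toSpec N k) := by rw [hι]; infer_instance
  haveI : Smooth (ι ≫ CohB1.ProjSpace.toSpec N k) := SmoothOfRelativeDimension.smooth r _
  haveI : Smooth (CohB1.ProjSpace.toSpec N k) := SmoothOfRelativeDimension.smooth N _
  have hrN : r ≤ N := by
    obtain ⟨y⟩ := not_isEmpty_iff.1 hX
    obtain ⟨_, j, -, -, hk⟩ := OmegaLib.conormal_locFree_rank (f := CohB1.ProjSpace.toSpec N k) (j := ι) y
    rw [LocalDimBC.fibreDimAt_of_smoothOfRelativeDimension N _ (ι y),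
      LocalDimBC.fibreDimAt_of_smoothOfRelativeDimension r (ι ≫ CohB1.ProjSpace.toSpec N k) y] at hk
    obtain rfl : N = r + j := by exact_mod_cast hk
    exact Nat.le_add_right _ _
  have hreg := isRegularImmersion_of_smooth (CohB1.ProjSpace.toSpec N k) ι N r
  have hc := isFinLocFreeOfRank_conormal (CohB1.ProjSpace.toSpec N k) ι N r
  obtain ⟨C, hCf, hC⟩ := SGA6Ext.exists_extPow (N - r) (Omega.conormal ι)
    (fun y => ⟨_, _, (hc y).choose_spec.1, (hc y).choose_spec.2⟩)
  obtain ⟨Lp, -, hLp⟩ := SGA6Ext.exists_extPow N (Omega.sheaf (CohB1.ProjSpace.toSpec N k))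
    (fun x => ⟨_, _, (isFinLocFreeOfRank_omega _ N x).choose_spec.1, (isFinLocFreeOfRank_omega _ N x).choose_spec.2⟩)
  obtain ⟨a⟩ := nonempty_top_projSpace N hLp
  obtain ⟨d⟩ := nonempty_adjunction (CohB1.ProjSpace.toSpec N k) ι N r (N - r) (Nat.sub_add_cancel hrN).symm
    hLp (ωY := Ω) (by rw [hι]; exact hΩ) hC
  obtain ⟨g⟩ := nonempty_sheafHom_cancel (isInvertible_pow hreg hC) hCf d
  have h := exists_trace_lci ι hι (Nat.sub_le N r) hreg
    (by rw [Nat.sub_sub_self hrN]; exact topologicalKrullDim_le_of_smooth (X ↘ Spec (CommRingCat.of k)) r) C hC Ω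
    ((DCoh.sheafHom C).mapIso ((Scheme.Modules.pullback ι).mapIso a.symm) ≪≫ g)
  rwa [Nat.sub_sub_self hrN] at h

end Groth.Agent.ExtFund
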