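import Groth.Agent.ExtFund.DetSES
import Groth.Agent.OmegaLib.FiniteType
import Groth.Agent.OmegaLib.Smooth
import Groth.Agent.OmegaLib.SmoothRank
import Groth.Agent.OmegaLib.Compat
import Groth.Agent.GrpOmega.Diff
import Groth.Agent.S5976
import Groth.Agent.LocalDimBC.Smooth
import Groth.Agent.TMul.Assoc

/-!
The adjunction formula: for smooth `Y` in smooth `X` over a base, `i^* ω_X ≅ ω_Y ⊗ ∧(conormal)`.
-/

set_option autoImplicit false
set_option backward.isDefEq.respectTransparency false
set_option linter.style.haveILetI false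
set_option backward.isDefEq.respectTransparency.types false
set_option maxHeartbeats 1000000

universe u

open CategoryTheory CategoryTheory.Limits AlgebraicGeometry TopologicalSpace Opposite

noncomputable section

namespace Groth.Agent.ExtFund

variable {S X Y : Scheme.{u}}

/-- The differentials of a morphism smooth of relative dimension `n` are locally free of rank `n`. -/
theorem isFinLocFreeOfRank_omega (f : X ⟶ S) (n : ℕ) [SmoothOfRelativeDimension n f] [QuasiSeparated f] :
    FlatMod.IsFinLocFreeOfRank n (Omega.sheaf f) := fun x => by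
  haveI : Smooth f := SmoothOfRelativeDimension.smooth n f
  obtain ⟨U, k, hxU, hU, hk⟩ := OmegaLib.exists_free_rank_fibreDimAt (OmegaLib.isUniversal_dOmega f) x
  rw [LocalDimBC.fibreDimAt_of_smoothOfRelativeDimension n f x] at hk
  obtain rfl : n = k := by exact_mod_cast hk
  exact ⟨U, hxU, hU⟩

/-- The conormal sheaf of a smooth subscheme has rank the difference of the relative dimensions. -/
theorem isFinLocFreeOfRank_conormal (f : X ⟶ S) (i : Y ⟶ X) [IsImmersion i] [QuasiCompact i] (n m : ℕ)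
    [SmoothOfRelativeDimension n f] [SmoothOfRelativeDimension m (i ≫ f)] :
    FlatMod.IsFinLocFreeOfRank (n - m) (Omega.conormal i) := fun y => by
  haveI : Smooth f := SmoothOfRelativeDimension.smooth n f
  haveI : Smooth (i ≫ f) := SmoothOfRelativeDimension.smooth m (i ≫ f)
  obtain ⟨U, k, hyU, hU, hk⟩ := OmegaLib.conormal_locFree_rank (f := f) (j := i) y
  rw [LocalDimBC.fibreDimAt_of_smoothOfRelativeDimension n f (i y),
    LocalDimBC.fibreDimAt_of_smoothOfRelativeDimension m (i ≫ f) y] at hk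
  obtain rfl : n = m + k := by exact_mod_cast hk
  rw [Nat.add_sub_cancel_left]
  exact ⟨U, hyU, hU⟩

/-- The conormal sequence of a smooth subscheme is short exact. -/
theorem exists_conormal_ses (f : X ⟶ S) (i : Y ⟶ X) [IsImmersion i] [QuasiCompact i] [Smooth (i ≫ f)]
    [QuasiSeparated f] [QuasiSeparated (i ≫ f)] :
    ∃ T : ShortComplex Y.Modules, T.ShortExact ∧ T.X₁ = Omega.conormal i ∧
      T.X₂ = (Scheme.Modules.pullback i).obj (Omega.sheaf f) ∧ T.X₃ = Omega.sheaf (i ≫ f) := by
  have hdY := OmegaLib.isUniversal_dOmega f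
  have hdX := OmegaLib.isUniversal_dOmega (i ≫ f)
  obtain ⟨φ, hφ⟩ := GrpOmega.exists_conormalDiff i (OmegaSh.dOmega f)
  obtain ⟨c, hc, -⟩ := OmegaLib.existsUnique_diffCompat (h := i) (b := 𝟙 S) (f := f) (f' := i ≫ f)
    (Category.comp_id _) hdY (OmegaSh.dOmega (i ≫ f))
  obtain ⟨he, hk⟩ := S5976.result f i _ _ hdY _ _ hdX φ hφ c hc
  haveI : Mono φ := OmegaLib.mono_conormalDiff (InfLift.isFormallySmoothHom_of_smooth (i ≫ f)) hdY hφ
  have h0 : φ ≫ c = 0 := by
    rw [← imageSubobject_arrow_comp φ, Category.assoc, ← Subobject.ofLE_arrow hk.le, Category.assoc,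
      kernelSubobject_arrow_comp, comp_zero, comp_zero]
  exact ⟨ShortComplex.mk φ c h0, { exact := (ShortComplex.mk φ c h0).exact_iff_image_eq_kernel.2 hk },
    rfl, rfl, rfl⟩

/-- The adjunction formula for top forms. -/
theorem nonempty_adjunction (f : X ⟶ S) (i : Y ⟶ X) [IsImmersion i] [QuasiCompact i] (n m c : ℕ)
    (hn : n = c + m) [SmoothOfRelativeDimension n f] [SmoothOfRelativeDimension m (i ≫ f)]
    [QuasiSeparated f] [QuasiSeparated (i ≫ f)] {ωX : X.Modules}
    (hωX : ExtPow.IsExtPow n (Omega.sheaf f) ωX) {ωY : Y.Modules}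
    (hωY : ExtPow.IsExtPow m (Omega.sheaf (i ≫ f)) ωY) {L : Y.Modules}
    (hL : ExtPow.IsExtPow c (Omega.conormal i) L) :
    Nonempty ((Scheme.Modules.pullback i).obj ωX ≅ CohB1.tensorMod ωY L) := by
  haveI : Smooth (i ≫ f) := SmoothOfRelativeDimension.smooth m (i ≫ f)
  obtain ⟨T, hT, h1, h2, h3⟩ := exists_conormal_ses f i
  have hc : FlatMod.IsFinLocFreeOfRank c (Omega.conormal i) := by
    have h := isFinLocFreeOfRank_conormal f i n m
    rwa [show n - m = c by omega] at h
  have hA : DetDeg.HasDet c T.X₁ L := by rw [h1]; exact DetDeg.hasDet_of_isExtPow hc hL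
  have hB : DetDeg.HasDet (c + m) T.X₂ ((Scheme.Modules.pullback i).obj ωX) := by
    rw [h2, ← hn]
    exact (DetDeg.hasDet_of_isExtPow (isFinLocFreeOfRank_omega f n) hωX).pullback i
  have hC : DetDeg.HasDet m T.X₃ ωY := by
    rw [h3]
    exact DetDeg.hasDet_of_isExtPow (isFinLocFreeOfRank_omega (i ≫ f) m) hωY
  obtain ⟨e⟩ := nonempty_det_iso T hT hA hB hC
  exact ⟨e ≪≫ TMul.commIso _ _⟩

end Groth.Agent.ExtFund
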