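import Groth.Agent.ExtFund.SmoothPn
import Groth.Agent.GeomProp.SmoothPoint
import Groth.Agent.CMFlat.Quotient

/-!
Local facts on schemes smooth of fixed relative dimension over a field.
-/

set_option autoImplicit false
set_option backward.isDefEq.respectTransparency false
set_option backward.isDefEq.respectTransparency.types false
set_option linter.style.haveILetI false

universe u

open CategoryTheory CategoryTheory.Limits AlgebraicGeometry TopologicalSpace

noncomputable section

namespace Groth.Agent.ExtFund

variable {k : Type u} [Field k] {X : Scheme.{u}} (p : X ⟶ Spec (CommRingCat.of k)) (n : ℕ)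
  [SmoothOfRelativeDimension n p]

include p n in
theorem isRegularLocalRing_of_smooth (x : X) : IsRegularLocalRing (X.presheaf.stalk x) := by
  haveI : Smooth p := SmoothOfRelativeDimension.smooth n p
  refine GeomProp.regular_stalk_of_mem_smoothLocus p ?_
  rw [Scheme.Hom.smoothLocus_eq_top_iff.2 inferInstance]
  trivial

include p n in
theorem cm_dim_of_smooth (x : X) (hx : IsClosed ({x} : Set X)) :
    LocCoh.IsCohenMacaulayLocalRing (X.presheaf.stalk x) ∧
      ringKrullDim (X.presheaf.stalk x) = (n : WithBot ℕ∞) := by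
  haveI := isRegularLocalRing_of_smooth p n x
  haveI : Smooth p := SmoothOfRelativeDimension.smooth n p
  refine ⟨CMFlat.isCohenMacaulayLocalRing_of_isRegularLocalRing _, ?_⟩
  obtain ⟨b, δ, hb, hl, -, hδ⟩ := CMChart.localDim_field_eq p x
  rw [← CMChart.fibreDimAt_eq_localDim p x, LocalDimBC.fibreDimAt_of_smoothOfRelativeDimension n p x,
    hδ hx, add_zero] at hl
  rw [hb]
  exact hl.symm

include p n in
theorem topologicalKrullDim_eq_of_smooth [Nonempty X] : topologicalKrullDim X = (n : WithBot ℕ∞) := by
  haveI : Smooth p := SmoothOfRelativeDimension.smooth n p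
  refine le_antisymm (topologicalKrullDim_le_of_smooth p n) ?_
  rw [S5792.result X]
  obtain ⟨x⟩ := ‹Nonempty X›
  refine le_trans (le_of_eq ?_) (le_iSup (fun y : X => FlatMor.localDim X y) x)
  rw [← CMChart.fibreDimAt_eq_localDim p x, LocalDimBC.fibreDimAt_of_smoothOfRelativeDimension n p x]

end Groth.Agent.ExtFund

namespace Groth.Agent.ExtFund

variable {k : Type u} [Field k] {N n : ℕ} {X : Scheme.{u}} [X.Over (Spec (CommRingCat.of k))]
  (ι : X ⟶ CohB1.ProjSpace N k) [IsClosedImmersion ι]
  (hι : ι ≫ CohB1.ProjSpace.toSpec N k = X ↘ Spec (CommRingCat.of k))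
  [SmoothOfRelativeDimension n (X ↘ Spec (CommRingCat.of k))] {L : X.Modules}
  (hL : ExtPow.IsExtPow n (Omega.sheaf (X ↘ Spec (CommRingCat.of k))) L)

include hι in
theorem isProper_of_closed : IsProper (X ↘ Spec (CommRingCat.of k)) := by
  haveI := ProjMor.isProper_toSpec N k
  rw [← hι]
  infer_instance

include hι hL in
theorem isInvertible_top : PicF.IsInvertible L := by
  haveI := isProper_of_closed ι hι
  exact isInvertible_of_hasDet (DetDeg.hasDet_of_isExtPow (isFinLocFreeOfRank_omega _ n) hL)

include hι hL in
theorem isCoh_top : Coh.IsCoh L :=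
  have h := ResDesc.isFinLocFree_of_isInvertible (isInvertible_top ι hι hL)
  ⟨LocFree.isQCoh_of_isFinLocFree h, LocFree.isFT_of_isFinLocFree h⟩

end Groth.Agent.ExtFund
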