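import Groth.Agent.ExtFund.Glue
import Groth.Agent.ExtShX.DualTensor
import Groth.Agent.W7Hull.InvDual

/-!
The fundamental local isomorphism `ℰxtᶜ(ι_* O_X, F) ≅ ι_* ℋom(∧ᶜ(conormal), ι^*F)`.
-/

set_option autoImplicit false
set_option linter.style.haveILetI false
set_option linter.unusedSectionVars false
set_option backward.isDefEq.respectTransparency false
set_option backward.isDefEq.respectTransparency.types false
set_option maxHeartbeats 1000000

universe u

open CategoryTheory Limits AlgebraicGeometry TopologicalSpace Opposite Abelian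

noncomputable section

namespace Groth.Agent.ExtFund

variable {P X : Scheme.{u}} {ι : X ⟶ P} [IsClosedImmersion ι] {c : ℕ} {L : X.Modules}
  (hι : RegImm.IsRegularImmersionOfCodim RegImm.Kind.regular c ι)

include hι in
/-- The top exterior power of the conormal sheaf of a regular immersion is invertible. -/
theorem isInvertible_pow (hL : ExtPow.IsExtPow c (Omega.conormal ι) L) : PicF.IsInvertible L := by
  obtain ⟨T⟩ := nonempty_powData hL
  refine InvGen.isInvertible fun x => ?_
  obtain ⟨U, l, hxU, hl⟩ := exists_good hι x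
  exact ⟨ι ⁻¹ᵁ U, lam T hl, hxU, isGen_lam T hl⟩

include hι in
theorem isFinLocFree_pow (hL : ExtPow.IsExtPow c (Omega.conormal ι) L) : FlatMod.IsFinLocFree L := by
  obtain ⟨T⟩ := nonempty_powData hL
  refine isFinLocFree_of_frames fun x => ?_
  obtain ⟨U, l, hxU, hl⟩ := exists_good hι x
  exact ⟨ι ⁻¹ᵁ U, 1, _, hxU, isFrame_lam T hl⟩

variable [HasExt.{u} P.Modules] [IsLocallyNoetherian P]

include hι in
theorem nonempty_E_iso {F : P.Modules} (hF : Coh.IsQCoh F) (hL : ExtPow.IsExtPow c (Omega.conormal ι) L)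
    (D : EdgeData ι c F) :
    Nonempty (D.E ≅ (DCoh.sheafHom L).obj ((Scheme.Modules.pullback ι).obj F)) := by
  obtain ⟨T⟩ := nonempty_powData hL
  obtain ⟨e⟩ := nonempty_pullback_iso T D hι hF
  obtain ⟨h⟩ := ExtShX.nonempty_homDual (isFinLocFree_pow hι hL) ((Scheme.Modules.pullback ι).obj F)
  haveI := W7Hull.isIso_evDual (isInvertible_pow hι hL)
  let v : CohB1.tensorMod L ((DCoh.sheafHom L).obj (Coh.structureModule X)) ≅ Coh.structureModule X :=
    PicGrp.tensorModIso (Iso.refl L) ((W7Hull.sheafHomIso L).app (Coh.structureModule X)) ≪≫ asIso (W7Hull.evDual L)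
  exact ⟨(h ≪≫ PicGrp.tensorModIso e (Iso.refl _) ≪≫ TMul.assocIso _ _ _ ≪≫
    PicGrp.tensorModIso (Iso.refl _) v ≪≫ SecTwist.unitorR D.E).symm⟩

include hι in
theorem nonempty_extSh_iso (F : P.Modules) (hF : Coh.IsQCoh F) (hL : ExtPow.IsExtPow c (Omega.conormal ι) L)
    [ModSite.HasSheafHom (O := P.sheaf) ((Scheme.Modules.pushforward ι).obj (Coh.structureModule X))]
    [HasInjectiveResolutions (ModSite.Mod P.sheaf)] :
    Nonempty ((ModSite.extSh (O := P.sheaf) ((Scheme.Modules.pushforward ι).obj (Coh.structureModule X)) c).obj F ≅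
      (Scheme.Modules.pushforward ι).obj ((DCoh.sheafHom L).obj ((Scheme.Modules.pullback ι).obj F))) := by
  obtain ⟨D, ⟨e⟩⟩ := exists_data ι c F
  obtain ⟨e'⟩ := nonempty_E_iso hι hF hL D
  exact ⟨e.symm ≪≫ (Scheme.Modules.pushforward ι).mapIso e'⟩

/-- The two internal homs agree. -/
def sheafHomSiteIso (L : X.Modules) [ModSite.HasSheafHom (O := X.sheaf) L] :
    @Iso (X.Modules ⥤ X.Modules) _ (ModSite.sheafHom (O := X.sheaf) L) (DCoh.sheafHom L) :=
  (ModSite.sheafHomAdj (O := X.sheaf) L).rightAdjointUniq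
    ((DCoh.sheafHomAdj L).ofNatIsoLeft (W7Flasque.tensorIso L).symm)

end Groth.Agent.ExtFund
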