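import Groth.Agent.ExtFund.Adjunction
import Groth.Agent.ExtFund.Main
import Groth.Agent.KoszulLib.SchAt
import Groth.Agent.KoszulLib.SchNoeth
import Groth.Agent.SectRank.Main
import Groth.Agent.SGA6Ext.Exists
import Groth.Agent.Conormal.Basic
import Groth.Agent.TMul.AmpleBasis
import Groth.Agent.PBundle.FrameTools

/-!
Smooth subschemes of smooth schemes are regularly immersed; the Ext description of their top forms.
-/

set_option autoImplicit false
set_option backward.isDefEq.respectTransparency false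
set_option backward.isDefEq.respectTransparency.types false
set_option linter.style.haveILetI false
set_option maxHeartbeats 1000000

universe u

open CategoryTheory CategoryTheory.Limits AlgebraicGeometry TopologicalSpace Opposite Abelian

noncomputable section

namespace Groth.Agent.ExtFund

variable {S X Y : Scheme.{u}}

theorem isKoszulAt_smooth (f : X ⟶ S) [Smooth f] (x : X) : Synt.IsKoszulAt f x := by
  let T : Scheme.{u} := ((⊤ : X.Opens) : Scheme.{u})
  have hid : RegImm.IsRegularImmersion RegImm.Kind.koszul (𝟙 T) := by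
    refine ⟨inferInstance, fun z => ?_⟩
    obtain ⟨U, hU, hc, rs, -, hrs, hker⟩ :=
      (SectRank.isRegularImmersionOfCodim_of_section 0 (𝟙 T) (𝟙 T) (Category.comp_id _)).2 z
    exact ⟨U, hU, hc, rs, KoszulLib.seq_of_regular _ _ _ hrs, hker⟩
  exact ⟨⊤, T, 𝟙 T, (⊤ : X.Opens).ι ≫ f, trivial, inferInstance, hid, inferInstance, Category.id_comp _⟩

lemma card_eq_of_frames {N : Y.Modules} {U V : Y.Opens} {r c : ℕ} {e : Fin r → Γ(N, U)} {e' : Fin c → Γ(N, V)}
    (he : TMul.IsFrame e) (he' : TMul.IsFrame e') {y : Y} (hU : y ∈ U) (hV : y ∈ V) : r = c := by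
  let b : ∀ {m : ℕ} {W : Y.Opens} (s : Fin m → Γ(N, W)), TMul.IsFrame s → y ∈ W →
      ((Fin m → Y.presheaf.stalk y) ≃ₗ[Y.presheaf.stalk y] N.presheaf.stalk y) := fun s hs hy =>
    LinearEquiv.ofBijective (Fintype.linearCombination (Y.presheaf.stalk y) fun i => WeakAssLib.mgerm N hy (s i))
      (by
        convert hs y hy using 1
        funext c
        rw [Fintype.linearCombination_apply])
  simpa using ((b e he hU).trans (b e' he' hV).symm).finrank_eq

/-- A closed subscheme, smooth, of a smooth scheme over a base with locally noetherian total space is regularly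
immersed, of codimension the rank of the conormal sheaf. -/
theorem isRegularImmersion_of_smooth [IsLocallyNoetherian X] (f : X ⟶ S) (i : Y ⟶ X) [IsClosedImmersion i]
    (n m : ℕ) [SmoothOfRelativeDimension n f] [SmoothOfRelativeDimension m (i ≫ f)] :
    RegImm.IsRegularImmersionOfCodim RegImm.Kind.regular (n - m) i := by
  haveI : Smooth f := SmoothOfRelativeDimension.smooth n f
  haveI : Smooth (i ≫ f) := SmoothOfRelativeDimension.smooth m (i ≫ f)
  refine ⟨inferInstance, fun y => ?_⟩
  have h1 : RegImm.IsRegularImmersionAt .koszul ((⊤ : Y.Opens).ι ≫ i) ⟨y, trivial⟩ :=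
    KoszulLib.isRegularImmersionAt_of_isKoszulAt (i ≫ f) (isKoszulAt_smooth _ y) ⊤ trivial _ f
      (by rw [Category.assoc])
  obtain ⟨U, hyU, hc, rs, hseq, hker⟩ := (KoszulLib.isRegularImmersionAt_kind_iff .koszul .regular i y).1
    ((KoszulLib.isRegularImmersionAt_restrict_iff i ⊤ _).1 h1)
  refine ⟨U, hyU, hc, rs, ?_, hseq, hker⟩
  have hspan : Ideal.ofList rs.reverse = Ideal.ofList rs := by simp [Ideal.ofList]
  have hg : IsGood i rs.length U.1 rs.reverse := IsGood.of_reg U.2 (List.length_reverse) (fun z hz => by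
    letI : Algebra Γ(X, U.1) (X.presheaf.stalk z) := (X.presheaf.germ U.1 z hz).hom.toAlgebra
    haveI : IsLocalization (U.2.primeIdealOf ⟨z, hz⟩).asIdeal.primeCompl (X.presheaf.stalk z) :=
      U.2.isLocalization_stalk ⟨z, hz⟩
    rw [List.reverse_reverse]
    exact hseq.toIsWeaklyRegular.of_isLocalization (S := X.presheaf.stalk z)
      (U.2.primeIdealOf ⟨z, hz⟩).asIdeal.primeCompl) (hker.trans hspan.symm)
  obtain ⟨b, -⟩ := exists_basis_cls hg
  have hfr : TMul.IsFrame (fun j => b j) := PBundle.isFrame_of_bijective (Conormal.isQCoh_conormal i) hg.preimage (by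
    convert b.equivFun.symm.bijective using 1
    funext a
    rw [Module.Basis.equivFun_symm_apply])
  obtain ⟨V, e', hyV, he'⟩ := CurveRR.exists_frame (isFinLocFreeOfRank_conormal f i n m) y
  exact card_eq_of_frames hfr he' hyU hyV

theorem nonempty_iso_of_isEmpty [IsEmpty X] (M N : X.Modules) : Nonempty (M ≅ N) := by
  have key : ∀ {A B : X.Modules} (φ ψ : A ⟶ B), φ = ψ := fun φ ψ => Scheme.Modules.hom_ext _ _ fun V => by
    ext s
    exact QC.section_eq_of_locally fun x _ => isEmptyElim x
  exact ⟨⟨0, 0, key _ _, key _ _⟩⟩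

theorem nonempty_sheafHom_cancel {L M E : X.Modules} [DCoh.HasSheafHom L] (hL : PicF.IsInvertible L)
    (hL' : FlatMod.IsFinLocFree L) (e : M ≅ CohB1.tensorMod E L) : Nonempty ((DCoh.sheafHom L).obj M ≅ E) := by
  obtain ⟨h⟩ := ExtShX.nonempty_homDual hL' M
  haveI := W7Hull.isIso_evDual hL
  let v : CohB1.tensorMod L ((DCoh.sheafHom L).obj (Coh.structureModule X)) ≅ Coh.structureModule X :=
    PicGrp.tensorModIso (Iso.refl L) ((W7Hull.sheafHomIso L).app (Coh.structureModule X)) ≪≫ asIso (W7Hull.evDual L)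
  exact ⟨h ≪≫ PicGrp.tensorModIso e (Iso.refl _) ≪≫ TMul.assocIso _ _ _ ≪≫
    PicGrp.tensorModIso (Iso.refl _) v ≪≫ SecTwist.unitorR E⟩

/-- Top forms of a smooth subscheme as an Ext sheaf. -/
theorem nonempty_extSh_omega [IsLocallyNoetherian S] (f : X ⟶ S) (i : Y ⟶ X) [IsClosedImmersion i] (n m : ℕ)
    [SmoothOfRelativeDimension n f] [SmoothOfRelativeDimension m (i ≫ f)] {ωX : X.Modules}
    (hωX : ExtPow.IsExtPow n (Omega.sheaf f) ωX) {ωY : Y.Modules}
    (hωY : ExtPow.IsExtPow m (Omega.sheaf (i ≫ f)) ωY)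
    [ModSite.HasSheafHom (O := X.sheaf) ((Scheme.Modules.pushforward i).obj (Coh.structureModule Y))]
    [HasInjectiveResolutions (ModSite.Mod X.sheaf)] :
    Nonempty ((Scheme.Modules.pushforward i).obj ωY ≅
      (ModSite.extSh (O := X.sheaf) ((Scheme.Modules.pushforward i).obj (Coh.structureModule Y)) (n - m)).obj ωX) := by
  haveI : Smooth f := SmoothOfRelativeDimension.smooth n f
  haveI : Smooth (i ≫ f) := SmoothOfRelativeDimension.smooth m (i ≫ f)
  haveI : IsLocallyNoetherian X := LocallyOfFiniteType.isLocallyNoetherian f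
  haveI : IsLocallyNoetherian Y := LocallyOfFiniteType.isLocallyNoetherian (i ≫ f)
  haveI : HasExt.{u} X.Modules := hasExt_of_enoughInjectives _
  have hι := isRegularImmersion_of_smooth f i n m
  have hc := isFinLocFreeOfRank_conormal f i n m
  obtain ⟨L, hLf, hL⟩ := SGA6Ext.exists_extPow (n - m) (Omega.conormal i)
    (fun y => ⟨_, _, (hc y).choose_spec.1, (hc y).choose_spec.2⟩)
  have hωq : Coh.IsQCoh ωX := by
    obtain ⟨ι', C, hcov, -⟩ := DetDeg.hasDet_of_isExtPow (isFinLocFreeOfRank_omega f n) hωX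
    exact TMul.isQCoh_of_isInvertible (InvGen.isInvertible fun x => ⟨_, _, (hcov x).choose_spec, (C (hcov x).choose).gen⟩)
  obtain ⟨e⟩ := nonempty_extSh_iso hι ωX hωq hL
  suffices h : Nonempty ((DCoh.sheafHom L).obj ((Scheme.Modules.pullback i).obj ωX) ≅ ωY) from
    ⟨(Scheme.Modules.pushforward i).mapIso h.some.symm ≪≫ e.symm⟩
  by_cases hY : IsEmpty Y
  · exact nonempty_iso_of_isEmpty _ _
  obtain ⟨y⟩ := not_isEmpty_iff.1 hY
  have hmn : m ≤ n := by
    obtain ⟨_, k, -, -, hk⟩ := OmegaLib.conormal_locFree_rank (f := f) (j := i) y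
    rw [LocalDimBC.fibreDimAt_of_smoothOfRelativeDimension n f (i y),
      LocalDimBC.fibreDimAt_of_smoothOfRelativeDimension m (i ≫ f) y] at hk
    obtain rfl : n = m + k := by exact_mod_cast hk
    exact Nat.le_add_right _ _
  obtain ⟨a⟩ := nonempty_adjunction f i n m (n - m) (Nat.sub_add_cancel hmn).symm hωX hωY hL
  exact nonempty_sheafHom_cancel (isInvertible_pow hι hL) hLf a

end Groth.Agent.ExtFund
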