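import Groth.Agent.ExtFund.SmoothDual
import Groth.Agent.RRSurf.Main
import Groth.Agent.Intersect.CurveOnSurface
import Groth.Agent.Nakai.SectionDim
import Groth.Agent.Nakai.SurfSeq
import Groth.Agent.ConnDiv.Basic
import Groth.Agent.CurveRR.Curve
import Groth.Agent.InfLift.SchemeSmallExt
import Groth.Agent.SerrePn.ClosedStatements

/-!
Regular projective surfaces over an algebraically closed field.
-/

set_option autoImplicit false
set_option backward.isDefEq.respectTransparency false
set_option backward.isDefEq.respectTransparency.types false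
set_option linter.style.haveILetI false
set_option linter.unusedSectionVars false

universe u

open CategoryTheory CategoryTheory.Limits AlgebraicGeometry TopologicalSpace

noncomputable section

namespace Groth.Agent.ExtFund

variable {k : Type u} [Field k]

/-- A regular irreducible scheme of finite type over a perfect field is smooth of its dimension. -/
theorem smoothOfRelativeDimension_of_regular [PerfectField k] (Z : Scheme.{u}) [Z.Over (Spec (CommRingCat.of k))]
    [IrreducibleSpace Z] [LocallyOfFiniteType (Z ↘ Spec (CommRingCat.of k))]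
    (hr : ∀ z : Z, IsRegularLocalRing (Z.presheaf.stalk z)) (d : ℕ) (hd : topologicalKrullDim Z = (d : WithBot ℕ∞)) :
    SmoothOfRelativeDimension d (Z ↘ Spec (CommRingCat.of k)) := by
  haveI : LocallyOfFinitePresentation (Z ↘ Spec (CommRingCat.of k)) := InfLift.lfp_of_lft _
  haveI : Smooth (Z ↘ Spec (CommRingCat.of k)) := Scheme.Hom.smoothLocus_eq_top_iff.1
    (top_le_iff.1 fun z _ => (GeomProp.smoothLocus_iff_regular k Z z).2 (hr z))
  exact SectRank.smoothOfRelativeDimension_of_dim _ hd

variable [IsAlgClosed k] {X : Scheme.{u}} [X.Over (Spec (CommRingCat.of k))] [IsIntegral X]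

/-- Facts about a regular projective surface. -/
theorem surface_facts (hdim : topologicalKrullDim X = 2) (hreg : ∀ x : X, IsRegularLocalRing (X.presheaf.stalk x))
    (hproj : ∃ (n : ℕ) (ι : X ⟶ CohB1.ProjSpace n k), IsClosedImmersion ι ∧
      ι ≫ CohB1.ProjSpace.toSpec n k = (X ↘ Spec (CommRingCat.of k))) :
    IsProper (X ↘ Spec (CommRingCat.of k)) ∧ SmoothOfRelativeDimension 2 (X ↘ Spec (CommRingCat.of k)) := by
  obtain ⟨n, ι, hi, hι⟩ := hproj
  haveI := hi
  haveI := isProper_of_closed ι hι
  exact ⟨inferInstance, smoothOfRelativeDimension_of_regular X hreg 2 (hdim.trans (by norm_cast))⟩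

/-- A canonical module exists. -/
theorem exists_topPower [SmoothOfRelativeDimension 2 (X ↘ Spec (CommRingCat.of k))]
    [IsProper (X ↘ Spec (CommRingCat.of k))] :
    ∃ W : X.Modules, ExtPow.IsExtPow 2 (Omega.sheaf (X ↘ Spec (CommRingCat.of k))) W := by
  have h := isFinLocFreeOfRank_omega (X ↘ Spec (CommRingCat.of k)) 2
  obtain ⟨W, -, hW⟩ := SGA6Ext.exists_extPow 2 (Omega.sheaf (X ↘ Spec (CommRingCat.of k)))
    (fun x => ⟨_, _, (h x).choose_spec.1, (h x).choose_spec.2⟩)
  exact ⟨W, hW⟩

variable [IsProper (X ↘ Spec (CommRingCat.of k))] [SmoothOfRelativeDimension 2 (X ↘ Spec (CommRingCat.of k))]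
  {N : ℕ} (ι : X ⟶ CohB1.ProjSpace N k) [IsClosedImmersion ι]
  (hι : ι ≫ CohB1.ProjSpace.toSpec N k = X ↘ Spec (CommRingCat.of k))
  {W : X.Modules} (hW : ExtPow.IsExtPow 2 (Omega.sheaf (X ↘ Spec (CommRingCat.of k))) W)

include hι hW in
/-- Riemann–Roch. -/
theorem riemann_roch_smooth (hdim : topologicalKrullDim X = 2) (L : X.Modules) (hL : PicF.IsInvertible L) :
    2 * Curv2.euler k X L =
      FGA.intNum k X 2 ![L, L] (Coh.structureModule X) - FGA.intNum k X 2 ![L, W] (Coh.structureModule X) +
        2 * Curv2.euler k X (Coh.structureModule X) := by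
  obtain ⟨t, ht⟩ := exists_trace_smooth ι hι W hW
  refine RRSurf.riemann_roch k ι hι hdim (fun x => ?_) W (isCoh_top ι hι hW) (isInvertible_top ι hι hW) t ht L hL
  haveI := isRegularLocalRing_of_smooth (X ↘ Spec (CommRingCat.of k)) 2 x
  exact CMFlat.isCohenMacaulayLocalRing_of_isRegularLocalRing _

include hι hW in
/-- Duality for invertible modules. -/
theorem h_eq_dual {L L' : X.Modules} (hL : PicF.IsInvertible L)
    (hLL' : Nonempty (CohB1.tensorMod L' L ≅ Coh.structureModule X)) (i : ℕ) (hi : i ≤ 2) :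
    CurveRR.h k L i = CurveRR.h k (CohB1.tensorMod W L') (2 - i) := by
  haveI := CurveRR.isNoetherian_of_proper k X
  obtain ⟨t, ht⟩ := exists_trace_smooth ι hι W hW
  have hF := ResDesc.isFinLocFree_of_isInvertible hL
  obtain ⟨g⟩ := SerrePn.duality_vb ι hι (fun x hx => cm_dim_of_smooth (X ↘ Spec (CommRingCat.of k)) 2 x hx)
    W (isCoh_top ι hι hW) t ht L hF i hi
  obtain ⟨e⟩ := nonempty_sheafHom_cancel (E := CohB1.tensorMod W L') hL hF
    ((SecTwist.unitorR W).symm ≪≫ PicGrp.tensorModIso (Iso.refl W) hLL'.some.symm ≪≫ (TMul.assocIso W L' L).symm)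
  rw [← CurveRR.h_eq_of_iso e (2 - i)]
  exact Subspace.dual_finrank_eq.symm.trans g.finrank_eq

include hι hW in
/-- Vanishing of the top cohomology of invertible modules of large degree. -/
theorem subsingleton_h2_of_lt (hdim : topologicalKrullDim X = 2) {H : X.Modules} (hH : CohB1.IsAmple H)
    {L : X.Modules} (hL : PicF.IsInvertible L)
    (hlt : FGA.intNum k X 2 ![W, H] (Coh.structureModule X) < FGA.intNum k X 2 ![L, H] (Coh.structureModule X)) :
    Subsingleton (Coh.HH X L 2) := by
  haveI := CurveRR.isNoetherian_of_proper k X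
  haveI : Module.Finite k (Coh.HH X L 2) := CohFinite.finite_proper k X _ (Nakai.isCoh_inv k hL) 2
  have hd : topologicalKrullDim X ≤ ((2 : ℕ) : WithBot ℕ∞) := hdim.le.trans (le_of_eq (by norm_cast))
  have hinv := W7Hull.isInvertible_dual hL
  haveI := W7Hull.isIso_evDual hL
  let hLL' : CohB1.tensorMod L (RefHull.dual L) ≅ Coh.structureModule X := asIso (W7Hull.evDual L)
  have hWi := isInvertible_top ι hι hW
  let M := CohB1.tensorMod W (RefHull.dual L)
  have h0 := h_eq_dual ι hι hW hL ⟨TMul.commIso _ _ ≪≫ hLL'⟩ 2 le_rfl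
  by_contra hsub
  haveI : Nontrivial (Coh.HH X L 2) := not_subsingleton_iff_nontrivial.1 hsub
  have hpos : 0 < CurveRR.h k M 0 := h0 ▸ Module.finrank_pos
  obtain ⟨s, hs⟩ := Nakai.exists_section_of_h0 k hpos
  have hMi : PicF.IsInvertible M := TMul.isInvertible_tensorMod hWi hinv
  have hge : 0 ≤ Nakai.inter k M H := by
    by_cases hiso : IsIso s
    · rw [Nakai.inter_iso k (A' := Coh.structureModule X) ((PicGrp.cl_eq_cl_iff _ _).2 ⟨(asIso s).symm⟩),
        Nakai.inter_one]
    · have h := Nakai.deg_pos_of_section k hH hMi s hs hiso (e := 1) (hdim.trans (by norm_cast))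
      rw [show (-1 : ℚ) ^ (1 + 1) = 1 by norm_num, one_mul, List.replicate_one] at h
      exact h.le
  rw [Nakai.inter_tensor k hd hWi hinv hH.1, Nakai.inter_inv k hd hL ⟨hLL'⟩ hH.1,
    ← Nakai.intNum_eq_inter k hd, ← Nakai.intNum_eq_inter k hd] at hge
  have hlt' : (FGA.intNum k X 2 ![W, H] (Coh.structureModule X) : ℚ) <
      FGA.intNum k X 2 ![L, H] (Coh.structureModule X) := by exact_mod_cast hlt
  linarith

omit [IsClosedImmersion ι]
include k in
/-- The ideal of a curve on a surface. -/
theorem curve_facts (hdim : topologicalKrullDim X = 2) {C : Scheme.{u}} (i : C ⟶ X) [IsClosedImmersion i]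
    [IsIntegral C] (hC : topologicalKrullDim C = 1) :
    letI : C.Over (Spec (CommRingCat.of k)) := ⟨i ≫ (X ↘ Spec (CommRingCat.of k))⟩
    PicF.IsInvertible (ClSub.idealMod i.ker) ∧
      Curv2.euler k X (ClSub.idealMod i.ker) = Curv2.euler k X (Coh.structureModule X) - 1 + Curv2.genus k C := by
  letI : C.Over (Spec (CommRingCat.of k)) := ⟨i ≫ (X ↘ Spec (CommRingCat.of k))⟩
  haveI : IsProper (C ↘ Spec (CommRingCat.of k)) :=
    inferInstanceAs (IsProper (i ≫ (X ↘ Spec (CommRingCat.of k))))
  haveI : Smooth (X ↘ Spec (CommRingCat.of k)) := SmoothOfRelativeDimension.smooth 2 _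
  haveI := CurveRR.isNoetherian_of_proper k X
  refine ⟨(Groth.Agent.S8914.result _).2 (Intersect.isEffCartier_curve k hdim i hC), ?_⟩
  obtain ⟨hI, hQ⟩ := CurveRR.isCoh_idealMod i.ker
  have h1 : Curv2.euler k X (Coh.structureModule X) =
      Curv2.euler k X (ClSub.idealMod i.ker) + Curv2.euler k X (ClSub.quotMod i.ker) :=
    by
      have h := CurveRR.euler_add (k := k) (CurveRR.ideal_shortExact i.ker)
      dsimp only at h
      exact h hI RefStalk.isCoh_structureModule hQ
  have h2 : Curv2.euler k X (ClSub.quotMod i.ker) = 1 - Curv2.genus k C := by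
    rw [← CurveRR.euler_structure (k := k) hC.le ConnDiv.h0_structure,
      ← CurveRR.euler_eq_of_iso (SecTwist.unitorR (ClSub.quotMod i.ker)),
      Intersect.euler_quot_twist k i TMul.isInvertible_structureModule,
      CurveRR.euler_eq_of_iso (PicLoc.pullbackStructureIso i)]
  omega

end Groth.Agent.ExtFund
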