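import Groth.Agent.PBundle.TopPower
import Groth.Agent.PBundle.FrameTools
import Groth.Agent.DerPerf.Tensor

/-!
A module with frames near every point is finite locally free.
-/

set_option autoImplicit false
set_option linter.style.haveILetI false
set_option backward.isDefEq.respectTransparency false
set_option backward.isDefEq.respectTransparency.types false

universe u

open CategoryTheory CategoryTheory.Limits AlgebraicGeometry TopologicalSpace Opposite

noncomputable section

namespace Groth.Agent.ExtFund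

variable {Y : Scheme.{u}} {n : ℕ}

theorem nonempty_iso_free {M : Y.Modules} {U : Y.Opens} (hU : U = ⊤) {e : Fin n → Γ(M, U)} (he : TMul.IsFrame e) :
    Nonempty (M ≅ FlatMod.freeMod Y n) := by
  subst hU
  obtain ⟨φ, hφ⟩ := PBundle.exists_hom_frame he rfl (PBundle.bv Y)
  obtain ⟨ψ, hψ⟩ := PBundle.exists_hom_frame (PBundle.isFrame_bv Y n) rfl e
  exact ⟨⟨φ, ψ, PBundle.hom_ext_frame he rfl fun i => by
      show ψ.app ⊤ (φ.app ⊤ (e i)) = e i
      rw [hφ, hψ],
    PBundle.hom_ext_frame (PBundle.isFrame_bv Y n) rfl fun i => by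
      show φ.app ⊤ (ψ.app ⊤ (PBundle.bv Y i)) = PBundle.bv Y i
      rw [hψ, hφ]⟩⟩

theorem isFinLocFree_of_frames {M : Y.Modules}
    (h : ∀ y : Y, ∃ (U : Y.Opens) (n : ℕ) (e : Fin n → Γ(M, U)), y ∈ U ∧ TMul.IsFrame e) :
    FlatMod.IsFinLocFree M := by
  refine DerPerf.isFinLocFree_iff_isFreeOn.2 fun y => ?_
  obtain ⟨U, n, e, hy, he⟩ := h y
  exact ⟨U, hy, n, nonempty_iso_free (U.ι_preimage_self) (he.pullback U.ι)⟩

end Groth.Agent.ExtFund
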