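import Groth.Agent.ExtFund.DetSES
import Groth.Agent.ExtFund.Frames
import Groth.Agent.ExtFund.Adjunction
import Groth.Agent.SGA6Ext.Exists
import Groth.Agent.OmegaLib.BaseChange
import Groth.Agent.S9711
import Groth.Agent.S9371

/-!
Calculus of determinants: uniqueness, transport, exterior powers from determinants.
-/

set_option autoImplicit false
set_option backward.isDefEq.respectTransparency false
set_option backward.isDefEq.respectTransparency.types false
set_option linter.style.haveILetI false
set_option maxHeartbeats 1000000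

universe u

open CategoryTheory CategoryTheory.Limits AlgebraicGeometry TopologicalSpace Opposite
open Groth.Agent.QC (res resO res_res res_smul app_res)
open Groth.Agent.WeakAssLib (mgerm mgerm_res stalkHom stalkHom_germ stalkHom_smul)
open TMul (IsFrame IsGen app_smul)
open Groth.Agent.DetDeg (Chart Compat HasDet exists_change)

noncomputable section

namespace Groth.Agent.ExtFund

variable {X : Scheme.{u}} {n : ℕ} {E E' L L' : X.Modules}

/-- Determinants are unique. -/
theorem hasDet_unique (h : HasDet n E L) (h' : HasDet n E L') : Nonempty (L ≅ L') := by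
  obtain ⟨ιA, A, covA, cmpA⟩ := h
  obtain ⟨ιB, B, covB, cmpB⟩ := h'
  choose i hi using covA
  choose j hj using covB
  let W : X → X.Opens := fun x => (A (i x)).U ⊓ (B (j x)).U
  choose P hP using fun x t => (A (i x)).frame.comb_surjective (inf_le_left : W x ≤ (A (i x)).U)
    (res E (inf_le_right : W x ≤ (B (j x)).U) ((B (j x)).e t))
  have hPu : ∀ x, IsUnit (Matrix.of (P x)).det := fun x =>
    isUnit_det_of_frames (W7Strat.isFrame_res (A (i x)).frame inf_le_left)
      (W7Strat.isFrame_res (B (j x)).frame inf_le_right) fun t => (hP x t).symm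
  refine nonempty_iso_of_gens W (fun x => ⟨x, hi x, hj x⟩)
    (fun x => (Matrix.of (P x)).det • res L (inf_le_left : W x ≤ (A (i x)).U) (A (i x)).l)
    (fun x => res L' (inf_le_right : W x ≤ (B (j x)).U) (B (j x)).l)
    (fun x => isGen_smul ((A (i x)).gen.res _) (hPu x)) (fun x => (B (j x)).gen.res _) fun p q V hp hq r hr => ?_
  have hpA : V ≤ (A (i p)).U := hp.trans inf_le_left
  have hqA : V ≤ (A (i q)).U := hq.trans inf_le_left
  have hpB : V ≤ (B (j p)).U := hp.trans inf_le_right
  have hqB : V ≤ (B (j q)).U := hq.trans inf_le_right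
  obtain ⟨mA, hmA, -⟩ := exists_change (A (i p)) (A (i q)) hpA hqA
  obtain ⟨mB, hmB, -⟩ := exists_change (B (j p)) (B (j q)) hpB hqB
  have hlA := (cmpA (i p) (i q)).sec hpA hqA mA hmA
  have hlB := (cmpB (j p) (j q)).sec hpB hqB mB hmB
  have hres : ∀ x (h : V ≤ W x) t, res E (h.trans inf_le_right) ((B (j x)).e t) =
      ∑ u, ((Matrix.of (P x)).map (resO X h)) t u • res E (h.trans inf_le_left) ((A (i x)).e u) := fun x h t => by
    rw [show res E (h.trans inf_le_right) ((B (j x)).e t) = res E h (res E (inf_le_right : W x ≤ (B (j x)).U) ((B (j x)).e t))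
      from (res_res _ _ _ _).symm, ← hP x t, map_sum]
    exact Finset.sum_congr rfl fun u _ => by rw [res_smul, res_res]; rfl
  have hmat : (Matrix.of (P q)).map (resO X hq) * mA = mB * (Matrix.of (P p)).map (resO X hp) := by
    funext t
    refine (A (i p)).frame.comb_injective hpA ?_
    change ∑ u, _ • _ = ∑ u, _ • _
    rw [← comb_comb, ← comb_comb]
    simp only [← hmA, ← hres]
    rw [hmB]
  have hdet := congrArg Matrix.det hmat
  rw [Matrix.det_mul, Matrix.det_mul, ← RingHom.mapMatrix_apply, ← RingHom.map_det,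
    ← RingHom.mapMatrix_apply, ← RingHom.map_det] at hdet
  have hr' : r = mB.det := by
    refine ((isGen_smul ((A (i p)).gen.res (inf_le_left : W p ≤ (A (i p)).U)) (hPu p)) V hp).1 ?_
    change r • res L hp _ = mB.det • res L hp _
    rw [← hr]
    rw [res_smul, res_smul]
    erw [res_res, res_res]
    rw [hlA, smul_smul, smul_smul, hdet]
  rw [hr', res_res, res_res, hlB]

lemma stalkHom_bijective (φ : E ≅ E') (x : X) : Function.Bijective (stalkHom φ.hom x) :=
  ConcreteCategory.bijective_of_isIso ((DerSch.stalkFunctor X x).map φ.hom)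

/-- A chart transported along an isomorphism of the module. -/
def chartMap (φ : E ≅ E') (c : Chart n E L) : Chart n E' L where
  U := c.U
  e i := φ.hom.app c.U (c.e i)
  l := c.l
  frame x hx := by
    have h : (fun d : Fin n → X.presheaf.stalk x => ∑ i, d i • mgerm E' hx (φ.hom.app c.U (c.e i))) =
        stalkHom φ.hom x ∘ fun d => ∑ i, d i • mgerm E hx (c.e i) := by
      funext d
      rw [Function.comp_apply, map_sum]
      simp only [stalkHom_smul, stalkHom_germ]
    rw [h]
    exact (stalkHom_bijective φ x).comp (c.frame x hx)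
  gen := c.gen

/-- Determinants transport along isomorphisms of the module. -/
theorem hasDet_congr (φ : E ≅ E') (h : HasDet n E L) : HasDet n E' L := by
  obtain ⟨ι, C, hcov, hcmp⟩ := h
  refine ⟨ι, fun i => chartMap φ (C i), hcov, fun p q x hc hd M hM => hcmp p q x hc hd M fun t => ?_⟩
  refine (stalkHom_bijective φ x).1 ?_
  rw [map_sum]
  simp only [stalkHom_smul, stalkHom_germ]
  exact hM t

theorem isFinLocFree_of_hasDet (h : HasDet n E L) : FlatMod.IsFinLocFree E := by
  obtain ⟨ι, C, hcov, -⟩ := h
  exact isFinLocFree_of_frames fun x => ⟨_, n, _, (hcov x).choose_spec, (C (hcov x).choose).frame⟩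

theorem isFinLocFreeOfRank_of_hasDet (h : HasDet n E L) : FlatMod.IsFinLocFreeOfRank n E := by
  obtain ⟨ι, C, hcov, -⟩ := h
  intro x
  obtain ⟨i, hi⟩ := hcov x
  obtain ⟨e⟩ := nonempty_iso_free ((C i).U.ι_preimage_self) ((C i).frame.pullback (C i).U.ι)
  exact ⟨(C i).U, hi, ⟨(Scheme.Modules.restrictFunctorIsoPullback (C i).U.ι).app E ≪≫ e⟩⟩

theorem isExtPow_congr {m : ℕ} (φ : L ≅ L') (h : ExtPow.IsExtPow m E L) : ExtPow.IsExtPow m E L' := by
  obtain ⟨ψ, hψ⟩ := h
  let f : ∀ U : X.affineOpens, (L.val.obj (op U.1)) ≃ₗ[Γ(X, U.1)] (L'.val.obj (op U.1)) := fun U =>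
    LinearEquiv.ofBijective (φ.hom.val.app (op U.1)).hom
      (ConcreteCategory.bijective_of_isIso (φ.hom.app U.1))
  refine ⟨fun U => (f U).symm.trans (ψ U), fun U V h e => ?_⟩
  change res L' h (φ.hom.app U.1 ((ψ U).symm _)) = φ.hom.app V.1 ((ψ V).symm _)
  rw [app_res]
  exact congrArg _ (hψ U V h e)

/-- A determinant is a top exterior power. -/
theorem isExtPow_of_hasDet (h : HasDet n E L) : ExtPow.IsExtPow n E L := by
  obtain ⟨L₀, -, hL₀⟩ := SGA6Ext.exists_extPow n E (isFinLocFree_of_hasDet h)
  obtain ⟨φ⟩ := hasDet_unique (DetDeg.hasDet_of_isExtPow (isFinLocFreeOfRank_of_hasDet h) hL₀) h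
  exact isExtPow_congr φ hL₀

end Groth.Agent.ExtFund
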