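import Groth.Agent.ExtFund.CanonMain
import Groth.Agent.OmegaLib.Etale
import Groth.Agent.TMul.Pullback
import Groth.Agent.S9372

/-!
Canonical sheaves on opens, and transport of conormal sheaves and differentials.
-/

set_option autoImplicit false
set_option backward.isDefEq.respectTransparency false
set_option backward.isDefEq.respectTransparency.types false
set_option linter.style.haveILetI false
set_option maxHeartbeats 1000000

universe u

open CategoryTheory CategoryTheory.Limits AlgebraicGeometry TopologicalSpace Opposite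

noncomputable section

namespace Groth.Agent.ExtFund

variable {X Y Z X' Z' : Scheme.{u}}

/-- Conormal sheaves along flat cartesian squares. -/
theorem nonempty_conormal_pullback {i' : X' ⟶ Z'} {i : X ⟶ Z} {q : Z' ⟶ Z} {p : X' ⟶ X}
    (hsq : IsPullback i' p q i) [IsImmersion i'] [IsImmersion i] [QuasiCompact i'] [QuasiCompact i] [Flat q] :
    Nonempty ((Scheme.Modules.pullback p).obj (Omega.conormal i) ≅ Omega.conormal i') := by
  obtain ⟨φ, hφ, -⟩ := S9371.result i' i q p hsq.w.symm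
  haveI := (S9372.result i' i q p hsq φ hφ).2 inferInstance
  exact ⟨asIso φ⟩

/-- Differentials along an étale morphism over the same base. -/
theorem nonempty_omega_etale (q : Z' ⟶ Z) (g : Z ⟶ Y) (g' : Z' ⟶ Y) (h : q ≫ g = g') [Etale q]
    [QuasiSeparated g] [QuasiSeparated g'] :
    Nonempty ((Scheme.Modules.pullback q).obj (Omega.sheaf g) ≅ Omega.sheaf g') := by
  have w : q ≫ g = g' ≫ 𝟙 Y := by rw [Category.comp_id, h]
  obtain ⟨c, hc, -⟩ := OmegaLib.existsUnique_diffCompat (h := q) (b := 𝟙 Y) (f := g) (f' := g') w.symm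
    (OmegaLib.isUniversal_dOmega g) (OmegaSh.dOmega g')
  haveI := OmegaLib.isIso_of_etale w (OmegaLib.isUniversal_dOmega g) (OmegaLib.isUniversal_dOmega g') hc
  exact ⟨asIso c⟩

/-- The identity is a regular immersion of codimension zero. -/
theorem isRegularImmersionOfCodim_id (X : Scheme.{u}) :
    RegImm.IsRegularImmersionOfCodim .regular 0 (𝟙 X) := by
  refine ⟨inferInstance, fun z => ?_⟩
  obtain ⟨_, ⟨U, hU, rfl⟩, hz, -⟩ := X.isBasis_affineOpens.exists_subset_of_mem_open (Set.mem_univ z) isOpen_univ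
  refine ⟨⟨U, hU⟩, hz, MorphismProperty.of_isPullback (P := @IsClosedImmersion)
    (isPullback_morphismRestrict (𝟙 X) U).flip inferInstance, [], rfl, ?_, ?_⟩
  · haveI : Nonempty U := ⟨⟨z, hz⟩⟩
    exact RingTheory.Sequence.IsRegular.nil _ _
  · rw [Ideal.ofList_nil]
    exact (RingHom.injective_iff_ker_eq_bot _).1 fun _ _ h => h

/-- The determinant of the conormal sheaf of the identity. -/
theorem hasDet_conormal_id (X : Scheme.{u}) :
    DetDeg.HasDet 0 (Omega.conormal (𝟙 X)) (Coh.structureModule X) :=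
  DetDeg.hasDet_of_isExtPow (isFinLocFreeOfRank_conormal_reg _ (isRegularImmersionOfCodim_id X))
    (SGA6Ext.isExtPow_zero _)

/-- On an open where the morphism is smooth, a canonical sheaf is the top differentials. -/
theorem isTopDiff_restrict (i : X ⟶ Z) (g : Z ⟶ Y) [QuasiCompact i] [QuasiSeparated g] {c n : ℕ}
    (hi : RegImm.IsRegularImmersionOfCodim .regular c i) [SmoothOfRelativeDimension n g] {ω : X.Modules}
    (hω : Canon.IsCanonicalVia i g c n ω) (U : X.Opens) (d : ℕ) [SmoothOfRelativeDimension d (U.ι ≫ i ≫ g)]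
    [QuasiSeparated (U.ι ≫ i ≫ g)] :
    Canon.IsTopDiff (U.ι ≫ i ≫ g) d ((Scheme.Modules.pullback U.ι).obj ω) := by
  obtain ⟨C, Ω, hC, hΩ, ⟨e⟩⟩ := hω
  haveI := hi.1
  obtain ⟨W, hW⟩ : ∃ W : Z.Opens, i ⁻¹ᵁ W = U := by
    obtain ⟨t, ht, hts⟩ := i.isEmbedding.isInducing.isOpen_iff.1 U.2
    exact ⟨⟨t, ht⟩, TopologicalSpace.Opens.ext hts⟩
  subst hW
  have hsq : IsPullback (i ∣_ W) (i ⁻¹ᵁ W).ι W.ι i := (isPullback_morphismRestrict i W).flip.flip
  haveI : IsImmersion (i ∣_ W) :=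
    MorphismProperty.of_isPullback (P := @IsImmersion) (isPullback_morphismRestrict i W).flip inferInstance
  haveI : QuasiCompact (i ∣_ W) :=
    MorphismProperty.of_isPullback (P := @QuasiCompact) (isPullback_morphismRestrict i W).flip inferInstance
  haveI : SmoothOfRelativeDimension n (W.ι ≫ g) := by
    simpa using (inferInstance : SmoothOfRelativeDimension (0 + n) (W.ι ≫ g))
  have w : (i ∣_ W) ≫ W.ι ≫ g = 𝟙 (i ⁻¹ᵁ W).toScheme ≫ (i ⁻¹ᵁ W).ι ≫ i ≫ g := by
    rw [Category.id_comp, ← Category.assoc, morphismRestrict_ι, Category.assoc]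
  obtain ⟨a⟩ := nonempty_conormal_pullback hsq
  obtain ⟨b⟩ := nonempty_omega_etale W.ι g (W.ι ≫ g) rfl
  have hr := isFinLocFreeOfRank_omega ((i ⁻¹ᵁ W).ι ≫ i ≫ g) d
  obtain ⟨L, -, hL⟩ := SGA6Ext.exists_extPow d (Omega.sheaf ((i ⁻¹ᵁ W).ι ≫ i ≫ g))
    (fun x => let ⟨V, h1, h2⟩ := hr x; ⟨V, _, h1, h2⟩)
  obtain ⟨t⟩ := TMul.nonempty_pullTensorIso (i ⁻¹ᵁ W).ι ω C
  obtain ⟨φ⟩ := nonempty_canon_iso_det (i ∣_ W) (W.ι ≫ g) (𝟙 _) ((i ⁻¹ᵁ W).ι ≫ i ≫ g) w
    (ω₁ := (Scheme.Modules.pullback (i ⁻¹ᵁ W).ι).obj ω) (ω₂ := L)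
    (hasDet_congr a ((DetDeg.hasDet_of_isExtPow (isFinLocFreeOfRank_conormal_reg i hi) hC).pullback _))
    (hasDet_conormal_id _)
    (hasDet_congr b ((hasDet_omega g n hΩ).pullback W.ι)) (DetDeg.hasDet_of_isExtPow hr hL)
    ⟨t ≪≫ (Scheme.Modules.pullback _).mapIso e ≪≫ (Scheme.Modules.pullbackComp _ i).app Ω ≪≫
      (Scheme.Modules.pullbackCongr (morphismRestrict_ι i W).symm).app Ω ≪≫
      ((Scheme.Modules.pullbackComp _ W.ι).app Ω).symm⟩
    ⟨SecTwist.unitorR L ≪≫ ((Scheme.Modules.pullbackId _).app L).symm⟩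
  exact isExtPow_congr φ.symm hL

end Groth.Agent.ExtFund
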