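import Groth.Agent.ExtFund.CanonRows
import Groth.Agent.Conormal.Basic
import Groth.Agent.KoszulLib.SchNoeth
import Groth.Agent.SectRank.Main
import Groth.Agent.Nakai.ClMul
import Groth.Agent.DetDeg.Core
import Groth.Agent.ExtFund.SmoothPn

/-!
Conormal determinants of regular immersions and their behaviour along smooth projections.
-/

set_option autoImplicit false
set_option backward.isDefEq.respectTransparency false
set_option backward.isDefEq.respectTransparency.types false
set_option linter.style.haveILetI false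
set_option maxHeartbeats 1000000

universe u

open CategoryTheory CategoryTheory.Limits AlgebraicGeometry TopologicalSpace Opposite

noncomputable section

namespace Groth.Agent.ExtFund

variable {X P Z : Scheme.{u}}

theorem isFinLocFreeOfRank_of_frames {M : X.Modules} {n : ℕ}
    (h : ∀ x : X, ∃ (U : X.Opens) (e : Fin n → Γ(M, U)), x ∈ U ∧ TMul.IsFrame e) :
    FlatMod.IsFinLocFreeOfRank n M := fun x => by
  obtain ⟨U, e, hx, he⟩ := h x
  obtain ⟨f⟩ := nonempty_iso_free (U.ι_preimage_self) (he.pullback U.ι)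
  exact ⟨U, hx, ⟨(Scheme.Modules.restrictFunctorIsoPullback U.ι).app M ≪≫ f⟩⟩

/-- The conormal sheaf of a regular immersion of codimension `c` has rank `c`. -/
theorem isFinLocFreeOfRank_conormal_reg (i : X ⟶ P) [QuasiCompact i] {c : ℕ}
    (hi : RegImm.IsRegularImmersionOfCodim RegImm.Kind.regular c i) :
    FlatMod.IsFinLocFreeOfRank c (Omega.conormal i) := by
  refine isFinLocFreeOfRank_of_frames fun x => ?_
  obtain ⟨U, hxU, hc, rs, rfl, hseq, hker⟩ := hi.2 x
  have hch : Conormal.IsChart i U.1 := ⟨U.2, hc⟩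
  have hq : CAlgX.IsQuasiRegular rs.get := KoszulLib.quasi_seq_of RegImm.Kind.regular _ rs hseq
  have hker' : RingHom.ker (i.app U.1).hom = Ideal.span (Set.range rs.get) := by
    rw [hker, Set.range_list_get]
  have hz : ∀ j, i.app U.1 (rs.get j) = 0 := fun j =>
    RingHom.mem_ker.1 (hker'.symm ▸ Ideal.subset_span (Set.mem_range_self j))
  choose s hs using fun j => Conormal.exists_idealSect i U.1 (rs.get j) (hz j)
  let b : Fin rs.length → Γ(Omega.conormal i, i ⁻¹ᵁ U.1) := fun j => OmegaSh.conormalSect i U.1 (s j)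
  have key : ∀ a : Fin rs.length → Γ(P, U.1), ∑ j, (i.app U.1).hom (a j) • b j =
      OmegaSh.conormalSect i U.1 (∑ j, a j • s j) := fun a => by
    rw [map_sum]
    exact Finset.sum_congr rfl fun j _ => (Conormal.conormalSect_smul i U.1 (a j) (s j)).symm
  have key2 : ∀ a : Fin rs.length → Γ(P, U.1), OmegaSh.idealSect i.ker U.1 (∑ j, a j • s j) =
      ∑ j, a j * rs.get j := fun a => by
    rw [map_sum]
    exact Finset.sum_congr rfl fun j _ => by rw [Conormal.idealSect_smul, hs]
  refine ⟨i ⁻¹ᵁ U.1, b, hxU, PBundle.isFrame_of_bijective (Conormal.isQCoh_conormal i) hch.preimage ⟨?_, ?_⟩⟩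
  · intro r r' h
    choose a ha using fun j => hch.surjective (r j - r' j)
    have h0 : ∑ j, (r j - r' j) • b j = 0 := by
      simp only [sub_smul, Finset.sum_sub_distrib]
      exact sub_eq_zero.2 h
    simp only [← ha] at h0
    rw [key, Conormal.conormalSect_eq_zero_iff i hch, key2] at h0
    funext j
    refine sub_eq_zero.1 ?_
    rw [← ha j]
    refine RingHom.mem_ker.1 ?_
    rw [hker']
    exact SectRank.indep_of_quasi rs.get hq a (by rwa [hker'] at h0) j
  · intro m
    obtain ⟨t, rfl⟩ := Conormal.conormalSect_surjective i hch m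
    have hmem : OmegaSh.idealSect i.ker U.1 t ∈ Ideal.span (Set.range rs.get) :=
      hker' ▸ RingHom.mem_ker.2 (Conormal.app_idealSect i U.1 t)
    obtain ⟨a, ha⟩ := Ideal.mem_span_range_iff_exists_fun.1 hmem
    refine ⟨fun j => (i.app U.1).hom (a j), ?_⟩
    change ∑ j, _ • b j = _
    rw [key]
    congr 1
    exact Conormal.idealSect_injective i.ker U.1 ((key2 a).trans ha)

/-- An extension of modules with determinants has one, the tensor product. -/
theorem exists_det_of_ses (S : ShortComplex X.Modules) (hS : S.ShortExact) {a c : ℕ} {LA LC : X.Modules}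
    (hA : DetDeg.HasDet a S.X₁ LA) (hC : DetDeg.HasDet c S.X₃ LC) :
    ∃ LB : X.Modules, DetDeg.HasDet (a + c) S.X₂ LB ∧ Nonempty (LB ≅ CohB1.tensorMod LA LC) := by
  obtain ⟨ιA, A, covA, -⟩ := id hA
  obtain ⟨ιC, C, covC, -⟩ := id hC
  have hr : FlatMod.IsFinLocFreeOfRank (a + c) S.X₂ := isFinLocFreeOfRank_of_frames fun x => by
    obtain ⟨p, hp⟩ := covA x
    obtain ⟨q, hq⟩ := covC x
    obtain ⟨W, hW, γ', hxW, hγ'⟩ := exists_lifts S hS
      (fun t => QC.res S.X₃ (inf_le_right : (A p).U ⊓ (C q).U ≤ (C q).U) ((C q).e t)) (x := x) ⟨hp, hq⟩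
    exact ⟨W, _, hxW, isFrame_append S hS
      (W7Strat.isFrame_res (A p).frame (hW.trans inf_le_left))
      (W7Strat.isFrame_res (W7Strat.isFrame_res (C q).frame inf_le_right) hW) hγ'⟩
  obtain ⟨LB, -, hLB⟩ := SGA6Ext.exists_extPow (a + c) S.X₂ (fun x => let ⟨U, h1, h2⟩ := hr x; ⟨U, _, h1, h2⟩)
  have hB := DetDeg.hasDet_of_isExtPow hr hLB
  exact ⟨LB, hB, nonempty_det_iso S hS hA hB hC⟩

/-- The conormal determinant along a smooth projection. -/
theorem exists_det_conormal_smooth (p : P ⟶ Z) (i : X ⟶ P) (j : X ⟶ Z) [IsImmersion i] [IsImmersion j]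
    [QuasiCompact i] [QuasiCompact j] (hij : i ≫ p = j) [QuasiSeparated p] (m : ℕ) [SmoothOfRelativeDimension m p]
    {c : ℕ} {D : X.Modules} (hD : DetDeg.HasDet c (Omega.conormal j) D) {W : P.Modules}
    (hW : DetDeg.HasDet m (Omega.sheaf p) W) :
    ∃ LB : X.Modules, DetDeg.HasDet (c + m) (Omega.conormal i) LB ∧
      Nonempty (LB ≅ CohB1.tensorMod D ((Scheme.Modules.pullback i).obj W)) := by
  haveI : Smooth p := SmoothOfRelativeDimension.smooth m p
  obtain ⟨ψ, hψ, -⟩ := S9371.result i j p (𝟙 X) (by rw [Category.id_comp, hij])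
  obtain ⟨φ, hφ⟩ := GrpOmega.exists_conormalDiff i (OmegaSh.dOmega p)
  obtain ⟨w, hS⟩ := S9711.result p i j hij _ _ (OmegaLib.isUniversal_dOmega p) ψ hψ φ hφ
  obtain ⟨LB, h1, h2⟩ := exists_det_of_ses (ShortComplex.mk ψ φ w) hS
    (hasDet_congr ((Scheme.Modules.pullbackId X).app (Omega.conormal j)).symm hD) (hW.pullback i)
  exact ⟨LB, h1, h2⟩

end Groth.Agent.ExtFund
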