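import Groth.Agent.ExtFund.CanonDet
import Groth.Agent.GrpOmega.Diff
import Groth.Agent.SectRank.Main

/-!
Differentials under base change and conormal sheaves of sections, for determinants.
-/

set_option autoImplicit false
set_option backward.isDefEq.respectTransparency false
set_option backward.isDefEq.respectTransparency.types false
set_option linter.style.haveILetI false

universe u

open CategoryTheory CategoryTheory.Limits AlgebraicGeometry TopologicalSpace Opposite

noncomputable section

namespace Groth.Agent.ExtFund

variable {X S X' S' : Scheme.{u}}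

/-- Base change of the sheaf of differentials. -/
theorem nonempty_omega_pullback {f : X ⟶ S} {g : S' ⟶ S} {g' : X' ⟶ X} {f' : X' ⟶ S'}
    (hsq : IsPullback g' f' f g) [QuasiSeparated f] [QuasiSeparated f'] :
    Nonempty ((Scheme.Modules.pullback g').obj (Omega.sheaf f) ≅ Omega.sheaf f') := by
  obtain ⟨c, hc, -⟩ := OmegaLib.existsUnique_diffCompat (h := g') (b := g) (f := f) (f' := f') hsq.w.symm
    (OmegaLib.isUniversal_dOmega f) (OmegaSh.dOmega f')
  haveI := OmegaLib.isIso_of_isPullback hsq (OmegaLib.isUniversal_dOmega f) (OmegaLib.isUniversal_dOmega f') hc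
  exact ⟨asIso c⟩

/-- The determinant of the differentials. -/
theorem hasDet_omega (f : X ⟶ S) (n : ℕ) [SmoothOfRelativeDimension n f] [QuasiSeparated f] {ω : X.Modules}
    (hω : ExtPow.IsExtPow n (Omega.sheaf f) ω) : DetDeg.HasDet n (Omega.sheaf f) ω :=
  DetDeg.hasDet_of_isExtPow (isFinLocFreeOfRank_omega f n) hω

end Groth.Agent.ExtFund
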