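import Groth.Agent.ExtFund.CanonIndep
import Groth.Prelude.Def_Canon

/-!
Canonical sheaves do not depend on the factorisation.
-/

set_option autoImplicit false
set_option backward.isDefEq.respectTransparency false
set_option backward.isDefEq.respectTransparency.types false
set_option linter.style.haveILetI false
set_option maxHeartbeats 1000000

universe u

open CategoryTheory CategoryTheory.Limits AlgebraicGeometry TopologicalSpace Opposite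

noncomputable section

namespace Groth.Agent.ExtFund

attribute [local instance] Nakai.clMonoid

variable {X Y : Scheme.{u}}

/-- Cancellation of invertible factors. -/
theorem nonempty_iso_cancel {ω₁ ω₂ C₁ C₂ B₁ B₂ : X.Modules} (hC₁ : PicF.IsInvertible C₁)
    (hC₂ : PicF.IsInvertible C₂) (h₁ : Nonempty (CohB1.tensorMod ω₁ C₁ ≅ B₁))
    (h₂ : Nonempty (CohB1.tensorMod ω₂ C₂ ≅ B₂))
    (h : Nonempty (CohB1.tensorMod C₁ B₂ ≅ CohB1.tensorMod C₂ B₁)) : Nonempty (ω₁ ≅ ω₂) := by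
  obtain ⟨D₁, -, hD₁⟩ := W7Hull.exists_tensor_inverse hC₁
  obtain ⟨D₂, -, hD₂⟩ := W7Hull.exists_tensor_inverse hC₂
  refine Nakai.iso_of_cl ?_
  have a₁ : PicF.cl ω₁ * PicF.cl C₁ = PicF.cl B₁ := (PicGrp.cl_eq_cl_iff _ _).2 h₁
  have a₂ : PicF.cl ω₂ * PicF.cl C₂ = PicF.cl B₂ := (PicGrp.cl_eq_cl_iff _ _).2 h₂
  have a : PicF.cl C₁ * PicF.cl B₂ = PicF.cl C₂ * PicF.cl B₁ := (PicGrp.cl_eq_cl_iff _ _).2 h
  have d₁ := Nakai.cl_inv hD₁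
  have d₂ := Nakai.cl_inv hD₂
  rw [← a₁, ← a₂] at a
  have a' : PicF.cl ω₂ * (PicF.cl C₁ * PicF.cl C₂) = PicF.cl ω₁ * (PicF.cl C₁ * PicF.cl C₂) := by
    calc PicF.cl ω₂ * (PicF.cl C₁ * PicF.cl C₂) = PicF.cl C₁ * (PicF.cl ω₂ * PicF.cl C₂) := by ac_rfl
      _ = PicF.cl C₂ * (PicF.cl ω₁ * PicF.cl C₁) := a
      _ = PicF.cl ω₁ * (PicF.cl C₁ * PicF.cl C₂) := by ac_rfl
  have hd : PicF.cl C₁ * PicF.cl C₂ * (PicF.cl D₁ * PicF.cl D₂) = 1 := by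
    rw [mul_mul_mul_comm, d₁, d₂, one_mul]
  have := congrArg (· * (PicF.cl D₁ * PicF.cl D₂)) a'
  simp only [mul_assoc] at this hd
  rw [hd, mul_one, mul_one] at this
  exact this.symm

/-- Two factorisations give the same canonical sheaf, with determinant data. -/
theorem nonempty_canon_iso_det {Z₁ Z₂ : Scheme.{u}} (i₁ : X ⟶ Z₁) (g₁ : Z₁ ⟶ Y) (i₂ : X ⟶ Z₂) (g₂ : Z₂ ⟶ Y)
    [QuasiCompact i₁] [QuasiCompact i₂] [QuasiSeparated g₁] [QuasiSeparated g₂] (h : i₁ ≫ g₁ = i₂ ≫ g₂)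
    [IsImmersion i₁] [IsImmersion i₂] {c₁ n₁ c₂ n₂ : ℕ}
    [hg₁ : SmoothOfRelativeDimension n₁ g₁] [hg₂ : SmoothOfRelativeDimension n₂ g₂]
    {ω₁ ω₂ C₁ C₂ : X.Modules} {Ω₁ : Z₁.Modules} {Ω₂ : Z₂.Modules}
    (dC₁ : DetDeg.HasDet c₁ (Omega.conormal i₁) C₁) (dC₂ : DetDeg.HasDet c₂ (Omega.conormal i₂) C₂)
    (dΩ₁ : DetDeg.HasDet n₁ (Omega.sheaf g₁) Ω₁) (dΩ₂ : DetDeg.HasDet n₂ (Omega.sheaf g₂) Ω₂)
    (hi₁' : Nonempty (CohB1.tensorMod ω₁ C₁ ≅ (Scheme.Modules.pullback i₁).obj Ω₁))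
    (hi₂' : Nonempty (CohB1.tensorMod ω₂ C₂ ≅ (Scheme.Modules.pullback i₂).obj Ω₂)) : Nonempty (ω₁ ≅ ω₂) := by
  by_cases hX : IsEmpty X
  · exact nonempty_iso_of_isEmpty _ _
  obtain ⟨hi₁'⟩ := hi₁'
  obtain ⟨hi₂'⟩ := hi₂'
  let p₁ : pullback g₁ g₂ ⟶ Z₁ := pullback.fst g₁ g₂
  let p₂ : pullback g₁ g₂ ⟶ Z₂ := pullback.snd g₁ g₂
  let i : X ⟶ pullback g₁ g₂ := pullback.lift i₁ i₂ h
  have hip₁ : i ≫ p₁ = i₁ := pullback.lift_fst _ _ _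
  have hip₂ : i ≫ p₂ = i₂ := pullback.lift_snd _ _ _
  have sq₁ : IsPullback p₂ p₁ g₂ g₁ := (IsPullback.of_hasPullback g₁ g₂).flip
  have sq₂ : IsPullback p₁ p₂ g₁ g₂ := IsPullback.of_hasPullback g₁ g₂
  haveI : SmoothOfRelativeDimension n₂ p₁ :=
    (smoothOfRelativeDimension_isStableUnderBaseChange n₂).of_isPullback sq₁ inferInstance
  haveI : SmoothOfRelativeDimension n₁ p₂ :=
    (smoothOfRelativeDimension_isStableUnderBaseChange n₁).of_isPullback sq₂ inferInstance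
  haveI : QuasiSeparated p₁ := MorphismProperty.of_isPullback (P := @QuasiSeparated) sq₁ inferInstance
  haveI : QuasiSeparated p₂ := MorphismProperty.of_isPullback (P := @QuasiSeparated) sq₂ inferInstance
  haveI : IsImmersion i := by
    haveI : IsImmersion (i ≫ p₁) := by rw [hip₁]; infer_instance
    exact IsImmersion.of_comp i p₁
  haveI : QuasiCompact i := by
    haveI : QuasiCompact (i ≫ p₁) := by rw [hip₁]; infer_instance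
    exact QuasiCompact.of_comp i p₁
  obtain ⟨a₁⟩ := nonempty_omega_pullback sq₁
  obtain ⟨a₂⟩ := nonempty_omega_pullback sq₂
  obtain ⟨D, hD, ⟨eD⟩⟩ := exists_det_conormal_smooth p₁ i i₁ hip₁ n₂ dC₁
    (hasDet_congr a₁ (dΩ₂.pullback p₂))
  obtain ⟨D', hD', ⟨eD'⟩⟩ := exists_det_conormal_smooth p₂ i i₂ hip₂ n₁ dC₂
    (hasDet_congr a₂ (dΩ₁.pullback p₁))
  have hr : c₁ + n₂ = c₂ + n₁ := by
    obtain ⟨x⟩ := not_isEmpty_iff.1 hX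
    obtain ⟨U, e, hxU, he⟩ := CurveRR.exists_frame (isFinLocFreeOfRank_of_hasDet hD) x
    obtain ⟨V, e', hxV, he'⟩ := CurveRR.exists_frame (isFinLocFreeOfRank_of_hasDet hD') x
    exact card_eq_of_frames he he' hxU hxV
  rw [hr] at hD
  obtain ⟨q⟩ := hasDet_unique hD hD'
  exact nonempty_iso_cancel (isInvertible_of_hasDet dC₁) (isInvertible_of_hasDet dC₂) ⟨hi₁'⟩ ⟨hi₂'⟩
    ⟨PicGrp.tensorModIso (Iso.refl C₁) ((Scheme.Modules.pullbackComp i p₂).app Ω₂ ≪≫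
        (Scheme.Modules.pullbackCongr hip₂).app Ω₂).symm ≪≫ eD.symm ≪≫ q ≪≫ eD' ≪≫
      PicGrp.tensorModIso (Iso.refl C₂) ((Scheme.Modules.pullbackComp i p₁).app Ω₁ ≪≫
        (Scheme.Modules.pullbackCongr hip₁).app Ω₁)⟩

/-- Two factorisations give the same canonical sheaf. -/
theorem nonempty_canon_iso {Z₁ Z₂ : Scheme.{u}} (i₁ : X ⟶ Z₁) (g₁ : Z₁ ⟶ Y) (i₂ : X ⟶ Z₂) (g₂ : Z₂ ⟶ Y)
    [QuasiCompact i₁] [QuasiCompact i₂] [QuasiSeparated g₁] [QuasiSeparated g₂] (h : i₁ ≫ g₁ = i₂ ≫ g₂)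
    {c₁ n₁ c₂ n₂ : ℕ} (hi₁ : RegImm.IsRegularImmersionOfCodim .regular c₁ i₁)
    [hg₁ : SmoothOfRelativeDimension n₁ g₁] (hi₂ : RegImm.IsRegularImmersionOfCodim .regular c₂ i₂)
    [hg₂ : SmoothOfRelativeDimension n₂ g₂] {ω₁ ω₂ : X.Modules} (hω₁ : Canon.IsCanonicalVia i₁ g₁ c₁ n₁ ω₁)
    (hω₂ : Canon.IsCanonicalVia i₂ g₂ c₂ n₂ ω₂) : Nonempty (ω₁ ≅ ω₂) := by
  obtain ⟨C₁, Ω₁, hC₁, hΩ₁, hi₁'⟩ := hω₁
  obtain ⟨C₂, Ω₂, hC₂, hΩ₂, hi₂'⟩ := hω₂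
  haveI := hi₁.1
  haveI := hi₂.1
  exact nonempty_canon_iso_det i₁ g₁ i₂ g₂ h
    (DetDeg.hasDet_of_isExtPow (isFinLocFreeOfRank_conormal_reg i₁ hi₁) hC₁)
    (DetDeg.hasDet_of_isExtPow (isFinLocFreeOfRank_conormal_reg i₂ hi₂) hC₂)
    (hasDet_omega g₁ n₁ hΩ₁) (hasDet_omega g₂ n₂ hΩ₂) hi₁' hi₂'

end Groth.Agent.ExtFund
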