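import Groth.Agent.DetDeg.Atlas
import Groth.Agent.ModDesc.Sect
import Groth.Agent.TMul.Assoc
import Groth.Agent.WeakAssLib.Stalk
import Groth.Agent.PBundle.FrameTools

/-!
Modules with generators transforming alike are isomorphic; the determinant of an extension is the tensor
product of the determinants.
-/

set_option autoImplicit false
set_option backward.isDefEq.respectTransparency false
set_option linter.style.haveILetI false
set_option maxHeartbeats 1000000

universe u

open CategoryTheory CategoryTheory.Limits AlgebraicGeometry TopologicalSpace Opposite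
open Groth.Agent.QC (res resO res_res res_smul app_res section_eq_of_locally)
open Groth.Agent.WeakAssLib (mgerm mgerm_smul mgerm_res stalkHom stalkHom_germ stalkHom_smul stalk_exact)
open TMul (IsFrame IsGen tm coeffEquiv app_smul)
open Groth.Agent.DetDeg (Chart Compat HasDet exists_change)

noncomputable section

namespace Groth.Agent.ExtFund

variable {X : Scheme.{u}}

lemma coeff_smul {N : X.Modules} {U : X.Opens} {e : Γ(N, U)} (he : IsGen e) {V : X.Opens} (hV : V ≤ U)
    (r : Γ(X, V)) : (coeffEquiv he hV).symm (r • res N hV e) = r :=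
  (LinearEquiv.symm_apply_eq _).2 rfl

lemma coeff_spec {N : X.Modules} {U : X.Opens} {e : Γ(N, U)} (he : IsGen e) {V : X.Opens} (hV : V ≤ U)
    (s : Γ(N, V)) : (coeffEquiv he hV).symm s • res N hV e = s :=
  (coeffEquiv he hV).apply_symm_apply s

/-- The morphism carrying one system of generators to another. -/
theorem exists_hom_of_gens {M N : X.Modules} {ι : Type u} (U : ι → X.Opens) (hU : ∀ x, ∃ i, x ∈ U i)
    (a : ∀ i, Γ(M, U i)) (b : ∀ i, Γ(N, U i)) (ha : ∀ i, IsGen (a i))
    (h : ∀ i j (V : X.Opens) (hi : V ≤ U i) (hj : V ≤ U j) (r : Γ(X, V)),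
      res M hj (a j) = r • res M hi (a i) → res N hj (b j) = r • res N hi (b i)) :
    ∃ φ : M ⟶ N, ∀ i (V : X.Opens) (hV : V ≤ U i) (r : Γ(X, V)),
      φ.app V (r • res M hV (a i)) = r • res N hV (b i) := by
  have hnat : ∀ i (V' V : X.Opens) (h' : V' ≤ V) (hV : V ≤ U i) (s : Γ(M, V)),
      res N h' ((coeffEquiv (ha i) hV).symm s • res N hV (b i)) =
        (coeffEquiv (ha i) (h'.trans hV)).symm (res M h' s) • res N (h'.trans hV) (b i) := by
    intro i V' V h' hV s
    obtain ⟨r, rfl⟩ := (ha i V hV).2 s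
    simp only [coeff_smul, res_smul, res_res]
  have hagree : ∀ i j (V : X.Opens) (hi : V ≤ U i) (hj : V ≤ U j) (s : Γ(M, V)),
      (coeffEquiv (ha i) hi).symm s • res N hi (b i) = (coeffEquiv (ha j) hj).symm s • res N hj (b j) := by
    intro i j V hi hj s
    obtain ⟨r, rfl⟩ := (ha j V hj).2 s
    obtain ⟨t, ht⟩ := (ha i V hi).2 (res M hj (a j))
    change (coeffEquiv (ha i) hi).symm (r • res M hj (a j)) • res N hi (b i) =
      (coeffEquiv (ha j) hj).symm (r • res M hj (a j)) • res N hj (b j)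
    replace ht : t • res M hi (a i) = res M hj (a j) := ht
    rw [coeff_smul (ha j) hj r, ← ht, smul_smul, coeff_smul, h i j V hi hj t ht.symm, smul_smul]
  obtain ⟨φ, hφ⟩ := ModDesc.exists_hom_of_local (M := M) (N := N) U hU
    (fun i V hV => (LinearMap.toSpanSingleton Γ(X, V) Γ(N, V) (res N hV (b i))).comp
      (coeffEquiv (ha i) hV).symm.toLinearMap) hnat hagree
  refine ⟨φ, fun i V hV r => ?_⟩
  rw [hφ i V hV]
  exact congrArg (· • res N hV (b i)) (coeff_smul (ha i) hV r)

/-- Modules with generators having the same transition functions are isomorphic. -/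
theorem nonempty_iso_of_gens {M N : X.Modules} {ι : Type u} (U : ι → X.Opens) (hU : ∀ x, ∃ i, x ∈ U i)
    (a : ∀ i, Γ(M, U i)) (b : ∀ i, Γ(N, U i)) (ha : ∀ i, IsGen (a i)) (hb : ∀ i, IsGen (b i))
    (h : ∀ i j (V : X.Opens) (hi : V ≤ U i) (hj : V ≤ U j) (r : Γ(X, V)),
      res M hj (a j) = r • res M hi (a i) → res N hj (b j) = r • res N hi (b i)) : Nonempty (M ≅ N) := by
  obtain ⟨φ, hφ⟩ := exists_hom_of_gens U hU a b ha h
  obtain ⟨ψ, hψ⟩ := exists_hom_of_gens U hU b a hb fun i j V hi hj r hr => by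
    obtain ⟨t, ht⟩ := (ha i V hi).2 (res M hj (a j))
    replace ht : t • res M hi (a i) = res M hj (a j) := ht
    obtain rfl : t = r := (hb i V hi).1 ((h i j V hi hj t ht.symm).symm.trans hr)
    exact ht.symm
  refine ⟨⟨φ, ψ, ?_, ?_⟩⟩ <;>
  · refine Scheme.Modules.hom_ext _ _ fun V => ?_
    ext s
    change _ = s
    refine section_eq_of_locally fun x hx => ?_
    obtain ⟨i, hi⟩ := hU x
    refine ⟨V ⊓ U i, inf_le_left, ⟨hx, hi⟩, ?_⟩
    rw [app_res]
    first
      | obtain ⟨r, hr⟩ := (ha i (V ⊓ U i) inf_le_right).2 (res M inf_le_left s)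
        replace hr : r • res M inf_le_right (a i) = res M inf_le_left s := hr
        rw [← hr]
        change ψ.app _ (φ.app _ _) = _
        rw [hφ, hψ]
      | obtain ⟨r, hr⟩ := (hb i (V ⊓ U i) inf_le_right).2 (res N inf_le_left s)
        replace hr : r • res N inf_le_right (b i) = res N inf_le_left s := hr
        rw [← hr]
        change φ.app _ (ψ.app _ _) = _
        rw [hψ, hφ]

lemma isGen_smul {N : X.Modules} {U : X.Opens} {e : Γ(N, U)} (he : IsGen e) {u : Γ(X, U)} (hu : IsUnit u) :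
    IsGen (u • e) := fun V hV => by
  have hu' : IsUnit (resO X hV u) := hu.map _
  rw [show (fun c : Γ(X, V) => c • res N hV (u • e)) =
    (fun c : Γ(X, V) => c • res N hV e) ∘ fun c => c * resO X hV u from funext fun c => by
      rw [Function.comp_apply, res_smul, smul_smul]]
  exact (he V hV).comp hu'.unit.mulRight_bijective

lemma comb_comb {N : X.Modules} {V : X.Opens} {n : ℕ} (e : Fin n → Γ(N, V))
    (A B : Matrix (Fin n) (Fin n) Γ(X, V)) (i : Fin n) :
    ∑ j, A i j • ∑ k, B j k • e k = ∑ k, (A * B) i k • e k := by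
  simp_rw [Finset.smul_sum, smul_smul, Matrix.mul_apply, Finset.sum_smul]
  exact Finset.sum_comm

lemma comb_res {N : X.Modules} {U V : X.Opens} (h : V ≤ U) {n : ℕ} (e : Fin n → Γ(N, U))
    (A : Matrix (Fin n) (Fin n) Γ(X, U)) (i : Fin n) :
    res N h (∑ j, A i j • e j) = ∑ j, (A.map (resO X h)) i j • res N h (e j) := by
  rw [map_sum]
  exact Finset.sum_congr rfl fun j _ => res_smul _ _ _ _

/-- A matrix between two frames on the same open has unit determinant. -/
lemma isUnit_det_of_frames {N : X.Modules} {U : X.Opens} {n : ℕ} {e e' : Fin n → Γ(N, U)} (he : IsFrame e)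
    (he' : IsFrame e') {A : Matrix (Fin n) (Fin n) Γ(X, U)} (hA : ∀ i, e' i = ∑ j, A i j • e j) :
    IsUnit A.det := by
  classical
  choose B hB using fun i => he'.comb_surjective (le_refl U) (e i)
  simp only [QC.res_self] at hB
  have h1 : Matrix.of B * A = 1 := by
    funext i
    refine he.comb_injective (le_refl U) ?_
    simp only [QC.res_self]
    rw [← comb_comb]
    simp only [← hA, Matrix.of_apply, hB]
    simp [Matrix.one_apply]
  have h2 := congrArg Matrix.det h1
  rw [Matrix.det_mul, Matrix.det_one] at h2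
  exact IsUnit.of_mul_eq_one_right _ h2

variable (S : ShortComplex X.Modules) (hS : S.ShortExact) {a c : ℕ}

include hS in
/-- A frame of an extension. -/
theorem isFrame_append {W : X.Opens} {α : Fin a → Γ(S.X₁, W)} {γ : Fin c → Γ(S.X₃, W)}
    {γ' : Fin c → Γ(S.X₂, W)} (hα : IsFrame α) (hγ : IsFrame γ) (hγ' : ∀ i, S.g.app W (γ' i) = γ i) :
    IsFrame (Fin.append (fun i => S.f.app W (α i)) γ') := by
  haveI := hS.mono_f
  intro x hx
  have hf0 : ∀ v, stalkHom S.g x (stalkHom S.f x v) = 0 := fun v => by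
    obtain ⟨V, hV, s, rfl⟩ := S.X₁.presheaf.exists_germ_eq (x := x) v
    show stalkHom S.g x (stalkHom S.f x (mgerm S.X₁ hV s)) = 0
    rw [stalkHom_germ, stalkHom_germ, show S.g.app V (S.f.app V s) = (S.f ≫ S.g).app V s from rfl, S.zero]
    exact map_zero _
  have hinj : Function.Injective (stalkHom S.f x) :=
    (ModuleCat.mono_iff_injective _).1 (inferInstance : Mono ((DerSch.stalkFunctor X x).map S.f))
  have key : ∀ d : Fin (a + c) → X.presheaf.stalk x,
      ∑ i, d i • mgerm S.X₂ hx (Fin.append (fun i => S.f.app W (α i)) γ' i) =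
        stalkHom S.f x (∑ i, d (Fin.castAdd c i) • mgerm S.X₁ hx (α i)) +
          ∑ i, d (Fin.natAdd a i) • mgerm S.X₂ hx (γ' i) := fun d => by
    rw [Fin.sum_univ_add, map_sum]
    simp only [Fin.append_left, Fin.append_right, stalkHom_smul, stalkHom_germ]
  have keyg : ∀ d : Fin c → X.presheaf.stalk x,
      stalkHom S.g x (∑ i, d i • mgerm S.X₂ hx (γ' i)) = ∑ i, d i • mgerm S.X₃ hx (γ i) := fun d => by
    rw [map_sum]
    simp only [stalkHom_smul, stalkHom_germ, hγ']
  refine ⟨?_, fun v => ?_⟩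
  · intro d d' h
    change ∑ i, d i • _ = ∑ i, d' i • _ at h
    rw [key, key] at h
    have h3 := congrArg (stalkHom S.g x) h
    rw [map_add, map_add, hf0, hf0, zero_add, zero_add, keyg, keyg] at h3
    have h4 := (hγ x hx).1 h3
    have h5 : ∀ i, d (Fin.natAdd a i) = d' (Fin.natAdd a i) := congrFun h4
    simp only [h5, add_left_inj] at h
    have h6 : ∀ i, d (Fin.castAdd c i) = d' (Fin.castAdd c i) := congrFun ((hα x hx).1 (hinj h))
    exact funext (Fin.addCases h6 h5)
  · obtain ⟨dC, hdC⟩ := (hγ x hx).2 (stalkHom S.g x v)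
    replace hdC : ∑ i, dC i • mgerm S.X₃ hx (γ i) = stalkHom S.g x v := hdC
    obtain ⟨w, hw⟩ := stalk_exact S hS x (v - ∑ i, dC i • mgerm S.X₂ hx (γ' i))
      (by rw [map_sub, keyg, hdC, sub_self])
    obtain ⟨dA, rfl⟩ := (hα x hx).2 w
    refine ⟨Fin.append dA dC, ?_⟩
    change ∑ i, Fin.append dA dC i • _ = v
    rw [key]
    simp only [Fin.append_left, Fin.append_right]
    rw [← eq_sub_iff_add_eq]
    exact hw

include hS in
/-- Sections of the quotient lift locally. -/
theorem exists_lifts {U : X.Opens} (γ : Fin c → Γ(S.X₃, U)) {x : X} (hx : x ∈ U) :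
    ∃ (W : X.Opens) (h : W ≤ U) (γ' : Fin c → Γ(S.X₂, W)), x ∈ W ∧ ∀ i, S.g.app W (γ' i) = res S.X₃ h (γ i) := by
  classical
  haveI := hS.epi_g
  have hsurj : Function.Surjective (stalkHom S.g x) := (ModuleCat.epi_iff_surjective _).1
    (inferInstance : Epi ((DerSch.stalkFunctor X x).map S.g))
  have h1 : ∀ i, ∃ (W : X.Opens) (h : W ≤ U) (t : Γ(S.X₂, W)), x ∈ W ∧ S.g.app W t = res S.X₃ h (γ i) := fun i => by
    obtain ⟨v, hv⟩ := hsurj (mgerm S.X₃ hx (γ i))
    obtain ⟨V, hV, t, rfl⟩ := S.X₂.presheaf.exists_germ_eq (x := x) v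
    change stalkHom S.g x (mgerm S.X₂ hV t) = _ at hv
    rw [stalkHom_germ] at hv
    obtain ⟨W, hxW, i₁, i₂, e⟩ := S.X₃.presheaf.germ_eq x hV hx _ _ hv
    exact ⟨W, i₂.le, res S.X₂ i₁.le t, hxW, by rw [← app_res]; exact e⟩
  choose W hW t hxW ht using h1
  let W' : X.Opens := Finset.univ.inf W ⊓ U
  have hle : ∀ i, W' ≤ W i := fun i => inf_le_left.trans (Finset.inf_le (Finset.mem_univ i))
  refine ⟨W', inf_le_right, fun i => res S.X₂ (hle i) (t i), ⟨?_, hx⟩, fun i => ?_⟩
  · change x ∈ ((Finset.univ.inf W : X.Opens) : Set X)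
    rw [Opens.coe_finset_inf, Finset.inf_set_eq_iInter, Set.mem_iInter₂]
    exact fun i _ => hxW i
  · rw [← app_res, ht, res_res]

variable {LA LB LC : X.Modules}

include hS in
/-- The determinant of an extension. -/
theorem nonempty_det_iso (hA : HasDet a S.X₁ LA) (hB : HasDet (a + c) S.X₂ LB) (hC : HasDet c S.X₃ LC) :
    Nonempty (LB ≅ CohB1.tensorMod LA LC) := by
  classical
  haveI := hS.mono_f
  obtain ⟨ιA, A, covA, cmpA⟩ := hA
  obtain ⟨ιB, B, covB, cmpB⟩ := hB
  obtain ⟨ιC, C, covC, cmpC⟩ := hC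
  have hdata : ∀ x : X, ∃ (i : ιA) (j : ιB) (k : ιC) (W : X.Opens) (hi : W ≤ (A i).U) (_ : W ≤ (B j).U)
      (hk : W ≤ (C k).U) (γ' : Fin c → Γ(S.X₂, W)),
      x ∈ W ∧ ∀ t, S.g.app W (γ' t) = res S.X₃ hk ((C k).e t) := fun x => by
    obtain ⟨i, hi⟩ := covA x
    obtain ⟨j, hj⟩ := covB x
    obtain ⟨k, hk⟩ := covC x
    obtain ⟨W, hW, γ', hxW, hγ'⟩ := exists_lifts S hS
      (fun t => res S.X₃ (inf_le_right : (A i).U ⊓ (B j).U ⊓ (C k).U ≤ (C k).U) ((C k).e t))
      (x := x) ⟨⟨hi, hj⟩, hk⟩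
    exact ⟨i, j, k, W, hW.trans (inf_le_left.trans inf_le_left), hW.trans (inf_le_left.trans inf_le_right),
      hW.trans inf_le_right, γ', hxW, fun t => by rw [hγ', res_res]⟩
  choose i j k W hi hj hk γ' hxW hγ' using hdata
  let fr : ∀ x, Fin (a + c) → Γ(S.X₂, W x) := fun x =>
    Fin.append (fun t => S.f.app (W x) (res S.X₁ (hi x) ((A (i x)).e t))) (γ' x)
  have hfr : ∀ x, IsFrame (fr x) := fun x => isFrame_append S hS (W7Strat.isFrame_res (A (i x)).frame (hi x))
    (W7Strat.isFrame_res (C (k x)).frame (hk x)) (hγ' x)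
  choose P hP using fun x t => (B (j x)).frame.comb_surjective (hj x) (fr x t)
  have hPu : ∀ x, IsUnit (Matrix.of (P x)).det := fun x =>
    isUnit_det_of_frames (W7Strat.isFrame_res (B (j x)).frame (hj x)) (hfr x) fun t => (hP x t).symm
  refine ⟨(nonempty_iso_of_gens (M := CohB1.tensorMod LA LC) (N := LB) W (fun x => ⟨x, hxW x⟩)
    (fun x => tm (res LA (hi x) (A (i x)).l) (res LC (hk x) (C (k x)).l))
    (fun x => (Matrix.of (P x)).det • res LB (hj x) (B (j x)).l)
    (fun x => TMul.isGen_tm ((A (i x)).gen.res _) ((C (k x)).gen.res _))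
    (fun x => isGen_smul ((B (j x)).gen.res _) (hPu x)) fun p q V hp hq r hr => ?_).some.symm⟩
  obtain ⟨mA, hmA, -⟩ := exists_change (A (i p)) (A (i q)) (hp.trans (hi p)) (hq.trans (hi q))
  obtain ⟨mB, hmB, -⟩ := exists_change (B (j p)) (B (j q)) (hp.trans (hj p)) (hq.trans (hj q))
  obtain ⟨mC, hmC, -⟩ := exists_change (C (k p)) (C (k q)) (hp.trans (hk p)) (hq.trans (hk q))
  have hlA := (cmpA (i p) (i q)).sec (hp.trans (hi p)) (hq.trans (hi q)) mA hmA
  have hlB := (cmpB (j p) (j q)).sec (hp.trans (hj p)) (hq.trans (hj q)) mB hmB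
  have hlC := (cmpC (k p) (k q)).sec (hp.trans (hk p)) (hq.trans (hk q)) mC hmC
  have hr' : r = mA.det * mC.det := by
    refine (TMul.isGen_tm ((A (i p)).gen.res (hp.trans (hi p))) ((C (k p)).gen.res (hp.trans (hk p)))
      V le_rfl).1 ?_
    change r • res _ _ _ = (mA.det * mC.det) • res _ _ _
    simp only [TMul.res_tm, res_res] at hr ⊢
    rw [← hr, hlA, hlC, TMul.tm_smul, TMul.smul_tm, smul_smul, mul_comm]
  subst hr'
  have hsA : ∀ x (h : V ≤ W x) (t : Fin a), res S.X₂ h (fr x (Fin.castAdd c t)) =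
      S.f.app V (res S.X₁ (h.trans (hi x)) ((A (i x)).e t)) := fun x h t => by
    simp only [fr, Fin.append_left]
    rw [app_res, res_res]
  have hsC : ∀ x (h : V ≤ W x) (t : Fin c), S.g.app V (res S.X₂ h (fr x (Fin.natAdd a t))) =
      res S.X₃ (h.trans (hk x)) ((C (k x)).e t) := fun x h t => by
    simp only [fr, Fin.append_right]
    rw [← app_res, hγ', res_res]
  have hgf : ∀ s : Γ(S.X₁, V), S.g.app V (S.f.app V s) = 0 := fun s => by
    rw [show S.g.app V (S.f.app V s) = (S.f ≫ S.g).app V s from rfl, S.zero]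
    rfl
  choose M hM using fun t => (hfr p).comb_surjective hp (res S.X₂ hq (fr q t))
  have hM₁₁ : ∀ t s, M (Fin.castAdd c t) (Fin.castAdd c s) = mA t s ∧
      ∀ s', M (Fin.castAdd c t) (Fin.natAdd a s') = 0 := fun t s => by
    have h1 : M (Fin.castAdd c t) = Fin.append (mA t) 0 := by
      refine (hfr p).comb_injective hp ?_
      change ∑ u, M (Fin.castAdd c t) u • _ = ∑ u, Fin.append (mA t) 0 u • _
      rw [hM, hsA, hmA, map_sum, Fin.sum_univ_add]
      simp only [Fin.append_left, Fin.append_right, Pi.zero_apply, zero_smul, Finset.sum_const_zero, add_zero,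
        hsA, app_smul]
    exact ⟨by rw [h1, Fin.append_left], fun s' => by rw [h1, Fin.append_right]; rfl⟩
  have h22 : ∀ t s, M (Fin.natAdd a t) (Fin.natAdd a s) = mC t s := fun t => by
    refine congrFun (?_ : (fun s => M (Fin.natAdd a t) (Fin.natAdd a s)) = mC t)
    refine (C (k p)).frame.comb_injective (hp.trans (hk p)) ?_
    change ∑ u, M (Fin.natAdd a t) (Fin.natAdd a u) • _ = ∑ u, mC t u • _
    rw [← hmC, ← hsC q hq, ← hM, Fin.sum_univ_add, map_add, map_sum, map_sum]
    simp only [app_smul, hsA, hsC, hgf, smul_zero, Finset.sum_const_zero, zero_add]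
  have h12 : ∀ t s', M (Fin.castAdd c t) (Fin.natAdd a s') = 0 := fun t => (hM₁₁ t t).2
  let e : Fin a ⊕ Fin c ≃ Fin (a + c) := finSumFinEquiv
  have hblock : (Matrix.of M).submatrix e e =
      Matrix.fromBlocks mA 0 (Matrix.of fun t s => M (Fin.natAdd a t) (Fin.castAdd c s)) mC := by
    ext (t | t) (s | s) <;> simp [e, (hM₁₁ _ _).1, h12, h22]
  have hdetM : (Matrix.of M).det = mA.det * mC.det := by
    rw [← Matrix.det_submatrix_equiv_self e, hblock, Matrix.det_fromBlocks_zero₁₂]
  have hq' : ∀ t, res S.X₂ hq (fr q t) = ∑ u, (((Matrix.of (P q)).map (resO X hq)) * mB) t u •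
      res S.X₂ (hp.trans (hj p)) ((B (j p)).e u) := fun t => by
    rw [← comb_comb]
    simp only [← hmB]
    conv_lhs => rw [← hP q t]
    rw [map_sum]
    exact Finset.sum_congr rfl fun u _ => by rw [res_smul, res_res]; rfl
  have hp' : ∀ t, res S.X₂ hq (fr q t) = ∑ u, ((Matrix.of M) * (Matrix.of (P p)).map (resO X hp)) t u •
      res S.X₂ (hp.trans (hj p)) ((B (j p)).e u) := fun t => by
    rw [← comb_comb, ← hM t]
    refine Finset.sum_congr rfl fun u _ => congrArg (M t u • ·) ?_
    conv_lhs => rw [← hP p u]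
    rw [map_sum]
    exact Finset.sum_congr rfl fun v _ => by rw [res_smul, res_res]; rfl
  have hmat : (Matrix.of (P q)).map (resO X hq) * mB = Matrix.of M * (Matrix.of (P p)).map (resO X hp) :=
    funext fun t => (B (j p)).frame.comb_injective (hp.trans (hj p)) ((hq' t).symm.trans (hp' t))
  have hdet := congrArg Matrix.det hmat
  rw [Matrix.det_mul, Matrix.det_mul, hdetM, ← RingHom.mapMatrix_apply, ← RingHom.map_det,
    ← RingHom.mapMatrix_apply, ← RingHom.map_det] at hdet
  rw [res_smul, res_smul, res_res, res_res, hlB, smul_smul, smul_smul, ← hdet]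

end Groth.Agent.ExtFund
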