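import Mathlib

/-!
Iterated quotients of an object by a list of commuting scalars, their Ext classes, and how the classes
change under the elementary changes of the list.
-/

set_option autoImplicit false
set_option linter.style.haveILetI false

universe w v u u'

open CategoryTheory Category Limits Abelian

noncomputable section

namespace Groth.Agent.ExtFund

variable {R : Type u'} [CommRing R] {C : Type u} [Category.{v} C] [Abelian C] {A : C} (a : R →+* End A)

theorem act_comm (r s : R) : (a r : A ⟶ A) ≫ (a s : A ⟶ A) = (a s : A ⟶ A) ≫ (a r : A ⟶ A) := by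
  rw [← End.mul_def, ← End.mul_def, ← map_mul, ← map_mul, mul_comm]

/-- A quotient of `A` with the induced action. -/
structure QObj where
  /-- the object -/
  Q : C
  /-- the projection -/
  π : A ⟶ Q
  [epi : Epi π]
  /-- the action -/
  act : R → (Q ⟶ Q)
  comm : ∀ r, π ≫ act r = (a r : A ⟶ A) ≫ π

attribute [instance] QObj.epi

variable {a}

theorem QObj.act_mul (D : QObj a) (r s : R) : D.act (r * s) = D.act s ≫ D.act r := by
  rw [← cancel_epi D.π, D.comm, map_mul, End.mul_def, ← assoc D.π, D.comm s, assoc, assoc, D.comm r]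

theorem QObj.act_add (D : QObj a) (r s : R) : D.act (r + s) = D.act r + D.act s := by
  rw [← cancel_epi D.π, D.comm, map_add, Preadditive.comp_add, D.comm, D.comm, Preadditive.add_comp]

theorem QObj.act_one (D : QObj a) : D.act 1 = 𝟙 D.Q := by
  rw [← cancel_epi D.π, D.comm, map_one, comp_id, End.one_def, id_comp]

theorem QObj.act_zero (D : QObj a) : D.act 0 = 0 := by
  rw [← cancel_epi D.π, D.comm, map_zero, comp_zero]
  exact zero_comp

theorem QObj.act_neg (D : QObj a) (r : R) : D.act (-r) = -D.act r := by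
  rw [← cancel_epi D.π, D.comm, map_neg, Preadditive.comp_neg, D.comm]
  exact Preadditive.neg_comp _ _

theorem QObj.act_comm (D : QObj a) (r s : R) : D.act r ≫ D.act s = D.act s ≫ D.act r := by
  rw [← D.act_mul, ← D.act_mul, mul_comm]

/-- Quotient by one scalar. -/
def QObj.quot (D : QObj a) (f : R) : QObj a where
  Q := cokernel (D.act f)
  π := D.π ≫ cokernel.π _
  act r := cokernel.map (D.act f) (D.act f) (D.act r) (D.act r) (D.act_comm f r)
  comm r := by
    rw [assoc, cokernel.π_desc, ← assoc, D.comm, assoc]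

variable (a)

/-- The iterated quotient; the head of the list is the last scalar divided out. -/
def kq : List R → QObj a
  | [] => { Q := A, π := 𝟙 A, act := fun r => (a r : A ⟶ A), comm := fun r => by rw [id_comp, comp_id] }
  | f :: l => (kq l).quot f

/-- Each scalar is injective on the quotient by the following ones. -/
def KReg : List R → Prop
  | [] => True
  | f :: l => Mono ((kq a l).act f) ∧ KReg l

/-- One step. -/
abbrev stepSeq (f : R) (l : List R) : ShortComplex C :=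
  ShortComplex.mk ((kq a l).act f) (cokernel.π ((kq a l).act f)) (cokernel.condition _)

theorem stepSeq_exact (f : R) (l : List R) : (stepSeq a f l).Exact :=
  ShortComplex.exact_cokernel ((kq a l).act f)

variable {a}

theorem KReg.stepSeq_shortExact {f : R} {l : List R} (h : KReg a (f :: l)) : (stepSeq a f l).ShortExact := by
  haveI : Mono (stepSeq a f l).f := h.1
  haveI : Epi (stepSeq a f l).g := inferInstanceAs (Epi (cokernel.π _))
  exact { exact := stepSeq_exact a f l }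

theorem KReg.of_cons {f : R} {l : List R} (h : KReg a (f :: l)) : KReg a l := h.2

variable (a) in
theorem act_eq_zero : ∀ (l : List R) (x : R), x ∈ Ideal.span {y | y ∈ l} → (kq a l).act x = 0 := by
  intro l x hx
  induction hx using Submodule.span_induction with
  | mem y hy =>
    induction l with
    | nil => exact absurd hy List.not_mem_nil
    | cons f l ih =>
      show cokernel.map _ _ ((kq a l).act y) ((kq a l).act y) ((kq a l).act_comm f y) = 0
      rw [← cancel_epi (cokernel.π _), cokernel.π_desc, comp_zero]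
      rcases List.mem_cons.1 hy with rfl | h
      · exact cokernel.condition _
      · rw [ih h, zero_comp]
  | zero => exact (kq a l).act_zero
  | add x y _ _ hx hy => rw [QObj.act_add, hx, hy, add_zero]
  | smul r x _ hx => rw [smul_eq_mul, QObj.act_mul, hx, zero_comp]

theorem exists_desc : ∀ (l : List R) {M : C} (φ : A ⟶ M),
    (∀ x ∈ l, (a x : A ⟶ A) ≫ φ = 0) → ∃ ψ : (kq a l).Q ⟶ M, (kq a l).π ≫ ψ = φ := by
  intro l
  induction l with
  | nil => exact fun φ _ => ⟨φ, id_comp φ⟩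
  | cons f l ih =>
    intro M φ h
    obtain ⟨ψ, hψ⟩ := ih φ fun x hx => h x (List.mem_cons_of_mem _ hx)
    refine ⟨cokernel.desc ((kq a l).act f) ψ ?_, ?_⟩
    · rw [← cancel_epi (kq a l).π, ← assoc, (kq a l).comm, assoc, hψ, comp_zero]
      exact h f (List.mem_cons_self)
    · show ((kq a l).π ≫ cokernel.π _) ≫ _ = _
      rw [assoc, cokernel.π_desc, hψ]

theorem exists_iso_of_mutual {l l' : List R} (h : ∀ x ∈ l', x ∈ Ideal.span {y | y ∈ l})
    (h' : ∀ x ∈ l, x ∈ Ideal.span {y | y ∈ l'}) :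
    ∃ θ : (kq a l').Q ≅ (kq a l).Q, (kq a l').π ≫ θ.hom = (kq a l).π := by
  obtain ⟨u, hu⟩ := exists_desc l' (kq a l).π fun x hx => by
    rw [← (kq a l).comm, act_eq_zero a l x (h x hx), comp_zero]
  obtain ⟨v, hv⟩ := exists_desc l (kq a l').π fun x hx => by
    rw [← (kq a l').comm, act_eq_zero a l' x (h' x hx), comp_zero]
  refine ⟨⟨u, v, ?_, ?_⟩, hu⟩
  · rw [← cancel_epi (kq a l').π, ← assoc, hu, hv, comp_id]
  · rw [← cancel_epi (kq a l).π, ← assoc, hv, hu, comp_id]

theorem theta_act {l l' : List R} (θ : (kq a l').Q ⟶ (kq a l).Q) (h : (kq a l').π ≫ θ = (kq a l).π) (r : R) :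
    (kq a l').act r ≫ θ = θ ≫ (kq a l).act r := by
  rw [← cancel_epi (kq a l').π, ← assoc, (kq a l').comm, assoc, h, ← assoc, h, (kq a l).comm]

variable [HasExt.{w} C]

theorem mk₀_comp_comp {X Y Z T : C} (f : X ⟶ Y) {i j m : ℕ} (α : Ext.{w} Y Z i) (β : Ext.{w} Z T j)
    (h : i + j = m) :
    (Ext.mk₀ f).comp (α.comp β h) (zero_add m) = ((Ext.mk₀ f).comp α (zero_add i)).comp β h :=
  (Ext.comp_assoc _ _ _ (zero_add i) h (by omega)).symm

/-- The composite Ext class of the steps. -/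
def kcls : ∀ l : List R, KReg a l → Ext.{w} (kq a l).Q A l.length
  | [], _ => Ext.mk₀ (𝟙 A)
  | _ :: l, h => h.stepSeq_shortExact.extClass.comp (kcls l h.of_cons) (Nat.add_comm 1 l.length)

theorem kcls_cons {f : R} {l : List R} (h : KReg a (f :: l)) :
    kcls (f :: l) h = h.stepSeq_shortExact.extClass.comp (kcls l h.of_cons) (Nat.add_comm 1 l.length) := rfl

theorem kcls_comm : ∀ (l : List R) (h : KReg a l) (r : R),
    (Ext.mk₀ ((kq a l).act r)).comp (kcls l h) (zero_add _) =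
      (kcls l h).comp (Ext.mk₀ (a r : A ⟶ A)) (add_zero _) := by
  intro l
  induction l with
  | nil =>
    intro h r
    show (Ext.mk₀ (a r : A ⟶ A)).comp (Ext.mk₀ (𝟙 A)) _ = (Ext.mk₀ (𝟙 A)).comp (Ext.mk₀ (a r : A ⟶ A)) _
    rw [Ext.comp_mk₀_id, Ext.mk₀_id_comp]
  | cons f l ih =>
    intro h r
    let φ : stepSeq a f l ⟶ stepSeq a f l :=
      ShortComplex.homMk ((kq a l).act r) ((kq a l).act r) ((kq a (f :: l)).act r) ((kq a l).act_comm r f)
        (cokernel.π_desc _ _ _).symm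
    have hn := ShortComplex.ShortExact.extClass_naturality h.stepSeq_shortExact h.stepSeq_shortExact φ
    rw [kcls_cons]
    refine (mk₀_comp_comp _ _ _ _).trans ?_
    show ((Ext.mk₀ φ.τ₃).comp _ _).comp _ _ = _
    rw [← hn]
    refine (Ext.comp_assoc_of_second_deg_zero _ _ _ _).trans ?_
    refine Eq.trans ?_ (Ext.comp_assoc_of_third_deg_zero _ _ _ _).symm
    exact congrArg (fun z => h.stepSeq_shortExact.extClass.comp z _) (ih h.of_cons r)

/-- The classes of the two lists agree up to the scalar `c`, under the identification of quotients. -/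
def Rel (l l' : List R) (c : R) : Prop :=
  ∃ (h : KReg a l) (h' : KReg a l') (hn : l'.length + 0 = l.length) (θ : (kq a l').Q ≅ (kq a l).Q),
    (kq a l').π ≫ θ.hom = (kq a l).π ∧
      (Ext.mk₀ θ.hom).comp (kcls l h) (zero_add l.length) = (kcls l' h').comp (Ext.mk₀ (a c : A ⟶ A)) hn

theorem Rel.refl {l : List R} (h : KReg a l) : Rel (a := a) l l 1 := by
  refine ⟨h, h, add_zero _, Iso.refl _, comp_id _, ?_⟩
  rw [Iso.refl_hom, Ext.mk₀_id_comp, map_one, End.one_def, Ext.comp_mk₀_id]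

theorem Rel.trans {l l' l'' : List R} {c d : R} (h₁ : Rel (a := a) l l' c) (h₂ : Rel (a := a) l' l'' d) :
    Rel (a := a) l l'' (c * d) := by
  obtain ⟨h, h', hn, θ, hθ, e⟩ := h₁
  obtain ⟨_, h'', hn', θ', hθ', e'⟩ := h₂
  refine ⟨h, h'', by omega, θ' ≪≫ θ, by rw [Iso.trans_hom, ← assoc, hθ', hθ], ?_⟩
  rw [Iso.trans_hom, ← Ext.mk₀_comp_mk₀_assoc, e,
    ← Ext.comp_assoc (Ext.mk₀ θ'.hom) _ _ (zero_add _) hn (by omega)]
  obtain ⟨n', hn''⟩ : ∃ n', n' = l.length := ⟨_, rfl⟩
  have hl : l'.length = l.length := by omega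
  have hl' : l''.length = l'.length := by omega
  rw [e', Ext.comp_assoc (kcls l'' h'') _ _ hn' (add_zero 0) (by omega), Ext.mk₀_comp_mk₀, map_mul, End.mul_def]

theorem Rel.cons {l l' : List R} {c : R} (h₁ : Rel (a := a) l l' c) {f : R} (hf : KReg a (f :: l)) :
    Rel (a := a) (f :: l) (f :: l') c := by
  obtain ⟨h, h', hn, θ, hθ, e⟩ := h₁
  have hθf : (kq a l').act f ≫ θ.hom = θ.hom ≫ (kq a l).act f := theta_act θ.hom hθ f
  haveI : Mono ((kq a l).act f) := hf.1
  have hf' : KReg a (f :: l') := ⟨by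
    haveI : Mono ((kq a l').act f ≫ θ.hom) := by rw [hθf]; infer_instance
    exact mono_of_mono _ θ.hom, h'⟩
  refine ⟨hf, hf', congrArg (· + 1) hn, cokernel.mapIso _ _ θ θ hθf, ?_, ?_⟩
  · show ((kq a l').π ≫ cokernel.π _) ≫ cokernel.map _ _ θ.hom θ.hom hθf = (kq a l).π ≫ cokernel.π _
    rw [assoc, cokernel.π_desc, ← assoc, hθ]
  · let φ : stepSeq a f l' ⟶ stepSeq a f l :=
      ShortComplex.homMk θ.hom θ.hom (cokernel.map _ _ θ.hom θ.hom hθf) hθf.symm (cokernel.π_desc _ _ _).symm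
    have hn' := ShortComplex.ShortExact.extClass_naturality hf'.stepSeq_shortExact hf.stepSeq_shortExact φ
    rw [kcls_cons, kcls_cons]
    refine (mk₀_comp_comp _ _ _ _).trans ?_
    show ((Ext.mk₀ φ.τ₃).comp _ _).comp _ _ = _
    rw [← hn']
    refine (Ext.comp_assoc_of_second_deg_zero _ _ _ _).trans ?_
    refine (congrArg (fun z => hf'.stepSeq_shortExact.extClass.comp z _) e).trans ?_
    exact (Ext.comp_assoc _ _ _ (Nat.add_comm 1 l'.length) hn (by simp only [List.length_cons]; omega)).symm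

theorem Rel.add_tail {l : List R} {f g : R} (h : KReg a (f :: l)) (hfg : g - f ∈ Ideal.span {y | y ∈ l}) :
    Rel (a := a) (f :: l) (g :: l) 1 := by
  have he : (kq a l).act g = (kq a l).act f := by
    rw [show g = f + (g - f) by ring, QObj.act_add, act_eq_zero a l _ hfg, add_zero]
  have hw : (kq a l).act g ≫ 𝟙 _ = 𝟙 _ ≫ (kq a l).act f := by rw [comp_id, id_comp, he]
  have h' : KReg a (g :: l) := ⟨he ▸ h.1, h.2⟩
  refine ⟨h, h', add_zero _, cokernel.mapIso _ _ (Iso.refl _) (Iso.refl _) hw, ?_, ?_⟩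
  · show ((kq a l).π ≫ cokernel.π _) ≫ cokernel.map _ _ (𝟙 _) (𝟙 _) hw = (kq a l).π ≫ cokernel.π _
    rw [assoc, cokernel.π_desc, id_comp]
  · let φ : stepSeq a g l ⟶ stepSeq a f l :=
      ShortComplex.homMk (𝟙 _) (𝟙 _) (cokernel.map _ _ (𝟙 _) (𝟙 _) hw) hw.symm (cokernel.π_desc _ _ _).symm
    have hn := ShortComplex.ShortExact.extClass_naturality h'.stepSeq_shortExact h.stepSeq_shortExact φ
    rw [kcls_cons, kcls_cons]
    refine (mk₀_comp_comp _ _ _ _).trans ?_
    show ((Ext.mk₀ φ.τ₃).comp _ _).comp _ _ = _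
    rw [← hn, map_one, End.one_def]
    refine (Ext.comp_assoc_of_second_deg_zero _ _ _ _).trans ?_
    refine Eq.trans ?_ (Ext.comp_mk₀_id _).symm
    exact congrArg (fun z => h'.stepSeq_shortExact.extClass.comp z _) (Ext.mk₀_id_comp _)

theorem Rel.scale {l : List R} {f u v : R} (h : KReg a (f :: l)) (huv : u * v = 1) :
    Rel (a := a) (f :: l) (u * f :: l) u := by
  let D := kq a l
  have huv' : D.act u ≫ D.act v = 𝟙 _ := by rw [← D.act_mul, mul_comm, huv, D.act_one]
  have hvu' : D.act v ≫ D.act u = 𝟙 _ := by rw [← D.act_mul, huv, D.act_one]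
  let i : D.Q ≅ D.Q := ⟨D.act u, D.act v, huv', hvu'⟩
  have hw : D.act (u * f) ≫ 𝟙 _ = i.hom ≫ D.act f := by
    rw [comp_id, D.act_mul, D.act_comm]
  haveI : Mono (D.act f) := h.1
  haveI : Mono i.hom := @IsIso.mono_of_iso _ _ _ _ _ ⟨D.act v, huv', hvu'⟩
  have h' : KReg a (u * f :: l) := ⟨by
    haveI : Mono (D.act (u * f) ≫ 𝟙 _) := by rw [hw]; exact mono_comp i.hom (D.act f)
    exact mono_of_mono _ (𝟙 D.Q), h.2⟩
  refine ⟨h, h', add_zero _, cokernel.mapIso _ _ i (Iso.refl _) hw, ?_, ?_⟩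
  · show ((kq a l).π ≫ cokernel.π _) ≫ cokernel.map _ _ i.hom (𝟙 _) hw = (kq a l).π ≫ cokernel.π _
    rw [assoc, cokernel.π_desc, id_comp]
  · let φ : stepSeq a (u * f) l ⟶ stepSeq a f l :=
      ShortComplex.homMk (D.act u) (𝟙 _) (cokernel.map _ _ i.hom (𝟙 _) hw) hw.symm (cokernel.π_desc _ _ _).symm
    have hn := ShortComplex.ShortExact.extClass_naturality h'.stepSeq_shortExact h.stepSeq_shortExact φ
    rw [kcls_cons, kcls_cons]
    refine (mk₀_comp_comp _ _ _ _).trans ?_
    show ((Ext.mk₀ φ.τ₃).comp _ _).comp _ _ = _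
    rw [← hn]
    refine (Ext.comp_assoc_of_second_deg_zero _ _ _ _).trans ?_
    refine Eq.trans ?_ (Ext.comp_assoc_of_third_deg_zero _ _ _ _).symm
    exact congrArg (fun z => h'.stepSeq_shortExact.extClass.comp z _) (kcls_comm l h.of_cons u)

theorem Rel.swap {l : List R} {f g : R} (h : KReg a (g :: f :: l)) (h' : KReg a (f :: g :: l)) :
    Rel (a := a) (g :: f :: l) (f :: g :: l) (-1) := by
  obtain ⟨θ, hθ⟩ := exists_iso_of_mutual (a := a) (l := g :: f :: l) (l' := f :: g :: l)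
    (fun x hx => Ideal.subset_span (by
      simp only [List.mem_cons, Set.mem_setOf_eq] at hx ⊢; tauto))
    (fun x hx => Ideal.subset_span (by
      simp only [List.mem_cons, Set.mem_setOf_eq] at hx ⊢; tauto))
  let D := kq a l
  let F := D.act f
  let G := D.act g
  let πf : D.Q ⟶ (kq a (f :: l)).Q := cokernel.π F
  let πg : D.Q ⟶ (kq a (g :: l)).Q := cokernel.π G
  let G' := (kq a (f :: l)).act g
  let F' := (kq a (g :: l)).act f
  let π' : (kq a (f :: l)).Q ⟶ (kq a (g :: f :: l)).Q := cokernel.π G'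
  let π'' : (kq a (g :: l)).Q ⟶ (kq a (f :: g :: l)).Q := cokernel.π F'
  let p : D.Q ⟶ (kq a (g :: f :: l)).Q := πf ≫ π'
  have hp'' : πg ≫ π'' ≫ θ.hom = p := by
    rw [← cancel_epi D.π]
    have h1 : ((D.π ≫ πg) ≫ π'') ≫ θ.hom = (D.π ≫ πf) ≫ π' := hθ
    simpa only [p, assoc] using h1
  haveI hepif : Epi πf := (inferInstance : Epi (cokernel.π F))
  have hFf : F ≫ πf = 0 := cokernel.condition F
  have hGg : G ≫ πg = 0 := cokernel.condition G
  have hGG' : πf ≫ G' = G ≫ πf := cokernel.π_desc _ _ _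
  have hFF' : πg ≫ F' = F ≫ πg := cokernel.π_desc _ _ _
  have hFp : F ≫ p = 0 := by simp only [p, reassoc_of% hFf, zero_comp]
  have hGp : G ≫ p = 0 := by
    show G ≫ πf ≫ π' = 0
    rw [← reassoc_of% hGG']
    exact (congrArg (πf ≫ ·) (cokernel.condition G')).trans comp_zero
  let ι : kernel p ⟶ D.Q := kernel.ι p
  let f₀ : D.Q ⟶ D.Q ⊞ D.Q := biprod.lift (-G) F
  let g₀ : D.Q ⊞ D.Q ⟶ kernel p := kernel.lift p (biprod.desc F G) (by
    ext <;> simp [hFp, hGp])
  have hg₀ : g₀ ≫ ι = biprod.desc F G := kernel.lift_ι _ _ _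
  let S₀ : ShortComplex C := ShortComplex.mk f₀ g₀ (by
    rw [← cancel_mono ι, assoc, hg₀, zero_comp, biprod.lift_desc, Preadditive.neg_comp, D.act_comm g f]
    exact neg_add_cancel _)
  haveI hF : Mono F := h.2.1
  haveI hG : Mono G := h'.2.1
  haveI hG' : Mono G' := h.1
  haveI hF' : Mono F' := h'.1
  have hS₀ : S₀.ShortExact := by
    haveI : Mono S₀.f := by
      refine ⟨fun x y e => (cancel_mono F).1 ?_⟩
      have := congrArg (· ≫ biprod.snd) e
      simpa [S₀, f₀] using this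
    haveI : Epi S₀.g := by
      rw [epi_iff_surjective_up_to_refinements]
      intro T y
      have hy : (y ≫ ι ≫ πf) ≫ π' = 0 := by
        rw [assoc, assoc]
        show y ≫ kernel.ι p ≫ p = 0
        rw [kernel.condition, comp_zero]
      obtain ⟨T₁, t₁, _, s, hs⟩ := (stepSeq_exact a g (f :: l)).exact_up_to_refinements _ hy
      change t₁ ≫ y ≫ ι ≫ πf = s ≫ G' at hs
      obtain ⟨T₂, t₂, _, s', hs'⟩ := surjective_up_to_refinements_of_epi πf s
      have hz : (t₂ ≫ t₁ ≫ y ≫ ι - s' ≫ G) ≫ πf = 0 := by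
        simp only [Preadditive.sub_comp, assoc, hs]
        rw [← hGG', reassoc_of% hs', sub_self]
      obtain ⟨T₃, t₃, _, r, hr⟩ := (stepSeq_exact a f l).exact_up_to_refinements _ hz
      change t₃ ≫ (t₂ ≫ t₁ ≫ y ≫ ι - s' ≫ G) = r ≫ F at hr
      refine ⟨T₃, t₃ ≫ t₂ ≫ t₁, inferInstance, biprod.lift r (t₃ ≫ s'), ?_⟩
      rw [← cancel_mono ι]
      show ((t₃ ≫ t₂ ≫ t₁) ≫ y) ≫ ι = (biprod.lift r (t₃ ≫ s') ≫ g₀) ≫ ι
      rw [assoc (biprod.lift _ _), hg₀, biprod.lift_desc, ← hr, Preadditive.comp_sub, assoc t₃ s' G,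
        sub_add_cancel]
      simp only [assoc]
    refine { exact := ?_ }
    rw [ShortComplex.exact_iff_exact_up_to_refinements]
    intro T x hx
    have hx' : (x ≫ biprod.fst) ≫ F + (x ≫ biprod.snd) ≫ G = 0 := by
      have := congrArg (· ≫ ι) hx
      simp only [S₀, assoc, hg₀, zero_comp] at this
      rw [← this]
      simp [biprod.desc_eq, Preadditive.comp_add]
    have hb : (x ≫ biprod.snd) ≫ πf = 0 := by
      rw [← cancel_mono G', assoc, hGG', zero_comp]
      have := congrArg (· ≫ πf) hx'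
      simpa [Preadditive.add_comp, hFf] using this
    obtain ⟨T₁, t₁, _, t, ht⟩ := (stepSeq_exact a f l).exact_up_to_refinements _ hb
    change t₁ ≫ x ≫ biprod.snd = t ≫ F at ht
    refine ⟨T₁, t₁, inferInstance, t, ?_⟩
    show t₁ ≫ x = t ≫ biprod.lift (-G) F
    apply biprod.hom_ext
    · rw [← cancel_mono F]
      simp only [assoc, biprod.lift_fst_assoc, biprod.lift_fst, Preadditive.neg_comp, Preadditive.comp_neg]
      have := congrArg (t₁ ≫ ·) hx'
      simp only [Preadditive.comp_add, comp_zero, assoc, reassoc_of% ht] at this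
      rw [eq_neg_of_add_eq_zero_left this, D.act_comm f g]
    · simpa using ht
  let SI : ShortComplex C := ShortComplex.mk ι p (kernel.condition p)
  have hSI : SI.ShortExact := by
    haveI : Mono SI.f := inferInstanceAs (Mono (kernel.ι p))
    haveI : Epi πf := inferInstanceAs (Epi (cokernel.π F))
    haveI : Epi π' := inferInstanceAs (Epi (cokernel.π G'))
    haveI : Epi SI.g := inferInstanceAs (Epi (πf ≫ π'))
    exact { exact := ShortComplex.exact_kernel p }
  let φ : kernel p ⟶ (kq a (f :: l)).Q :=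
    h.stepSeq_shortExact.exact.lift (ι ≫ πf) (by
      show (ι ≫ πf) ≫ π' = 0
      rw [assoc]; exact kernel.condition p)
  have hφ : φ ≫ G' = ι ≫ πf := h.stepSeq_shortExact.exact.lift_f _ _
  have hg₀φ : g₀ ≫ φ = biprod.snd ≫ πf := by
    rw [← cancel_mono G', assoc, hφ, reassoc_of% hg₀, assoc, hGG']
    ext <;> simp [hFf]
  let φ' : kernel p ⟶ (kq a (g :: l)).Q :=
    h'.stepSeq_shortExact.exact.lift (ι ≫ πg) (by
      show (ι ≫ πg) ≫ π'' = 0
      rw [← cancel_mono θ.hom, assoc, assoc, hp'', zero_comp]; exact kernel.condition p)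
  have hφ' : φ' ≫ F' = ι ≫ πg := h'.stepSeq_shortExact.exact.lift_f _ _
  have hg₀φ' : g₀ ≫ φ' = biprod.fst ≫ πg := by
    rw [← cancel_mono F', assoc, hφ', reassoc_of% hg₀, assoc, hFF']
    ext <;> simp [hGg]
  have e₁ : hSI.extClass.comp (Ext.mk₀ φ) (add_zero 1) = h.stepSeq_shortExact.extClass :=
    (ShortComplex.ShortExact.extClass_naturality hSI h.stepSeq_shortExact
      (ShortComplex.homMk φ πf (𝟙 _) hφ (comp_id p).symm)).trans (Ext.mk₀_id_comp _)
  have e₂ : hS₀.extClass = (Ext.mk₀ φ).comp (KReg.stepSeq_shortExact h.of_cons).extClass (zero_add 1) :=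
    (Ext.comp_mk₀_id _).symm.trans
      (ShortComplex.ShortExact.extClass_naturality hS₀ (KReg.stepSeq_shortExact h.of_cons)
        (ShortComplex.homMk (𝟙 _) biprod.snd φ ((id_comp _).trans (biprod.lift_snd _ _).symm) hg₀φ.symm))
  have e₃ : hSI.extClass.comp (Ext.mk₀ φ') (add_zero 1) =
      (Ext.mk₀ θ.inv).comp h'.stepSeq_shortExact.extClass (zero_add 1) :=
    ShortComplex.ShortExact.extClass_naturality hSI h'.stepSeq_shortExact
      (ShortComplex.homMk φ' πg θ.inv hφ' (show πg ≫ π'' = p ≫ θ.inv by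
        rw [← hp'', assoc, assoc, θ.hom_inv_id, comp_id]))
  have e₄ : -hS₀.extClass = (Ext.mk₀ φ').comp (KReg.stepSeq_shortExact h'.of_cons).extClass (zero_add 1) := by
    refine Eq.trans ?_ (ShortComplex.ShortExact.extClass_naturality hS₀ (KReg.stepSeq_shortExact h'.of_cons)
      (ShortComplex.homMk (-𝟙 _) biprod.fst φ' ((Preadditive.neg_comp _ _).trans
        ((congrArg (fun z => -z) (id_comp G)).trans (biprod.lift_fst _ _).symm)) hg₀φ'.symm))
    refine (congrArg (fun z => -z) (Ext.comp_mk₀_id hS₀.extClass).symm).trans ?_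
    refine (Ext.comp_neg _ _ _).symm.trans ?_
    exact congrArg (fun z => hS₀.extClass.comp z (add_zero 1)) (Ext.mk₀_neg _).symm
  have key : (Ext.mk₀ θ.hom).comp (h.stepSeq_shortExact.extClass.comp
      (KReg.stepSeq_shortExact h.of_cons).extClass (rfl : 1 + 1 = 2)) (zero_add 2) =
      -(h'.stepSeq_shortExact.extClass.comp (KReg.stepSeq_shortExact h'.of_cons).extClass (rfl : 1 + 1 = 2)) := by
    have h1 : h.stepSeq_shortExact.extClass.comp (KReg.stepSeq_shortExact h.of_cons).extClass (rfl : 1 + 1 = 2)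
        = hSI.extClass.comp hS₀.extClass (rfl : 1 + 1 = 2) :=
      (congrArg (fun z => z.comp (KReg.stepSeq_shortExact h.of_cons).extClass (rfl : 1 + 1 = 2)) e₁.symm).trans
        ((Ext.comp_assoc_of_second_deg_zero _ _ _ _).trans
          (congrArg (fun z => hSI.extClass.comp z (rfl : 1 + 1 = 2)) e₂.symm))
    have h3 : (Ext.mk₀ θ.inv).comp (h'.stepSeq_shortExact.extClass.comp
          (KReg.stepSeq_shortExact h'.of_cons).extClass (rfl : 1 + 1 = 2)) (zero_add 2) =
        -hSI.extClass.comp hS₀.extClass (rfl : 1 + 1 = 2) :=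
      (mk₀_comp_comp _ _ _ _).trans
        ((congrArg (fun z => z.comp (KReg.stepSeq_shortExact h'.of_cons).extClass (rfl : 1 + 1 = 2)) e₃.symm).trans
          ((Ext.comp_assoc_of_second_deg_zero _ _ _ _).trans
            ((congrArg (fun z => hSI.extClass.comp z (rfl : 1 + 1 = 2)) e₄.symm).trans (Ext.comp_neg _ _ _))))
    rw [h1, ← neg_eq_iff_eq_neg.mpr h3, Ext.comp_neg, Ext.mk₀_comp_mk₀_assoc, θ.hom_inv_id, Ext.mk₀_id_comp]
    rfl
  refine ⟨h, h', add_zero _, θ, hθ, ?_⟩
  rw [kcls_cons h, kcls_cons h.of_cons, kcls_cons h', kcls_cons h'.of_cons, map_neg, map_one]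
  show _ = Ext.comp _ (Ext.mk₀ (-(𝟙 A))) _
  rw [Ext.mk₀_neg, Ext.comp_neg, Ext.comp_mk₀_id]
  have hl : 1 + 1 + l.length = l.length + 1 + 1 := by omega
  refine (congrArg (fun z => (Ext.mk₀ θ.hom).comp z (zero_add _))
    (Ext.comp_assoc h.stepSeq_shortExact.extClass _ (kcls l h.of_cons.of_cons) (rfl : 1 + 1 = 2)
      (Nat.add_comm 1 l.length) hl).symm).trans ?_
  refine (mk₀_comp_comp _ _ _ _).trans ?_
  refine (congrArg (fun z => z.comp (kcls l h.of_cons.of_cons) (show 2 + l.length = l.length + 1 + 1 by omega)) key).trans ?_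
  refine (Ext.neg_comp _ _ _).trans (congrArg (fun z => -z) ?_)
  exact Ext.comp_assoc h'.stepSeq_shortExact.extClass _ (kcls l h'.of_cons.of_cons) (rfl : 1 + 1 = 2)
    (Nat.add_comm 1 l.length) hl

section Compute

variable {M : C}

/-- `φ` lies in the sum of the multiples of the scalars. -/
def InI (a : R →+* End A) : List R → (A ⟶ M) → Prop
  | [], φ => φ = 0
  | f :: l, φ => ∃ ψ : A ⟶ M, InI a l (φ - (a f : A ⟶ A) ≫ ψ)

theorem InI.zero : ∀ l : List R, InI a l (0 : A ⟶ M)
  | [] => rfl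
  | f :: l => ⟨0, by rw [comp_zero, sub_zero]; exact InI.zero l⟩

theorem InI.add : ∀ {l : List R} {φ φ' : A ⟶ M}, InI a l φ → InI a l φ' → InI a l (φ + φ')
  | [], φ, φ', h, h' => by rw [show φ = 0 from h, show φ' = 0 from h', add_zero]; rfl
  | f :: l, φ, φ', ⟨ψ, h⟩, ⟨ψ', h'⟩ => ⟨ψ + ψ', by
      rw [Preadditive.comp_add, add_sub_add_comm]; exact InI.add h h'⟩

theorem InI.of_mem : ∀ {l : List R} {f : R}, f ∈ l → ∀ ψ : A ⟶ M, InI a l ((a f : A ⟶ A) ≫ ψ)
  | g :: l, f, hf, ψ => by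
    rcases List.mem_cons.1 hf with rfl | h
    · exact ⟨ψ, by rw [sub_self]; exact InI.zero l⟩
    · exact ⟨0, by rw [comp_zero, sub_zero]; exact InI.of_mem h ψ⟩

theorem InI.mem_subgroup (T : AddSubgroup (A ⟶ M)) : ∀ {l : List R},
    (∀ f ∈ l, ∀ ψ : A ⟶ M, (a f : A ⟶ A) ≫ ψ ∈ T) → ∀ {φ : A ⟶ M}, InI a l φ → φ ∈ T
  | [], _, φ, h => by rw [show φ = 0 from h]; exact T.zero_mem
  | f :: l, hl, φ, ⟨ψ, h⟩ => by
    have := T.add_mem (InI.mem_subgroup T (fun g hg => hl g (List.mem_cons_of_mem _ hg)) h)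
      (hl f List.mem_cons_self ψ)
    rwa [sub_add_cancel] at this

variable (hA : ∀ k : ℕ, Subsingleton (Ext.{w} A M (k + 1)))

include hA in
theorem subsingleton_ext : ∀ (l : List R), KReg a l → ∀ k : ℕ, l.length < k →
    Subsingleton (Ext.{w} (kq a l).Q M k) := by
  intro l
  induction l with
  | nil =>
    intro _ k hk
    obtain ⟨j, rfl⟩ : ∃ j, k = j + 1 := ⟨k - 1, by simp at hk; omega⟩
    exact hA j
  | cons f l ih =>
    intro h k hk
    obtain ⟨j, rfl⟩ : ∃ j, k = j + 1 := ⟨k - 1, by simp at hk; omega⟩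
    simp only [List.length_cons] at hk
    refine subsingleton_of_forall_eq 0 fun x => ?_
    haveI := ih h.of_cons (j + 1) (by omega)
    haveI := ih h.of_cons j (by omega)
    obtain ⟨y, hy⟩ := Ext.contravariant_sequence_exact₃ h.stepSeq_shortExact M x
      (Subsingleton.elim (α := Ext.{w} (kq a l).Q M (j + 1)) _ _) (Nat.add_comm 1 j)
    rw [← hy, Subsingleton.elim (α := Ext.{w} (kq a l).Q M j) y 0, Ext.comp_zero]
    rfl

include hA in
theorem kcls_surjective : ∀ (l : List R) (h : KReg a l) (x : Ext.{w} (kq a l).Q M l.length),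
    ∃ φ : A ⟶ M, (kcls l h).comp (Ext.mk₀ φ) (add_zero _) = x := by
  intro l
  induction l with
  | nil =>
    intro h x
    obtain ⟨φ, hφ⟩ := (Ext.mk₀_bijective A M).2 x
    exact ⟨φ, (Ext.mk₀_id_comp _).trans hφ⟩
  | cons f l ih =>
    intro h x
    haveI := subsingleton_ext hA l h.of_cons (l.length + 1) (Nat.lt_succ_self _)
    obtain ⟨y, hy⟩ := Ext.contravariant_sequence_exact₃ h.stepSeq_shortExact M x
      (Subsingleton.elim (α := Ext.{w} (kq a l).Q M (l.length + 1)) _ _) (Nat.add_comm 1 l.length)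
    obtain ⟨φ, rfl⟩ := ih h.of_cons y
    exact ⟨φ, (Ext.comp_assoc_of_third_deg_zero _ _ _ _).trans hy⟩

include hA in
theorem kcls_eq_zero_iff : ∀ (l : List R) (h : KReg a l) (φ : A ⟶ M),
    (kcls l h).comp (Ext.mk₀ φ) (add_zero _) = 0 ↔ InI a l φ := by
  intro l
  induction l with
  | nil =>
    intro h φ
    show (Ext.mk₀ (𝟙 A)).comp (Ext.mk₀ φ) _ = 0 ↔ φ = 0
    rw [Ext.mk₀_id_comp]
    exact Ext.mk₀_eq_zero_iff φ
  | cons f l ih =>
    intro h φ
    have hcls : (kcls (f :: l) h).comp (Ext.mk₀ φ) (add_zero _) =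
        h.stepSeq_shortExact.extClass.comp ((kcls l h.of_cons).comp (Ext.mk₀ φ) (add_zero _))
          (Nat.add_comm 1 l.length) := Ext.comp_assoc_of_third_deg_zero _ _ _ _
    have hcomm : ∀ ψ : A ⟶ M, (Ext.mk₀ ((kq a l).act f)).comp ((kcls l h.of_cons).comp (Ext.mk₀ ψ) (add_zero _))
        (zero_add _) = (kcls l h.of_cons).comp (Ext.mk₀ ((a f : A ⟶ A) ≫ ψ)) (add_zero _) := fun ψ => by
      rw [mk₀_comp_comp, kcls_comm, Ext.comp_assoc_of_third_deg_zero, Ext.mk₀_comp_mk₀]
    rw [hcls]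
    constructor
    · intro e
      obtain ⟨y, hy⟩ := Ext.contravariant_sequence_exact₁ h.stepSeq_shortExact M
        ((kcls l h.of_cons).comp (Ext.mk₀ φ) (add_zero _)) (Nat.add_comm 1 l.length) e
      obtain ⟨ψ, rfl⟩ := kcls_surjective hA l h.of_cons y
      refine ⟨ψ, (ih h.of_cons _).1 ?_⟩
      rw [show φ - (a f : A ⟶ A) ≫ ψ = φ + -((a f : A ⟶ A) ≫ ψ) from sub_eq_add_neg _ _, Ext.mk₀_add,
        Ext.mk₀_neg, Ext.comp_add, Ext.comp_neg, ← hcomm, add_neg_eq_zero]
      exact hy.symm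
    · rintro ⟨ψ, hψ⟩
      have h0 := (ih h.of_cons _).2 hψ
      rw [show φ = (φ - (a f : A ⟶ A) ≫ ψ) + (a f : A ⟶ A) ≫ ψ from (sub_add_cancel _ _).symm, Ext.mk₀_add,
        Ext.comp_add, h0, zero_add, ← hcomm]
      exact ShortComplex.ShortExact.extClass_comp_assoc h.stepSeq_shortExact _

end Compute

end Groth.Agent.ExtFund
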