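import Groth.Agent.ExtFund.Free
import Groth.Prelude.Def_RegImm
import Mathlib.RingTheory.Regular.Flat

/-!
Charts of a regular closed immersion.
-/

set_option autoImplicit false
set_option linter.style.haveILetI false
set_option linter.unusedSectionVars false
set_option backward.isDefEq.respectTransparency false
set_option backward.isDefEq.respectTransparency.types false
set_option maxHeartbeats 1000000

universe u

open CategoryTheory Limits AlgebraicGeometry TopologicalSpace Opposite
open Groth.Agent.QC (res resO)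

noncomputable section

namespace Groth.Agent.ExtFund

variable {P X : Scheme.{u}} (ι : X ⟶ P) [IsClosedImmersion ι]

/-- An affine open with a stalkwise regular list of length `c` cutting out `X`. -/
structure IsChart (c : ℕ) (U : P.Opens) (l : List Γ(P, U)) : Prop where
  len : l.length = c
  aff : IsAffineOpen U
  reg : Reg U l
  cuts : Cuts ι U l

lemma map_germ_resO {U U' : P.Opens} (h : U' ≤ U) (l : List Γ(P, U)) {y : P} (hy : y ∈ U') :
    (l.map (resO P h)).map (P.presheaf.germ U' y hy).hom = l.map (P.presheaf.germ U y (h hy)).hom := by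
  rw [List.map_map]
  exact List.map_congr_left fun r _ => P.presheaf.germ_res_apply (homOfLE h) y hy r

lemma Reg.resO {U U' : P.Opens} (h : U' ≤ U) {l : List Γ(P, U)} (hl : Reg U l) :
    Reg U' (l.map (resO P h)) := fun y hy => by
  rw [← List.map_reverse, map_germ_resO]
  exact hl y (h hy)

variable {ι}

lemma IsChart.resO {c : ℕ} {U U' : P.Opens} (h : U' ≤ U) (hU' : IsAffineOpen U') {l : List Γ(P, U)}
    (hl : IsChart ι c U l) : IsChart ι c U' (l.map (resO P h)) where
  len := by rw [List.length_map]; exact hl.len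
  aff := hU'
  reg := hl.reg.resO h
  cuts y hy := by
    refine ⟨fun hr => ?_, fun z e r => ?_⟩
    · rw [map_germ_resO]; exact (hl.cuts y (h hy)).1 hr
    · rw [map_germ_resO]; exact (hl.cuts y (h hy)).2 z e r

lemma mem_ofList_of_pow_mul {A B : Type u} [CommRing A] [CommRing B] (φ : A →+* B) {l : List A} {g a : A} {n : ℕ}
    (h : g ^ n * a ∈ Ideal.ofList l) (hg : IsUnit (φ g)) : φ a ∈ Ideal.ofList (l.map φ) := by
  rw [← Ideal.map_ofList]
  have h1 := Ideal.mem_map_of_mem φ h
  rw [map_mul, map_pow] at h1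
  exact (Ideal.unit_mul_mem_iff_mem _ (hg.pow n)).1 h1

/-- A list generating the kernel on an affine open cuts out `X`. -/
theorem cuts_of_ker {U : P.Opens} (hU : IsAffineOpen U) {l : List Γ(P, U)}
    (hker : RingHom.ker (ι.app U).hom = Ideal.ofList l) : Cuts ι U l := fun y hy => by
  have hV : IsAffineOpen (ι ⁻¹ᵁ U) := hU.preimage ι
  constructor
  · intro hr
    obtain ⟨g, hg, hyg⟩ := hU.exists_basicOpen_le
      (V := U ⊓ ⟨(Set.range ι.base)ᶜ, ι.isClosedEmbedding.isClosed_range.isOpen_compl⟩) ⟨y, hy, hr⟩ hy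
    have h0 : X.basicOpen ((ι.app U).hom g) ≤ ⊥ := fun z hz => by
      have hz' : ι.base z ∈ P.basicOpen g := by
        rw [← Scheme.preimage_basicOpen] at hz
        exact hz
      exact absurd ⟨z, rfl⟩ (hg hz').2
    haveI := hV.isLocalization_basicOpen ((ι.app U).hom g)
    haveI : Subsingleton Γ(X, X.basicOpen ((ι.app U).hom g)) := by
      rw [le_bot_iff.1 h0]
      exact CommRingCat.subsingleton_of_isTerminal X.sheaf.isTerminalOfEmpty
    obtain ⟨n, hn⟩ : ∃ n : ℕ, ((ι.app U).hom g) ^ n * 1 = 0 := by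
      obtain ⟨⟨_, n, rfl⟩, hn⟩ := (IsLocalization.map_eq_zero_iff (Submonoid.powers ((ι.app U).hom g))
        Γ(X, X.basicOpen ((ι.app U).hom g)) (1 : Γ(X, ι ⁻¹ᵁ U))).1 (Subsingleton.elim _ _)
      exact ⟨n, hn⟩
    have hmem : g ^ n * 1 ∈ Ideal.ofList l := by
      rw [← hker, RingHom.mem_ker, map_mul, map_pow, map_one]
      exact hn
    have h1 := mem_ofList_of_pow_mul (P.presheaf.germ U y hy).hom hmem (by
      exact (P.mem_basicOpen g y hy).1 hyg)
    rw [map_one] at h1
    exact (Ideal.eq_top_iff_one _).2 h1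
  · rintro z rfl r
    constructor
    · intro hr
      letI : Algebra Γ(P, U) (P.presheaf.stalk (ι.base z)) := (P.presheaf.germ U (ι.base z) hy).hom.toAlgebra
      haveI : IsLocalization (hU.primeIdealOf ⟨ι.base z, hy⟩).asIdeal.primeCompl (P.presheaf.stalk (ι.base z)) :=
        hU.isLocalization_stalk ⟨ι.base z, hy⟩
      obtain ⟨⟨a, t⟩, hat⟩ := IsLocalization.surj (hU.primeIdealOf ⟨ι.base z, hy⟩).asIdeal.primeCompl r
      change r * (P.presheaf.germ U (ι.base z) hy).hom t.1 = (P.presheaf.germ U (ι.base z) hy).hom a at hat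
      have ht : IsUnit ((P.presheaf.germ U (ι.base z) hy).hom t.1) :=
        IsLocalization.map_units (P.presheaf.stalk (ι.base z)) t
      rw [← Ideal.mul_unit_mem_iff_mem _ ht, hat]
      have h0 : (X.presheaf.germ (ι ⁻¹ᵁ U) z hy).hom ((ι.app U).hom a) = (X.presheaf.germ (ι ⁻¹ᵁ U) z hy).hom 0 := by
        rw [map_zero]
        refine (Scheme.Hom.germ_stalkMap_apply ι U z hy a).symm.trans ?_
        refine (congrArg (ι.stalkMap z).hom hat.symm).trans ?_
        rw [map_mul, hr, zero_mul]
      obtain ⟨W, hzW, i, i', he⟩ := TopCat.Presheaf.germ_eq X.presheaf z hy hy _ _ h0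
      rw [map_zero] at he
      obtain ⟨O, hO, hzO⟩ : ∃ O : Set P, IsOpen O ∧ ι.base ⁻¹' O = (W : Set X) := by
        obtain ⟨O, hO, hO'⟩ := ι.isClosedEmbedding.isInducing.isOpen_iff.1 W.isOpen
        exact ⟨O, hO, hO'⟩
      obtain ⟨g, hg, hzg⟩ := hU.exists_basicOpen_le (V := U ⊓ ⟨O, hO⟩)
        ⟨ι.base z, hy, show z ∈ ι.base ⁻¹' O by rw [hzO]; exact hzW⟩ hy
      have hle : X.basicOpen ((ι.app U).hom g) ≤ W := fun w hw => by
        rw [← Scheme.preimage_basicOpen] at hw
        show w ∈ (W : Set X)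
        rw [← hzO]
        exact (hg hw).2
      haveI := hV.isLocalization_basicOpen ((ι.app U).hom g)
      obtain ⟨n, hn⟩ : ∃ n : ℕ, ((ι.app U).hom g) ^ n * (ι.app U).hom a = 0 := by
        obtain ⟨⟨_, n, rfl⟩, hn⟩ := (IsLocalization.map_eq_zero_iff (Submonoid.powers ((ι.app U).hom g))
          Γ(X, X.basicOpen ((ι.app U).hom g)) ((ι.app U).hom a)).1 (by
            show (X.presheaf.map (homOfLE _).op).hom ((ι.app U).hom a) = 0
            rw [show (homOfLE (X.basicOpen_le ((ι.app U).hom g))).op = i.op ≫ (homOfLE hle).op from rfl,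
              Functor.map_comp, CommRingCat.comp_apply]
            exact (congrArg _ he).trans (map_zero _))
        exact ⟨n, hn⟩
      refine mem_ofList_of_pow_mul (g := g) (n := n) _ ?_ ((P.mem_basicOpen g _ hy).1 hzg)
      rw [← hker, RingHom.mem_ker, map_mul, map_pow]
      exact hn
    · intro hr
      refine Submodule.span_induction (fun x hx => ?_) (map_zero _) (fun a b _ _ ha hb => by rw [map_add, ha, hb, add_zero])
        (fun a x _ hx => by rw [smul_eq_mul, map_mul, hx, mul_zero]) hr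
      obtain ⟨f, hf, rfl⟩ := List.mem_map.1 hx
      have hf' : (ι.app U).hom f = 0 := RingHom.mem_ker.1 (hker ▸ Ideal.subset_span hf)
      exact (Scheme.Hom.germ_stalkMap_apply ι U z hy f).trans ((congrArg _ hf').trans (map_zero _))

theorem exists_chart {c : ℕ} (hι : RegImm.IsRegularImmersionOfCodim RegImm.Kind.regular c ι) (x : X) :
    ∃ (U : P.Opens) (l : List Γ(P, U)), ι.base x ∈ U ∧ IsChart ι c U l ∧
      RingHom.ker (ι.app U).hom = Ideal.ofList l := by
  obtain ⟨U, hxU, -, rs, hlen, hseq, hker⟩ := hι.2 x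
  have hspan : Ideal.ofList rs.reverse = Ideal.ofList rs := by simp [Ideal.ofList]
  refine ⟨U.1, rs.reverse, hxU, ⟨by rw [List.length_reverse, hlen], U.2, fun y hy => ?_,
    cuts_of_ker U.2 (hker.trans hspan.symm)⟩, hker.trans hspan.symm⟩
  letI : Algebra Γ(P, U.1) (P.presheaf.stalk y) := (P.presheaf.germ U.1 y hy).hom.toAlgebra
  haveI : IsLocalization (U.2.primeIdealOf ⟨y, hy⟩).asIdeal.primeCompl (P.presheaf.stalk y) :=
    U.2.isLocalization_stalk ⟨y, hy⟩
  rw [List.reverse_reverse]
  exact hseq.toIsWeaklyRegular.of_isLocalization (S := P.presheaf.stalk y) (U.2.primeIdealOf ⟨y, hy⟩).asIdeal.primeCompl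

end Groth.Agent.ExtFund
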