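import Groth.Agent.ExtFund.StalkMap
import Groth.Agent.ExtFund.Frames
import Groth.Agent.ExtShX.Rep

/-!
`ℰxtᶜ(ι_* O_X, F) ≅ ι_* E` with `E` described by the comparison maps; `E` is locally free if `F` is.
-/

set_option autoImplicit false
set_option linter.style.haveILetI false
set_option linter.unusedSectionVars false
set_option backward.isDefEq.respectTransparency false
set_option backward.isDefEq.respectTransparency.types false
set_option maxHeartbeats 1000000

universe u

open CategoryTheory Limits AlgebraicGeometry TopologicalSpace Opposite Abelian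
open Groth.Agent.QC (res resO res_res)

noncomputable section

namespace Groth.Agent.ExtFund

variable {P X : Scheme.{u}} [HasExt.{u} P.Modules] (ι : X ⟶ P) [IsClosedImmersion ι]

theorem exists_data (c : ℕ) (F : P.Modules)
    [ModSite.HasSheafHom (O := P.sheaf) ((Scheme.Modules.pushforward ι).obj (Coh.structureModule X))]
    [HasInjectiveResolutions (ModSite.Mod P.sheaf)] :
    ∃ D : EdgeData ι c F, Nonempty ((Scheme.Modules.pushforward ι).obj D.E ≅
      (ModSite.extSh (O := P.sheaf) ((Scheme.Modules.pushforward ι).obj (Coh.structureModule X)) c).obj F) := by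
  obtain ⟨T, _, _, adj, hinj, hder⟩ := ExtShX.exists_shriek ι
  haveI := GrothSS.preservesFiniteColimits_push ι
  haveI := preservesBinaryBiproducts_of_preservesBinaryCoproducts (Scheme.Modules.pushforward ι)
  haveI : (Scheme.Modules.pushforward ι).Additive := Functor.additive_of_preservesBinaryBiproducts _
  obtain ⟨Θ, hnat, hsurj, hinj'⟩ := exists_edge ι T adj F c
  obtain ⟨e⟩ := hder c F
  obtain ⟨e'⟩ := ExtShX.nonempty_extShIso ((Scheme.Modules.pushforward ι).obj (Coh.structureModule X)) c F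
  exact ⟨⟨_, Θ, hnat, hsurj, hinj'⟩, ⟨e ≪≫ e'.symm⟩⟩

variable {ι} {c : ℕ} {U : P.Opens} {l : List Γ(P, U)} {F : P.Modules} (D : EdgeData ι c F) {n : ℕ}

/-- The images of a frame form a frame. -/
theorem isFrame_xi (hF : Coh.IsQCoh F) (hl : IsChart ι c U l) {b : Fin n → Γ(F, U)} (hb : TMul.IsFrame b) :
    TMul.IsFrame fun i => xi D hl (b i) := by
  intro x hx
  let I := Ideal.ofList (l.map (P.presheaf.germ U (ι.base x) hx).hom)
  obtain ⟨Ξ, hΞs, hsurj, hker, hΞ⟩ := exists_stalk_xi D hF hl hx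
  have hres : ∀ i, Ξ (germM F hx (b i)) = germM D.E (show x ∈ ι ⁻¹ᵁ U from hx) (xi D hl (b i)) := fun i => by
    rw [hΞ U le_rfl hl.aff hx]
    exact congrArg _ (xi_congr D (by simp [List.map_congr_left fun r _ => QC.resO_self le_rfl r]) _ _ _)
  have hkey : ∀ a : Fin n → P.presheaf.stalk (ι.base x),
      Ξ (∑ i, a i • germM F hx (b i)) =
        ∑ i, (ι.stalkMap x).hom (a i) • germM D.E (show x ∈ ι ⁻¹ᵁ U from hx) (xi D hl (b i)) := fun a => by
    rw [map_sum]
    exact Finset.sum_congr rfl fun i _ => by rw [hΞs, hres]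
  refine ⟨fun c₁ c₂ h => ?_, fun m => ?_⟩
  · choose a₁ ha₁ using fun i => ι.stalkMap_surjective x (c₁ i)
    choose a₂ ha₂ using fun i => ι.stalkMap_surjective x (c₂ i)
    have h0 : Ξ (∑ i, (a₁ i - a₂ i) • germM F hx (b i)) = 0 := by
      rw [hkey]
      simp only [map_sub, ha₁, ha₂, sub_smul, Finset.sum_sub_distrib, sub_eq_zero]
      exact h
    have hI : ∀ m ∈ I • (⊤ : Submodule (P.presheaf.stalk (ι.base x)) ((DerSch.stalkFunctor P (ι.base x)).obj F)),
        ∃ a : Fin n → P.presheaf.stalk (ι.base x), (∀ i, a i ∈ I) ∧ ∑ i, a i • germM F hx (b i) = m := by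
      intro m hm
      induction hm using Submodule.smul_induction_on' with
      | smul r hr m _ =>
        obtain ⟨a, rfl⟩ := (hb (ι.base x) hx).2 m
        exact ⟨fun i => r * a i, fun i => I.mul_mem_right _ hr, by
          rw [Finset.smul_sum]
          exact Finset.sum_congr rfl fun i _ => mul_smul _ _ _⟩
      | add p _ q _ hp hq =>
        obtain ⟨a, ha, rfl⟩ := hp
        obtain ⟨a', ha', rfl⟩ := hq
        exact ⟨fun i => a i + a' i, fun i => I.add_mem (ha i) (ha' i), by
          rw [← Finset.sum_add_distrib]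
          exact Finset.sum_congr rfl fun i _ => add_smul _ _ _⟩
    obtain ⟨a, ha, he⟩ := hI _ ((hker _).1 h0)
    funext i
    rw [← ha₁ i, ← ha₂ i, ← sub_eq_zero, ← map_sub, ← congrFun ((hb (ι.base x) hx).1 he) i]
    exact ((hl.cuts (ι.base x) hx).2 x rfl _).2 (ha i)
  · obtain ⟨p, rfl⟩ := hsurj m
    obtain ⟨a, rfl⟩ := (hb (ι.base x) hx).2 p
    exact ⟨fun i => (ι.stalkMap x).hom (a i), (hkey a).symm⟩

theorem isFinLocFree_E (hι : RegImm.IsRegularImmersionOfCodim RegImm.Kind.regular c ι) (hF : FlatMod.IsFinLocFree F) :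
    FlatMod.IsFinLocFree D.E := by
  refine isFinLocFree_of_frames fun x => ?_
  obtain ⟨U, l, hxU, hl, -⟩ := exists_chart hι x
  obtain ⟨U₀, n, b, hxU₀, hb⟩ := TMul.exists_isFrame hF (ι.base x)
  obtain ⟨U', hU', hxU', hle⟩ := exists_isAffineOpen_mem_and_subset (show ι.base x ∈ U ⊓ U₀ from ⟨hxU, hxU₀⟩)
  have h1 : U' ≤ U := le_trans hle inf_le_left
  have h2 : U' ≤ U₀ := le_trans hle inf_le_right
  have hb' : TMul.IsFrame fun i => res F h2 (b i) := fun y hy => by
    have he : ∀ i, Groth.Agent.WeakAssLib.mgerm F hy (res F h2 (b i)) = Groth.Agent.WeakAssLib.mgerm F (h2 hy) (b i) :=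
      fun i => Groth.Agent.WeakAssLib.mgerm_res F h2 hy (b i)
    simp only [he]
    exact hb y (h2 hy)
  exact ⟨ι ⁻¹ᵁ U', n, _, hxU', isFrame_xi D (LocFree.isQCoh_of_isFinLocFree hF) (hl.resO h1 hU') hb'⟩

end Groth.Agent.ExtFund
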