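import Groth.Agent.ExtFund.Free
import Mathlib.CategoryTheory.Abelian.Injective.Ext
import Mathlib.CategoryTheory.Adjunction.Additive
import Mathlib.CategoryTheory.Abelian.RightDerived

/-!
The edge map `Extᶜ(i_* M, N) → Hom(M, RᶜT N)` for a right adjoint `T` of `i_*`: natural, and locally bijective
on free modules.
-/

set_option autoImplicit false
set_option linter.style.haveILetI false
set_option linter.unusedSectionVars false
set_option backward.isDefEq.respectTransparency false
set_option backward.isDefEq.respectTransparency.types false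
set_option maxHeartbeats 1000000

universe u

open CategoryTheory Category Limits HomologicalComplex Abelian AlgebraicGeometry TopologicalSpace Opposite
open Groth.Agent.QC (res app_res)

noncomputable section

namespace Groth.Agent.ExtFund

theorem exists_edge {X P : Scheme.{u}} (i : X ⟶ P) [(Scheme.Modules.pushforward i).Additive]
    (T : P.Modules ⥤ X.Modules) [T.Additive] [PreservesFiniteLimits T] (adj : Scheme.Modules.pushforward i ⊣ T)
    [EnoughInjectives P.Modules] [HasExt.{u} P.Modules] (N : P.Modules) (c : ℕ) :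
    ∃ Θ : ∀ M : X.Modules, Ext.{u} ((Scheme.Modules.pushforward i).obj M) N c →+ (M ⟶ (T.rightDerived c).obj N),
      (∀ {M M' : X.Modules} (p : M ⟶ M') (α : Ext.{u} ((Scheme.Modules.pushforward i).obj M') N c),
        Θ M ((Ext.mk₀ ((Scheme.Modules.pushforward i).map p)).comp α (zero_add c)) = p ≫ Θ M' α) ∧
      (∀ (V : X.Opens) (e : fr V ⟶ (T.rightDerived c).obj N) (x : X), x ∈ V → ∃ (V' : X.Opens) (h : V' ≤ V),
        x ∈ V' ∧ ∃ α, Θ (fr V') α = fmap h ≫ e) ∧
      (∀ (V : X.Opens) (α : Ext.{u} ((Scheme.Modules.pushforward i).obj (fr V)) N c), Θ (fr V) α = 0 →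
        ∀ x ∈ V, ∃ (V' : X.Opens) (h : V' ≤ V), x ∈ V' ∧
          (Ext.mk₀ ((Scheme.Modules.pushforward i).map (fmap h))).comp α (zero_add c) = 0) := by
  classical
  rcases c with _ | j
  · let ρ := (T.rightDerivedZeroIsoSelf).app N
    let E : ∀ M : X.Modules, Ext.{u} ((Scheme.Modules.pushforward i).obj M) N 0 → ((Scheme.Modules.pushforward i).obj M ⟶ N) :=
      fun M α => (Equiv.ofBijective _ (Ext.mk₀_bijective _ N)).symm α
    have hE : ∀ M α, Ext.mk₀ (E M α) = α := fun M α => (Equiv.ofBijective _ (Ext.mk₀_bijective _ N)).apply_symm_apply α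
    let Θ : ∀ M : X.Modules, Ext.{u} ((Scheme.Modules.pushforward i).obj M) N 0 →+ (M ⟶ (T.rightDerived 0).obj N) :=
      fun M => AddMonoidHom.mk' (fun α => adj.homEquiv M N (E M α) ≫ ρ.inv) fun a b => by
        rw [← Preadditive.add_comp, ← adj.homAddEquiv_apply, ← adj.homAddEquiv_apply, ← adj.homAddEquiv_apply, ← map_add]
        congr 2
        apply (Ext.mk₀_bijective _ N).1
        rw [Ext.mk₀_add, hE, hE, hE]
    refine ⟨Θ, fun {M M'} p α => ?_, fun V e x hx => ?_, fun V α h x hx => ⟨V, le_rfl, hx, ?_⟩⟩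
    · show adj.homEquiv M N (E M _) ≫ ρ.inv = p ≫ adj.homEquiv M' N (E M' α) ≫ ρ.inv
      rw [← assoc p, ← adj.homEquiv_naturality_left]
      congr 2
      apply (Ext.mk₀_bijective _ N).1
      rw [hE, ← Ext.mk₀_comp_mk₀, hE]
    · refine ⟨V, le_rfl, hx, Ext.mk₀ ((adj.homEquiv _ N).symm (fmap (le_refl V) ≫ e ≫ ρ.hom)), ?_⟩
      show adj.homEquiv _ N (E _ _) ≫ ρ.inv = _
      rw [show E (fr V) (Ext.mk₀ ((adj.homEquiv _ N).symm (fmap (le_refl V) ≫ e ≫ ρ.hom))) = _ from
        (Equiv.ofBijective _ (Ext.mk₀_bijective _ N)).symm_apply_apply _, Equiv.apply_symm_apply]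
      simp
    · have h1 : adj.homEquiv _ N (E (fr V) α) = 0 := by
        rw [← cancel_mono ρ.inv, zero_comp]; exact h
      have h2 : E (fr V) α = 0 := by
        apply (adj.homAddEquiv (fr V) N).injective
        rw [adj.homAddEquiv_apply, h1, map_zero]
      rw [← hE _ α, h2, Ext.mk₀_zero, Ext.comp_zero]
  · let R := injectiveResolution N
    let K : CochainComplex X.Modules ℕ := (T.mapHomologicalComplex _).obj R.cocomplex
    let e := R.isoRightDerivedObj T (j + 1)
    have hd : ∀ (M : X.Modules) (f : (Scheme.Modules.pushforward i).obj M ⟶ R.cocomplex.X (j + 1)),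
        f ≫ R.cocomplex.d (j + 1) (j + 1 + 1) = 0 →
        adj.homEquiv M _ f ≫ K.d (j + 1) (j + 1 + 1) = 0 := fun M f hf => by
      show adj.homEquiv M _ f ≫ T.map (R.cocomplex.d (j + 1) (j + 1 + 1)) = 0
      rw [← adj.homEquiv_naturality_right, hf, ← adj.homAddEquiv_apply, map_zero]
    let θ : ∀ (M : X.Modules) (f : (Scheme.Modules.pushforward i).obj M ⟶ R.cocomplex.X (j + 1)),
        f ≫ R.cocomplex.d (j + 1) (j + 1 + 1) = 0 → (M ⟶ (T.rightDerived (j + 1)).obj N) := fun M f hf =>
      K.liftCycles (adj.homEquiv M _ f) (j + 1 + 1) (by simp) (hd M f hf) ≫ K.homologyπ (j + 1) ≫ e.inv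
    have key : ∀ (M : X.Modules) (f f' : (Scheme.Modules.pushforward i).obj M ⟶ R.cocomplex.X (j + 1)) hf hf',
        R.extMk f (j + 1 + 1) rfl hf = R.extMk f' (j + 1 + 1) rfl hf' → θ M f hf = θ M f' hf' := by
      intro M f f' hf hf' h
      rw [← sub_eq_zero, R.sub_extMk] at h
      obtain ⟨g, hg⟩ := (R.extMk_eq_zero_iff _ _ rfl _ j rfl).1 h
      have hl : K.liftCycles (adj.homEquiv M _ f) (j + 1 + 1) (by simp) (hd M f hf) =
          K.liftCycles (adj.homEquiv M _ f') (j + 1 + 1) (by simp) (hd M f' hf') +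
            adj.homEquiv M _ g ≫ K.toCycles j (j + 1) := by
        rw [← cancel_mono (K.iCycles (j + 1)), Preadditive.add_comp, K.liftCycles_i, K.liftCycles_i, assoc, K.toCycles_i]
        show _ = _ + adj.homEquiv M _ g ≫ T.map (R.cocomplex.d j (j + 1))
        rw [← adj.homEquiv_naturality_right, hg, ← adj.homAddEquiv_apply, ← adj.homAddEquiv_apply, ← adj.homAddEquiv_apply,
          map_sub, add_sub_cancel]
      show _ ≫ _ = _ ≫ _
      rw [hl, Preadditive.add_comp, assoc, K.toCycles_comp_homologyπ_assoc, zero_comp, comp_zero, add_zero]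
    have hex : ∀ (M : X.Modules) (α : Ext.{u} ((Scheme.Modules.pushforward i).obj M) N (j + 1)),
        ∃ f hf, R.extMk f (j + 1 + 1) rfl hf = α := fun M α => R.extMk_surjective α (j + 1 + 1) rfl
    choose F hF hFα using hex
    let Θ : ∀ M : X.Modules, Ext.{u} ((Scheme.Modules.pushforward i).obj M) N (j + 1) →+ (M ⟶ (T.rightDerived (j + 1)).obj N) :=
      fun M => AddMonoidHom.mk' (fun α => θ M (F M α) (hF M α)) fun a b => by
        have hab : (F M a + F M b) ≫ R.cocomplex.d (j + 1) (j + 1 + 1) = 0 := by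
          rw [Preadditive.add_comp, hF, hF, add_zero]
        rw [key M (F M (a + b)) (F M a + F M b) (hF M _) hab (by rw [hFα, ← R.add_extMk _ _ _ rfl (hF M a) (hF M b), hFα, hFα])]
        show _ ≫ _ = _ ≫ _ + _ ≫ _
        rw [← Preadditive.add_comp]
        congr 1
        rw [← cancel_mono (K.iCycles (j + 1)), Preadditive.add_comp, K.liftCycles_i, K.liftCycles_i, K.liftCycles_i,
          ← adj.homAddEquiv_apply, ← adj.homAddEquiv_apply, ← adj.homAddEquiv_apply, map_add]
    refine ⟨Θ, fun {M M'} p α => ?_, fun V v x hx => ?_, fun V α h x hx => ?_⟩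
    · have hp : ((Scheme.Modules.pushforward i).map p ≫ F M' α) ≫ R.cocomplex.d (j + 1) (j + 1 + 1) = 0 := by
        rw [assoc, hF, comp_zero]
      refine (key M _ _ (hF M _) hp (by rw [hFα, ← R.mk₀_comp_extMk (F M' α) _ rfl (hF M' α), hFα])).trans ?_
      show _ ≫ _ = p ≫ _ ≫ _
      rw [← assoc p]
      congr 1
      rw [← cancel_mono (K.iCycles (j + 1)), assoc, K.liftCycles_i, K.liftCycles_i, adj.homEquiv_naturality_left]
    · obtain ⟨V', h, hxV', s, hs⟩ := TMul.exists_app_eq_of_epi (K.homologyπ (j + 1)) (sec V _ (v ≫ e.hom)) hx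
      let z : fr V' ⟶ K.cycles (j + 1) := (sec V' _).symm s
      have hz : z ≫ K.homologyπ (j + 1) = fmap h ≫ v ≫ e.hom := by
        apply (sec V' _).injective
        rw [sec_comp, AddEquiv.apply_symm_apply, hs, sec_fmap]
      let f : (Scheme.Modules.pushforward i).obj (fr V') ⟶ R.cocomplex.X (j + 1) :=
        (adj.homEquiv _ _).symm (z ≫ K.iCycles (j + 1))
      have hf : f ≫ R.cocomplex.d (j + 1) (j + 1 + 1) = 0 := by
        rw [← adj.homEquiv_naturality_right_symm]
        show (adj.homEquiv _ _).symm ((z ≫ K.iCycles (j + 1)) ≫ K.d (j + 1) (j + 1 + 1)) = 0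
        rw [assoc, K.iCycles_d, comp_zero, ← adj.homAddEquiv_symm_apply, map_zero]
      refine ⟨V', h, hxV', R.extMk f _ rfl hf, ?_⟩
      refine (key _ _ f (hF _ _) hf (hFα _ _)).trans ?_
      have hl : K.liftCycles (adj.homEquiv _ _ f) (j + 1 + 1) (by simp) (hd _ f hf) = z := by
        rw [← cancel_mono (K.iCycles (j + 1)), K.liftCycles_i, Equiv.apply_symm_apply]
      show _ ≫ _ = _
      rw [hl, reassoc_of% hz, Iso.hom_inv_id, comp_id]
    · let f := F (fr V) α
      let z := K.liftCycles (adj.homEquiv _ _ f) (j + 1 + 1) (by simp) (hd _ f (hF _ α))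
      have hz : z ≫ K.homologyπ (j + 1) = 0 := by
        rw [← cancel_mono e.inv, assoc, zero_comp]; exact h
      let S := ShortComplex.mk (K.toCycles j (j + 1)) (K.homologyπ (j + 1)) (K.toCycles_comp_homologyπ j (j + 1))
      have hS : S.Exact := S.exact_of_g_is_cokernel (K.homologyIsCokernel j (j + 1) (by simp))
      haveI : Epi (kernel.lift S.g S.f S.zero) := S.exact_iff_epi_kernel_lift.1 hS
      obtain ⟨V', hle, hxV', s, hs⟩ := TMul.exists_app_eq_of_epi (kernel.lift S.g S.f S.zero)
        (sec V _ (kernel.lift (K.homologyπ (j + 1)) z hz)) hx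
      let w : fr V' ⟶ K.X j := (sec V' _).symm s
      have hw : w ≫ K.toCycles j (j + 1) = fmap hle ≫ z := by
        have h1 : w ≫ kernel.lift S.g S.f S.zero = fmap hle ≫ kernel.lift (K.homologyπ (j + 1)) z hz := by
          apply (sec V' _).injective
          rw [sec_comp, AddEquiv.apply_symm_apply, hs, sec_fmap]
        have h2 := congrArg (· ≫ kernel.ι (K.homologyπ (j + 1))) h1
        simpa only [assoc, kernel.lift_ι, S] using h2
      refine ⟨V', hle, hxV', ?_⟩
      rw [← hFα _ α, R.mk₀_comp_extMk]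
      refine (R.extMk_eq_zero_iff _ _ rfl _ j rfl).2 ⟨(adj.homEquiv _ _).symm w, ?_⟩
      apply (adj.homEquiv _ _).injective
      rw [adj.homEquiv_naturality_right, Equiv.apply_symm_apply, adj.homEquiv_naturality_left]
      have h3 := congrArg (· ≫ K.iCycles (j + 1)) hw
      simp only [assoc, K.toCycles_i, z, K.liftCycles_i] at h3
      exact h3

end Groth.Agent.ExtFund
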