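import Groth.Agent.ExtFund.Abstract
import Groth.Agent.HDU.ModData
import Groth.Agent.KFlat.SchemeStalk
import Groth.Agent.KFlat.ClosedImm
import Groth.Agent.TMul.GlobGen
import Groth.Agent.W7Hull.Sub

/-!
Free modules on opens of a scheme, their scalars, and the stalks of their iterated quotients.
-/

set_option autoImplicit false
set_option linter.style.haveILetI false
set_option linter.unusedSectionVars false
set_option backward.isDefEq.respectTransparency false
set_option backward.isDefEq.respectTransparency.types false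
set_option maxHeartbeats 1000000

universe u

open CategoryTheory Limits AlgebraicGeometry TopologicalSpace Opposite
open Groth.Agent.QC (res resO res_smul app_res)

noncomputable section

namespace Groth.Agent.ExtFund

variable {X : Scheme.{u}}

/-- the free module on an open -/
abbrev fr (U : X.Opens) : X.Modules := HDU.freeMod X.sheaf U

/-- maps out of the free module are sections -/
def sec (U : X.Opens) (M : X.Modules) : (fr U ⟶ M) ≃+ Γ(M, U) := HDU.modSec X.sheaf U M

lemma sec_comp {U : X.Opens} {M N : X.Modules} (φ : fr U ⟶ M) (f : M ⟶ N) :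
    sec U N (φ ≫ f) = f.app U (sec U M φ) := HDU.modSec_comp X.sheaf φ f

/-- the generator -/
def gen (U : X.Opens) : Γ(fr U, U) := sec U _ (𝟙 _)

lemma sec_apply {U : X.Opens} {M : X.Modules} (φ : fr U ⟶ M) : sec U M φ = φ.app U (gen U) := by
  rw [gen, ← sec_comp, Category.id_comp]

lemma app_gen_symm {U : X.Opens} {M : X.Modules} (s : Γ(M, U)) : ((sec U M).symm s).app U (gen U) = s := by
  rw [← sec_apply, AddEquiv.apply_symm_apply]

lemma hom_ext_gen {U : X.Opens} {M : X.Modules} {φ ψ : fr U ⟶ M} (h : φ.app U (gen U) = ψ.app U (gen U)) :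
    φ = ψ := (sec U M).injective (by rw [sec_apply, sec_apply, h])

/-- functoriality -/
def fmap {U V : X.Opens} (h : V ≤ U) : fr V ⟶ fr U := (sec V _).symm (res _ h (gen U))

lemma fmap_gen {U V : X.Opens} (h : V ≤ U) : (fmap h).app V (gen V) = res _ h (gen U) := app_gen_symm _

lemma sec_fmap {U V : X.Opens} (h : V ≤ U) {M : X.Modules} (φ : fr U ⟶ M) :
    sec V M (fmap h ≫ φ) = res M h (sec U M φ) := by
  rw [sec_comp, sec_apply φ, fmap, AddEquiv.apply_symm_apply]
  exact (app_res φ h (gen U)).symm

/-- scalars as endomorphisms -/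
def act (U : X.Opens) : Γ(X, U) →+* End (fr U) where
  toFun r := (sec U _).symm (r • gen U)
  map_one' := hom_ext_gen (by rw [app_gen_symm, one_smul]; rfl)
  map_mul' r s := hom_ext_gen (by
    rw [app_gen_symm]
    show _ = (((sec U _).symm (s • gen U) : fr U ⟶ fr U) ≫ ((sec U _).symm (r • gen U) : fr U ⟶ fr U)).app U (gen U)
    rw [Scheme.Modules.Hom.comp_app, ConcreteCategory.comp_apply, app_gen_symm, TMul.app_smul, app_gen_symm,
      mul_comm, mul_smul])
  map_zero' := by rw [zero_smul, map_zero]
  map_add' r s := by rw [add_smul, map_add]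

lemma act_gen (U : X.Opens) (r : Γ(X, U)) : ((act U r : fr U ⟶ fr U)).app U (gen U) = r • gen U :=
  app_gen_symm _

lemma sec_act {U : X.Opens} {M : X.Modules} (r : Γ(X, U)) (φ : fr U ⟶ M) :
    sec U M ((act U r : fr U ⟶ fr U) ≫ φ) = r • sec U M φ := by
  rw [sec_comp, sec_apply φ, ← TMul.app_smul, sec_apply, act_gen]

lemma fmap_act {U V : X.Opens} (h : V ≤ U) (r : Γ(X, U)) :
    (act V (resO X h r) : fr V ⟶ fr V) ≫ fmap h = fmap h ≫ (act U r : fr U ⟶ fr U) := by
  apply (sec V _).injective
  rw [sec_act, sec_fmap, sec_apply (fmap h), fmap_gen, sec_apply, act_gen, res_smul]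

section Stalk

variable (M : X.Modules) {U : X.Opens} {y : X} (hy : y ∈ U)

/-- germ of a section -/
def germM : Γ(M, U) →+ (DerSch.stalkFunctor X y).obj M := (M.presheaf.germ U y hy).hom

lemma germM_smul (r : Γ(X, U)) (s : Γ(M, U)) :
    germM M hy (r • s) = X.presheaf.germ U y hy r • germM M hy s :=
  PresheafOfModules.germ_smul (R := X.presheaf)
    (show PresheafOfModules (X.presheaf ⋙ forget₂ CommRingCat RingCat) from M.val) y U hy r s

lemma germM_res {V : X.Opens} (h : V ≤ U) (hyV : y ∈ V) (s : Γ(M, U)) :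
    germM M hyV (res M h s) = germM M hy s :=
  M.presheaf.germ_res_apply (homOfLE h) y hyV s

variable {M}

lemma germM_app {N : X.Modules} (φ : M ⟶ N) (s : Γ(M, U)) :
    ((DerSch.stalkFunctor X y).map φ).hom (germM M hy s) = germM N hy (φ.app U s) :=
  TopCat.Presheaf.stalkFunctor_map_germ_apply U y hy (Scheme.Modules.Hom.mapPresheaf φ) s

lemma exists_germM (m : (DerSch.stalkFunctor X y).obj M) :
    ∃ (W : X.Opens) (hW : y ∈ W) (s : Γ(M, W)), germM M hW s = m := by
  obtain ⟨W, hW, s, hs⟩ := M.presheaf.exists_germ_eq m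
  exact ⟨W, hW, s, hs⟩

end Stalk

lemma gen_eq (U : X.Opens) : gen U = (KFlat.shUnit (X := X)
    ((PresheafOfModules.free _).obj (yoneda.obj U))).app (op U) (ModuleCat.freeMk (𝟙 U)) := by
  show PresheafOfModules.freeYonedaEquiv (((PresheafOfModules.sheafificationAdjunction.{u} (R := X.ringCatSheaf)
    (𝟙 X.ringCatSheaf.obj)).homEquiv ((PresheafOfModules.free _).obj (yoneda.obj U)) (fr U)) (𝟙 _)) = _
  rw [Adjunction.homEquiv_id]
  simp [PresheafOfModules.freeYonedaEquiv, PresheafOfModules.freeHomEquiv, yonedaEquiv]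
  rfl

theorem stalk_gen_surjective {U : X.Opens} {y : X} (hy : y ∈ U) (m : (DerSch.stalkFunctor X y).obj (fr U)) :
    ∃ r : X.presheaf.stalk y, r • germM (fr U) hy (gen U) = m := by
  let P : CohB1.PMod X := (PresheafOfModules.free _).obj (yoneda.obj U)
  obtain ⟨q, hq⟩ := (ConcreteCategory.bijective_of_isIso ((KFlat.pst X y).map (KFlat.shUnit P))).2 m
  obtain ⟨V, hV, s, rfl⟩ := KFlat.exists_pgerm P y q
  subst hq
  show ∃ r : X.presheaf.stalk y, r • _ = KFlat.pstMap (KFlat.shUnit P) y (KFlat.pgerm P y V hV s)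
  induction s using Finsupp.induction_linear with
  | zero =>
    refine ⟨0, ?_⟩
    rw [zero_smul]
    exact ((congrArg _ (map_zero _)).trans (map_zero _)).symm
  | add a b ha hb =>
    obtain ⟨r, hr⟩ := ha
    obtain ⟨r', hr'⟩ := hb
    refine ⟨r + r', ?_⟩
    rw [add_smul, hr, hr']
    exact ((congrArg _ (map_add _ _ _)).trans (map_add _ _ _)).symm
  | single a c =>
    let a' : V ⟶ U := a
    refine ⟨X.presheaf.germ V y hV c, ?_⟩
    have hmk : (Finsupp.single a c : P.obj (op V)) = (show Γ(X, V) from c) • P.map a'.op (ModuleCat.freeMk (𝟙 U)) := by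
      have h1 : P.map a'.op (ModuleCat.freeMk (𝟙 U)) = ModuleCat.freeMk a := by
        refine (ModuleCat.freeDesc_apply _ _).trans ?_
        exact congr_arg ModuleCat.freeMk (Category.comp_id a')
      rw [h1]
      exact ((Finsupp.smul_single (α := V ⟶ U) (show Γ(X, V) from c) a' (1 : Γ(X, V))).trans
        (congrArg (Finsupp.single a') (mul_one (show Γ(X, V) from c)))).symm
    rw [hmk, KFlat.pstMap_germ]
    have h2 : (KFlat.shUnit P).app (op V) ((show Γ(X, V) from c) • P.map a'.op (ModuleCat.freeMk (𝟙 U))) =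
        (show Γ(X, V) from c) • res (fr U) (leOfHom a') (gen U) := by
      refine (((KFlat.shUnit P).app (op V)).hom.map_smul _ _).trans (congrArg (_ • ·) ?_)
      refine (congr($(PresheafOfModules.Hom.naturality (KFlat.shUnit P) a'.op) (ModuleCat.freeMk (𝟙 U)))).trans ?_
      rw [gen_eq]
      rfl
    rw [h2]
    refine Eq.trans ?_ (germM_smul (fr U) hV _ _).symm
    rw [germM_res (fr U) hy]

theorem stalk_subsingleton {U : X.Opens} {y : X} (hy : y ∉ U) :
    Subsingleton ((DerSch.stalkFunctor X y).obj (fr U)) := by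
  let P : CohB1.PMod X := (PresheafOfModules.free _).obj (yoneda.obj U)
  haveI : Subsingleton (KFlat.PStalk P y) := by
    refine subsingleton_of_forall_eq 0 fun q => ?_
    obtain ⟨V, hV, s, rfl⟩ := KFlat.exists_pgerm P y q
    haveI : IsEmpty (V ⟶ U) := ⟨fun a => hy (leOfHom a hV)⟩
    induction s using Finsupp.induction_linear with
    | zero => exact map_zero _
    | add a b ha hb => exact (map_add _ _ _).trans (by rw [ha, hb, add_zero])
    | single a c => exact isEmptyElim (show V ⟶ U from a)
  refine subsingleton_of_forall_eq 0 fun m => ?_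
  obtain ⟨q, rfl⟩ := (ConcreteCategory.bijective_of_isIso ((KFlat.pst X y).map (KFlat.shUnit P))).2 m
  rw [Subsingleton.elim (α := KFlat.PStalk P y) q 0]
  exact map_zero _

lemma stalk_gen_injective {U : X.Opens} {y : X} (hy : y ∈ U) (r : X.presheaf.stalk y)
    (h : r • germM (fr U) hy (gen U) = 0) : r = 0 := by
  let φ : fr U ⟶ Coh.structureModule X := (sec U _).symm (1 : Γ(X, U))
  have h' := congrArg ((DerSch.stalkFunctor X y).map φ).hom h
  rw [map_smul, map_zero, germM_app, app_gen_symm] at h'
  refine (KFlat.oneMap_bijective y).1 ?_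
  rw [map_zero]
  refine Eq.trans ?_ h'
  have h1 : KFlat.oneMap y (1 : X.presheaf.stalk y) = germM (Coh.structureModule X) hy (1 : Γ(X, U)) := by
    rw [← map_one (X.presheaf.germ U y hy).hom]
    exact KFlat.oneMap_germ hy _
  rw [← h1]
  exact (congrArg (KFlat.oneMap y) (mul_one r)).symm.trans ((KFlat.oneMap y).map_smul r 1)

variable {U : X.Opens} {y : X}

/-- the image of the generator in the quotient -/
def qgen (hy : y ∈ U) (D : QObj (act U)) : (DerSch.stalkFunctor X y).obj D.Q :=
  ((DerSch.stalkFunctor X y).map D.π).hom (germM (fr U) hy (gen U))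

lemma stalk_act (hy : y ∈ U) (D : QObj (act U)) (f : Γ(X, U)) (r : X.presheaf.stalk y) :
    ((DerSch.stalkFunctor X y).map (D.act f)).hom (r • qgen hy D) = (X.presheaf.germ U y hy f * r) • qgen hy D := by
  rw [map_smul, mul_comm, mul_smul]
  congr 1
  have h : ((DerSch.stalkFunctor X y).map (D.π ≫ D.act f)).hom (germM (fr U) hy (gen U)) =
      ((DerSch.stalkFunctor X y).map ((act U f : fr U ⟶ fr U) ≫ D.π)).hom (germM (fr U) hy (gen U)) := by
    rw [D.comm]
  rw [Functor.map_comp, Functor.map_comp, ModuleCat.comp_apply, ModuleCat.comp_apply, germM_app hy (act U f : fr U ⟶ fr U),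
    act_gen, germM_smul, map_smul] at h
  exact h

/-- The stalk of an iterated quotient is the quotient of the local ring. -/
theorem stalk_kq (hy : y ∈ U) : ∀ l : List Γ(X, U),
    Function.Surjective (fun r : X.presheaf.stalk y => r • qgen hy (kq (act U) l)) ∧
      ∀ r : X.presheaf.stalk y, r • qgen hy (kq (act U) l) = 0 ↔
        r ∈ Ideal.ofList (l.map (X.presheaf.germ U y hy).hom) := by
  intro l
  induction l with
  | nil =>
    have h0 : qgen hy (kq (act U) []) = germM (fr U) hy (gen U) := by
      show ((DerSch.stalkFunctor X y).map (𝟙 (fr U))).hom _ = _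
      rw [CategoryTheory.Functor.map_id]
      rfl
    refine ⟨fun m => (stalk_gen_surjective hy m).imp fun r hr => ?_, fun r => ?_⟩
    · show r • qgen hy (kq (act U) []) = m
      rw [h0, hr]
    · rw [h0, List.map_nil, Ideal.ofList_nil, Ideal.mem_bot]
      exact ⟨stalk_gen_injective hy r, fun h => by rw [h, zero_smul]⟩
  | cons f l ih =>
    let D := kq (act U) l
    let S := stepSeq (act U) f l
    have hS : (S.map (DerSch.stalkFunctor X y)).Exact := (stepSeq_exact (act U) f l).map _
    haveI : Epi S.g := inferInstanceAs (Epi (cokernel.π _))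
    have hsurj : Function.Surjective ((DerSch.stalkFunctor X y).map S.g).hom :=
      (ModuleCat.epi_iff_surjective _).1 inferInstance
    have hq : qgen hy (kq (act U) (f :: l)) = ((DerSch.stalkFunctor X y).map S.g).hom (qgen hy D) := by
      show ((DerSch.stalkFunctor X y).map (D.π ≫ cokernel.π _)).hom _ = _
      rw [Functor.map_comp]
      rfl
    refine ⟨fun m => ?_, fun r => ?_⟩
    · obtain ⟨m', rfl⟩ := hsurj m
      obtain ⟨r, rfl⟩ := ih.1 m'
      refine ⟨r, ?_⟩
      show r • qgen hy (kq (act U) (f :: l)) = _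
      rw [hq]
      exact (((DerSch.stalkFunctor X y).map S.g).hom.map_smul r (qgen hy D)).symm
    · have hlin : r • qgen hy (kq (act U) (f :: l)) = ((DerSch.stalkFunctor X y).map S.g).hom (r • qgen hy D) :=
        (congrArg (r • ·) hq).trans (((DerSch.stalkFunctor X y).map S.g).hom.map_smul r (qgen hy D)).symm
      rw [hlin, List.map_cons, Ideal.ofList_cons, Submodule.mem_sup]
      constructor
      · intro h
        obtain ⟨w, hw⟩ := (ShortComplex.moduleCat_exact_iff _).1 hS (r • qgen hy D) h
        obtain ⟨r', rfl⟩ := ih.1 w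
        change ((DerSch.stalkFunctor X y).map (D.act f)).hom (r' • qgen hy D) = r • qgen hy D at hw
        rw [stalk_act, ← sub_eq_zero, ← sub_smul, ih.2] at hw
        exact ⟨_, Ideal.mem_span_singleton'.2 ⟨r', rfl⟩, _, neg_mem hw, by ring⟩
      · rintro ⟨a, ha, b, hb, rfl⟩
        obtain ⟨r', rfl⟩ := Ideal.mem_span_singleton'.1 ha
        rw [add_smul, (ih.2 b).2 hb, add_zero, mul_comm r', ← stalk_act]
        exact congr($(((DerSch.stalkFunctor X y).map_comp S.f S.g).symm.trans
          ((congrArg (DerSch.stalkFunctor X y).map S.zero).trans (Functor.map_zero _ _ _))) (r' • qgen hy D))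

theorem stalk_kq_subsingleton (hy : y ∉ U) (l : List Γ(X, U)) :
    Subsingleton ((DerSch.stalkFunctor X y).obj (kq (act U) l).Q) := by
  haveI := stalk_subsingleton (X := X) hy
  haveI := (DerSch.stalkFunctor X y).map_epi (kq (act U) l).π
  exact ((ModuleCat.epi_iff_surjective _).1 this).subsingleton

/-- The germs at every point form a weakly regular sequence (last entry first). -/
def Reg (U : X.Opens) (l : List Γ(X, U)) : Prop :=
  ∀ (y : X) (hy : y ∈ U), RingTheory.Sequence.IsWeaklyRegular (X.presheaf.stalk y)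
    (l.reverse.map (X.presheaf.germ U y hy).hom)

lemma Reg.of_cons {f : Γ(X, U)} {l : List Γ(X, U)} (h : Reg U (f :: l)) : Reg U l := fun y hy => by
  have h' := h y hy
  rw [List.reverse_cons, List.map_append, RingTheory.Sequence.isWeaklyRegular_append_iff] at h'
  exact h'.1

theorem kReg_of_reg : ∀ {l : List Γ(X, U)}, Reg U l → KReg (act U) l := by
  intro l
  induction l with
  | nil => intro _; trivial
  | cons f l ih =>
    intro h
    refine ⟨?_, ih h.of_cons⟩
    have : ∀ y : X, Mono ((TopCat.Presheaf.stalkFunctor AddCommGrpCat.{u} y).map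
        ((SheafOfModules.toSheaf.{u} X.ringCatSheaf).map ((kq (act U) l).act f)).hom) := fun y => by
      refine (AddCommGrpCat.mono_iff_injective _).2 ?_
      show Function.Injective ((DerSch.stalkFunctor X y).map ((kq (act U) l).act f)).hom
      by_cases hy : y ∈ U
      · refine (injective_iff_map_eq_zero _).2 fun m hm => ?_
        obtain ⟨r, rfl⟩ := (stalk_kq hy l).1 m
        rw [stalk_act, (stalk_kq hy l).2] at hm
        refine ((stalk_kq hy l).2 r).2 ?_
        have h' := h y hy
        rw [List.reverse_cons, List.map_append, RingTheory.Sequence.isWeaklyRegular_append_iff, List.map_singleton,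
          RingTheory.Sequence.isWeaklyRegular_singleton_iff, smul_eq_mul, Ideal.mul_top] at h'
        have hr : Ideal.ofList (l.reverse.map (X.presheaf.germ U y hy).hom) =
            Ideal.ofList (l.map (X.presheaf.germ U y hy).hom) := by
          simp [Ideal.ofList]
        rw [← hr] at hm ⊢
        exact (Submodule.Quotient.mk_eq_zero _).1 (h'.2.right_eq_zero_of_smul (x := Submodule.Quotient.mk r) (by
          rw [← Submodule.Quotient.mk_smul, Submodule.Quotient.mk_eq_zero, smul_eq_mul]
          exact hm))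
      · haveI := stalk_kq_subsingleton hy l
        exact Function.injective_of_subsingleton _
    exact Functor.mono_of_mono_map (SheafOfModules.toSheaf.{u} X.ringCatSheaf)
      ((TopCat.Presheaf.mono_iff_stalk_mono _).2 this)

section Closed

variable {Z : Scheme.{u}} (ι : Z ⟶ X) [IsClosedImmersion ι]

/-- `l` cuts out `Z` inside `U`, seen on stalks. -/
def Cuts (U : X.Opens) (l : List Γ(X, U)) : Prop :=
  ∀ (y : X) (hy : y ∈ U), (y ∉ Set.range ι.base → Ideal.ofList (l.map (X.presheaf.germ U y hy).hom) = ⊤) ∧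
    ∀ (z : Z) (e : ι.base z = y), ∀ r : X.presheaf.stalk (ι.base z),
      (ι.stalkMap z).hom r = 0 ↔ r ∈ Ideal.ofList (l.map (X.presheaf.germ U (ι.base z) (e ▸ hy)).hom)

theorem exists_quot_iso {l : List Γ(X, U)} (hc : Cuts ι U l) :
    ∃ e : (kq (act U) l).Q ≅ (Scheme.Modules.pushforward ι).obj (fr (ι ⁻¹ᵁ U)),
      sec U ((Scheme.Modules.pushforward ι).obj (fr (ι ⁻¹ᵁ U))) ((kq (act U) l).π ≫ e.hom) = gen (ι ⁻¹ᵁ U) := by
  let G := (Scheme.Modules.pushforward ι).obj (fr (ι ⁻¹ᵁ U))
  let φ : fr U ⟶ G := (sec U G).symm (gen (ι ⁻¹ᵁ U))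
  have hkill : ∀ f ∈ l, (act U f : fr U ⟶ fr U) ≫ φ = 0 := fun f hf => by
    apply (sec U G).injective
    rw [sec_act, map_zero, AddEquiv.apply_symm_apply]
    refine W7Hull.section_ext (M := G) _ _ fun y hy => ?_
    refine Eq.trans ?_ (map_zero (germM G hy)).symm
    show germM G hy (f • (show Γ(G, U) from gen (ι ⁻¹ᵁ U))) = 0
    by_cases hr : y ∈ Set.range ι.base
    · obtain ⟨z, rfl⟩ := hr
      apply (KFlat.pushStalk_bijective ι z (fr (ι ⁻¹ᵁ U))).1
      rw [map_zero]
      refine (congrArg (KFlat.pushStalk ι z _) (germM_smul G hy f _)).trans ?_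
      refine (KFlat.pushStalk_smul ι z _ _ _).trans ?_
      rw [((hc (ι.base z) hy).2 z rfl _).2 (Ideal.subset_span (List.mem_map.2 ⟨f, hf, rfl⟩)), zero_smul]
    · exact @Subsingleton.elim _ (KFlat.subsingleton_stalk_push ι _ hr) _ _
  obtain ⟨ψ, hψ⟩ := exists_desc l φ hkill
  have hbij : ∀ y : X, IsIso ((DerSch.stalkFunctor X y).map ψ) := fun y => by
    refine (ConcreteCategory.isIso_iff_bijective _).2 ?_
    by_cases hy : y ∈ U
    · by_cases hr : y ∈ Set.range ι.base
      · obtain ⟨z, rfl⟩ := hr
        have hq : ∀ r : X.presheaf.stalk (ι.base z),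
            KFlat.pushStalk ι z (fr (ι ⁻¹ᵁ U)) (((DerSch.stalkFunctor X (ι.base z)).map ψ).hom (r • qgen hy (kq (act U) l))) =
              (ι.stalkMap z).hom r • germM (fr (ι ⁻¹ᵁ U)) (show z ∈ ι ⁻¹ᵁ U from hy) (gen _) := fun r => by
          rw [map_smul]
          refine (KFlat.pushStalk_smul ι z _ _ _).trans (congrArg (_ • ·) ?_)
          have h1 : ((DerSch.stalkFunctor X (ι.base z)).map ψ).hom (qgen hy (kq (act U) l)) =
              germM G hy (gen (ι ⁻¹ᵁ U)) := by
            show ((DerSch.stalkFunctor X _).map ψ).hom (((DerSch.stalkFunctor X _).map _).hom _) = _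
            rw [← ModuleCat.comp_apply, ← Functor.map_comp, hψ, germM_app, app_gen_symm]
          rw [h1]
          exact KFlat.pushStalk_germ ι z _ U hy _
        refine ⟨(injective_iff_map_eq_zero _).2 fun m hm => ?_, fun w => ?_⟩
        · obtain ⟨r, rfl⟩ := (stalk_kq hy l).1 m
          have h := (congrArg (KFlat.pushStalk ι z _) hm).trans (map_zero _)
          rw [hq] at h
          exact ((stalk_kq hy l).2 r).2 (((hc (ι.base z) hy).2 z rfl r).1 (stalk_gen_injective _ _ h))
        · obtain ⟨a, ha⟩ := stalk_gen_surjective (show z ∈ ι ⁻¹ᵁ U from hy) (KFlat.pushStalk ι z _ w)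
          obtain ⟨r, rfl⟩ := ι.stalkMap_surjective z a
          exact ⟨r • qgen hy (kq (act U) l), (KFlat.pushStalk_bijective ι z _).1 ((hq r).trans ha)⟩
      · haveI : Subsingleton ((DerSch.stalkFunctor X y).obj G) := KFlat.subsingleton_stalk_push ι _ hr
        haveI : Subsingleton ((DerSch.stalkFunctor X y).obj (kq (act U) l).Q) := subsingleton_of_forall_eq 0 fun m => by
          obtain ⟨r, rfl⟩ := (stalk_kq hy l).1 m
          exact ((stalk_kq hy l).2 r).2 (((hc y hy).1 hr) ▸ Submodule.mem_top)
        exact ⟨Function.injective_of_subsingleton _, fun w => ⟨0, Subsingleton.elim _ _⟩⟩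
    · haveI : Subsingleton ((DerSch.stalkFunctor X y).obj G) := by
        by_cases hr : y ∈ Set.range ι.base
        · obtain ⟨z, rfl⟩ := hr
          haveI := stalk_subsingleton (X := Z) (show z ∉ ι ⁻¹ᵁ U from hy)
          exact @Function.Injective.subsingleton _ _ (KFlat.pushStalk ι z (fr (ι ⁻¹ᵁ U)))
            (KFlat.pushStalk_bijective ι z _).1 (stalk_subsingleton (X := Z) (show z ∉ ι ⁻¹ᵁ U from hy))
        · exact KFlat.subsingleton_stalk_push ι _ hr
      haveI := stalk_kq_subsingleton hy l
      exact ⟨Function.injective_of_subsingleton _, fun w => ⟨0, Subsingleton.elim _ _⟩⟩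
  haveI : IsIso ψ := KFlat.isIso_of_stalks ψ hbij
  exact ⟨asIso ψ, by rw [asIso_hom, hψ, AddEquiv.apply_symm_apply]⟩

end Closed

end Groth.Agent.ExtFund
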