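import Groth.Agent.ExtFund.Abstract

/-!
The classes of iterated quotients are natural in the object with scalars.
-/

set_option autoImplicit false
set_option linter.style.haveILetI false

universe w v u u'

open CategoryTheory Category Limits Abelian

noncomputable section

namespace Groth.Agent.ExtFund

variable {R R' : Type u'} [CommRing R] [CommRing R'] {C : Type u} [Category.{v} C] [Abelian C] [HasExt.{w} C]
  {A A' : C} {a : R →+* End A} {a' : R' →+* End A'}

theorem kcls_map (ρ : R → R') (g : A' ⟶ A) (hg : ∀ r, (a' (ρ r) : A' ⟶ A') ≫ g = g ≫ (a r : A ⟶ A)) :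
    ∀ (l : List R) (h : KReg a l) (h' : KReg a' (l.map ρ)), ∃ κ : (kq a' (l.map ρ)).Q ⟶ (kq a l).Q,
      (kq a' (l.map ρ)).π ≫ κ = g ≫ (kq a l).π ∧
      ∀ hn : (l.map ρ).length + 0 = l.length,
        (Ext.mk₀ κ).comp (kcls l h) (zero_add l.length) = (kcls (l.map ρ) h').comp (Ext.mk₀ g) hn := by
  intro l
  induction l with
  | nil =>
    intro h h'
    refine ⟨g, (id_comp g).trans (comp_id g).symm, fun hn => ?_⟩
    show (Ext.mk₀ g).comp (Ext.mk₀ (𝟙 A)) _ = (Ext.mk₀ (𝟙 A')).comp (Ext.mk₀ g) _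
    rw [Ext.comp_mk₀_id, Ext.mk₀_id_comp]
  | cons f l ih =>
    intro h h'
    obtain ⟨κ, hκ, e⟩ := ih h.of_cons h'.of_cons
    have hκf : (kq a' (l.map ρ)).act (ρ f) ≫ κ = κ ≫ (kq a l).act f := by
      rw [← cancel_epi (kq a' (l.map ρ)).π, ← assoc, (kq a' (l.map ρ)).comm, assoc, hκ, ← assoc, hg, assoc,
        ← (kq a l).comm, ← assoc, ← assoc, ← hκ]
    refine ⟨cokernel.map ((kq a' (l.map ρ)).act (ρ f)) ((kq a l).act f) κ κ hκf, ?_, fun hn => ?_⟩
    · show ((kq a' (l.map ρ)).π ≫ cokernel.π _) ≫ cokernel.map _ _ κ κ hκf = g ≫ (kq a l).π ≫ cokernel.π _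
      rw [assoc, cokernel.π_desc, ← assoc, hκ, assoc]
    · let φ : stepSeq a' (ρ f) (l.map ρ) ⟶ stepSeq a f l :=
        ShortComplex.homMk κ κ (cokernel.map _ _ κ κ hκf) hκf.symm (cokernel.π_desc _ _ _).symm
      have hlm : (l.map ρ).length + 0 = l.length := by simp
      have hn' := ShortComplex.ShortExact.extClass_naturality (KReg.stepSeq_shortExact (l := l.map ρ) h') h.stepSeq_shortExact φ
      show (Ext.mk₀ φ.τ₃).comp (h.stepSeq_shortExact.extClass.comp (kcls l h.of_cons) _) _ =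
        ((KReg.stepSeq_shortExact (l := l.map ρ) h').extClass.comp (kcls (l.map ρ) h'.of_cons) _).comp _ _
      refine (mk₀_comp_comp _ _ _ _).trans ?_
      rw [← hn']
      refine (Ext.comp_assoc_of_second_deg_zero _ _ _ _).trans ?_
      refine (congrArg (fun z => (KReg.stepSeq_shortExact (l := l.map ρ) h').extClass.comp z _) (e hlm)).trans ?_
      exact (Ext.comp_assoc _ _ _ (Nat.add_comm 1 _) hlm (by simp only [List.length_cons, List.length_map]; omega)).symm

end Groth.Agent.ExtFund
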