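import Groth.Agent.ExtFund.MoveLift
import Groth.Agent.ExtFund.Data
import Groth.Agent.TMul.Assoc
import Groth.Agent.GrothSS.ChangeRings

/-!
The local comparison maps, twisted by the wedge of the conormal classes, glue to `ι^*F ≅ E ⊗ ∧ᶜ(conormal)`.
-/

set_option autoImplicit false
set_option linter.style.haveILetI false
set_option linter.unusedSectionVars false
set_option backward.isDefEq.respectTransparency false
set_option backward.isDefEq.respectTransparency.types false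
set_option maxHeartbeats 1000000

universe u

open CategoryTheory Limits AlgebraicGeometry TopologicalSpace Opposite Abelian
open Groth.Agent.QC (res resO res_res resO_resO res_smul section_eq_of_locally)

noncomputable section

namespace Groth.Agent.ExtFund

variable {P X : Scheme.{u}} {ι : X ⟶ P} [IsClosedImmersion ι] {c : ℕ} {L : X.Modules}

lemma IsGood.preimage {U : P.Opens} {l : List Γ(P, U)} (hl : IsGood ι c U l) : IsAffineOpen (ι ⁻¹ᵁ U) :=
  hl.chart.aff.preimage ι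

/-- A chosen identification of an exterior power. -/
structure PowData (c : ℕ) (E L : X.Modules) where
  /-- the identifications -/
  φ : ∀ V : X.affineOpens, (L.val.obj (op V.1)) ≃ₗ[Γ(X, V.1)] ↥(⋀[Γ(X, V.1)]^c (E.val.obj (op V.1)))
  compat : ∀ (V W : X.affineOpens) (h : W.1 ≤ V.1) (e : Fin c → E.val.obj (op V.1)),
    res L h ((φ V).symm (exteriorPower.ιMulti _ c e)) =
      (φ W).symm (exteriorPower.ιMulti _ c fun j => res E h (e j))

theorem nonempty_powData {E : X.Modules} (h : ExtPow.IsExtPow c E L) : Nonempty (PowData c E L) := by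
  obtain ⟨φ, hφ⟩ := h
  exact ⟨⟨φ, hφ⟩⟩

variable (T : PowData c (Omega.conormal ι) L) {U : P.Opens} {l : List Γ(P, U)}

/-- the wedge of the classes in `L` -/
def lam (hl : IsGood ι c U l) : Γ(L, ι ⁻¹ᵁ U) :=
  (T.φ ⟨ι ⁻¹ᵁ U, hl.preimage⟩).symm (exteriorPower.ιMulti _ c (clsFam ι c U l hl.chart.len))

lemma lam_congr {l' : List Γ(P, U)} (e : l = l') (h : IsGood ι c U l) (h' : IsGood ι c U l') :
    lam T h = lam T h' := by
  subst e
  rfl

lemma lam_res (hl : IsGood ι c U l) {U' : P.Opens} (h : U' ≤ U) (hU' : IsAffineOpen U') :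
    lam T (hl.resO h hU') = res L (ι.preimage_mono h) (lam T hl) := by
  rw [lam, lam, T.compat ⟨ι ⁻¹ᵁ U, hl.preimage⟩ ⟨ι ⁻¹ᵁ U', (hl.resO h hU').preimage⟩]
  congr 2
  funext j
  simp only [clsFam, List.get_eq_getElem, List.getElem_map, Fin.val_cast]
  exact cls_res h (hl.app_eq_zero (List.getElem_mem _))

lemma lam_linked {l' : List Γ(P, U)} (hl : IsGood ι c U l) (hl' : IsGood ι c U l') {d : Γ(P, U)}
    (h : wedge ι U l' = (ι.app U).hom d • wedge ι U l) : lam T hl' = (ι.app U).hom d • lam T hl := by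
  rw [lam, lam]
  refine Eq.trans ?_ ((T.φ ⟨ι ⁻¹ᵁ U, hl.preimage⟩).symm.map_smul ((ι.app U).hom d) _)
  refine congrArg _ (Subtype.ext ?_)
  show ExteriorAlgebra.ιMulti Γ(X, ι ⁻¹ᵁ U) c (clsFam ι c U l' hl'.chart.len) =
    (ι.app U).hom d • ExteriorAlgebra.ιMulti Γ(X, ι ⁻¹ᵁ U) c (clsFam ι c U l hl.chart.len)
  rw [ιMulti_clsFam, ιMulti_clsFam, h]

lemma lam_bijective (hl : IsGood ι c U l) : Function.Bijective fun r : Γ(X, ι ⁻¹ᵁ U) => r • lam T hl := by
  obtain ⟨b, hb⟩ := exists_basis_cls hl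
  have h1 := bijective_smul_ιMulti b
  rw [hb] at h1
  have h2 : (fun r : Γ(X, ι ⁻¹ᵁ U) => r • lam T hl) = (T.φ ⟨ι ⁻¹ᵁ U, hl.preimage⟩).symm ∘
      fun r => r • exteriorPower.ιMulti Γ(X, ι ⁻¹ᵁ U) c (clsFam ι c U l hl.chart.len) :=
    funext fun r => ((T.φ ⟨ι ⁻¹ᵁ U, hl.preimage⟩).symm.map_smul r _).symm
  rw [h2]
  exact (T.φ ⟨ι ⁻¹ᵁ U, hl.preimage⟩).symm.bijective.comp h1

lemma isFrame_lam (hl : IsGood ι c U l) : TMul.IsFrame (fun _ : Fin 1 => lam T hl) := by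
  intro x hx
  have key : ∀ (r : X.presheaf.stalk x) (W : X.Opens), x ∈ W → ∃ (U' : P.Opens) (h : U' ≤ U) (_ : IsAffineOpen U')
      (hx' : x ∈ ι ⁻¹ᵁ U') (_ : ι ⁻¹ᵁ U' ≤ W) (a : Γ(X, ι ⁻¹ᵁ U')), (X.presheaf.germ _ x hx').hom a = r := by
    intro r W hW
    obtain ⟨W', hW', a, rfl⟩ := TopCat.Presheaf.exists_germ_eq X.presheaf r
    obtain ⟨U', hU', hle, hxU', hU'W⟩ := exists_affine_between hl.chart.aff hx (W := W' ⊓ W) ⟨hW', hW⟩
    exact ⟨U', hle, hU', hxU', hU'W.trans inf_le_right, resO X (hU'W.trans inf_le_left) a,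
      X.presheaf.germ_res_apply _ x hxU' a⟩
  have hmap : ∀ (U' : P.Opens) (h : U' ≤ U) (hU' : IsAffineOpen U') (hx' : x ∈ ι ⁻¹ᵁ U') (a : Γ(X, ι ⁻¹ᵁ U')),
      germM L hx' (a • lam T (hl.resO h hU')) = (X.presheaf.germ _ x hx').hom a • germM L hx (lam T hl) := by
    intro U' h hU' hx' a
    rw [germM_smul, lam_res T hl h hU', germM_res L hx]
  refine ⟨fun a b hab => ?_, fun m => ?_⟩
  · have h0 : (a 0 - b 0) • germM L hx (lam T hl) = 0 := by
      rw [sub_smul, sub_eq_zero]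
      simp only [Fin.sum_univ_one] at hab
      exact hab
    obtain ⟨U', h, hU', hx', -, r, hr⟩ := key (a 0 - b 0) ⊤ trivial
    rw [← hr, ← hmap U' h hU' hx' r] at h0
    obtain ⟨W, hW, i, i', e⟩ := TopCat.Presheaf.germ_eq L.presheaf x hx' hx' (r • lam T (hl.resO h hU')) 0
      (h0.trans (map_zero _).symm)
    rw [map_zero] at e
    obtain ⟨U'', hU'', h', hx'', hle⟩ := exists_affine_between hU' hx' hW
    have e2 : resO X (ι.preimage_mono h') r • lam T ((hl.resO h hU').resO h' hU'') = 0 := by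
      rw [lam_res T (hl.resO h hU') h' hU'', ← res_smul, ← res_res L hle (leOfHom i)]
      exact (congrArg _ e).trans (map_zero _)
    have e3 : resO X (ι.preimage_mono h') r = 0 := (lam_bijective T _).1 (e2.trans (zero_smul _ _).symm)
    have e4 : a 0 - b 0 = 0 := by
      rw [← hr, ← map_zero (X.presheaf.germ (ι ⁻¹ᵁ U'') x hx'').hom, ← e3]
      exact (X.presheaf.germ_res_apply _ x hx'' r).symm
    funext i
    rw [Subsingleton.elim i 0]
    exact sub_eq_zero.1 e4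
  · obtain ⟨W, hW, t, rfl⟩ := exists_germM (M := L) m
    obtain ⟨U', hU', h, hx', hle⟩ := exists_affine_between hl.chart.aff hx hW
    obtain ⟨r, hr⟩ := (lam_bijective T (hl.resO h hU')).2 (res L hle t)
    refine ⟨fun _ => (X.presheaf.germ _ x hx').hom r, ?_⟩
    simp only [Fin.sum_univ_one]
    refine (hmap U' h hU' hx' r).symm.trans ?_
    rw [show r • lam T (hl.resO h hU') = res L hle t from hr, germM_res L hW]

lemma isGen_lam (hl : IsGood ι c U l) : TMul.IsGen (lam T hl) := fun V hV => by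
  have he := isFrame_lam T hl
  refine ⟨fun a b h => congrFun (he.comb_injective hV (a₁ := fun _ => a) (a₂ := fun _ => b) (by simpa using h)) 0,
    fun s => ?_⟩
  obtain ⟨a, ha⟩ := he.comb_surjective hV s
  exact ⟨a 0, by simpa using ha⟩

variable [HasExt.{u} P.Modules] {F : P.Modules} (D : EdgeData ι c F)

/-- the twisted comparison on a chart -/
def tau (hl : IsGood ι c U l) (s : Γ(F, U)) : Γ(CohB1.tensorMod D.E L, ι ⁻¹ᵁ U) :=
  TMul.tm (xi D hl.chart s) (lam T hl)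

lemma tau_add (hl : IsGood ι c U l) (s t : Γ(F, U)) : tau T D hl (s + t) = tau T D hl s + tau T D hl t := by
  rw [tau, map_add, TMul.tm_add]; rfl

lemma tau_smul (hl : IsGood ι c U l) (r : Γ(P, U)) (s : Γ(F, U)) :
    tau T D hl (r • s) = (ι.app U).hom r • tau T D hl s := by
  rw [tau, xi_smul, TMul.smul_tm]; rfl

lemma tau_congr {l' : List Γ(P, U)} (e : l = l') (h : IsGood ι c U l) (h' : IsGood ι c U l') (s : Γ(F, U)) :
    tau T D h s = tau T D h' s := by
  subst e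
  rfl

lemma res_tau (hl : IsGood ι c U l) {U' : P.Opens} (h : U' ≤ U) (hU' : IsAffineOpen U') (s : Γ(F, U)) :
    res _ (ι.preimage_mono h) (tau T D hl s) = tau T D (hl.resO h hU') (res F h s) := by
  rw [tau, tau, TMul.res_tm, lam_res T hl h hU', ← xi_res D hl.chart h hU']

lemma tau_linked {l' : List Γ(P, U)} (hl : IsGood ι c U l) (hl' : IsGood ι c U l') (h : Linked ι l l') (s : Γ(F, U)) :
    tau T D hl s = tau T D hl' s := by
  obtain ⟨-, -, d, hd, hw⟩ := h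
  rw [tau, tau, lam_linked T hl hl' hw, xi_rel D hl.chart hl'.chart hd, xi_smul, TMul.smul_tm, TMul.tm_smul]

variable (hι : RegImm.IsRegularImmersionOfCodim RegImm.Kind.regular c ι)

include hι in
lemma exists_good_le {x : X} {U₀ : P.Opens} (hx : ι.base x ∈ U₀) :
    ∃ (U : P.Opens) (l : List Γ(P, U)), U ≤ U₀ ∧ ι.base x ∈ U ∧ IsGood ι c U l := by
  obtain ⟨U, l, hxU, hl⟩ := exists_good hι x
  obtain ⟨U', hU', hx', hle⟩ := exists_isAffineOpen_mem_and_subset (show ι.base x ∈ U ⊓ U₀ from ⟨hxU, hx⟩)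
  exact ⟨U', _, le_trans hle inf_le_right, hx', hl.resO (le_trans hle inf_le_left) hU'⟩

/-- `t` is the value at `s`. -/
def IsVal {U₀ : P.Opens} (s : Γ(F, U₀)) (t : Γ(CohB1.tensorMod D.E L, ι ⁻¹ᵁ U₀)) : Prop :=
  ∀ (U : P.Opens) (h : U ≤ U₀) (l : List Γ(P, U)) (hl : IsGood ι c U l),
    res _ (ι.preimage_mono h) t = tau T D hl (res F h s)

include hι in
lemma IsVal.unique {U₀ : P.Opens} {s : Γ(F, U₀)} {t t' : Γ(CohB1.tensorMod D.E L, ι ⁻¹ᵁ U₀)}
    (h : IsVal T D s t) (h' : IsVal T D s t') : t = t' := by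
  refine section_eq_of_locally fun x hx => ?_
  obtain ⟨U, l, hle, hxU, hl⟩ := exists_good_le hι (U₀ := U₀) (x := x) hx
  exact ⟨ι ⁻¹ᵁ U, ι.preimage_mono hle, hxU, (h U hle l hl).trans (h' U hle l hl).symm⟩

variable [IsLocallyNoetherian P]

theorem tau_compat {U₀ U₁ U₂ : P.Opens} {l₁ : List Γ(P, U₁)} {l₂ : List Γ(P, U₂)} (hl₁ : IsGood ι c U₁ l₁)
    (hl₂ : IsGood ι c U₂ l₂) (h₁ : U₁ ≤ U₀) (h₂ : U₂ ≤ U₀) (s : Γ(F, U₀)) {W : X.Opens}
    (hW₁ : W ≤ ι ⁻¹ᵁ U₁) (hW₂ : W ≤ ι ⁻¹ᵁ U₂) :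
    res _ hW₁ (tau T D hl₁ (res F h₁ s)) = res _ hW₂ (tau T D hl₂ (res F h₂ s)) := by
  refine section_eq_of_locally fun x hx => ?_
  obtain ⟨U₃, hU₃, hx₃, hle₃⟩ := exists_isAffineOpen_mem_and_subset
    (show ι.base x ∈ U₁ ⊓ U₂ from ⟨hW₁ hx, hW₂ hx⟩)
  have h31 : U₃ ≤ U₁ := le_trans hle₃ inf_le_left
  have h32 : U₃ ≤ U₂ := le_trans hle₃ inf_le_right
  obtain ⟨V, hV, hp⟩ := exists_linked ι (hl₁.resO h31 hU₃) (hl₂.resO h32 hU₃) hx₃
  obtain ⟨U₄, hU₄, h43, hx₄, h4W⟩ := exists_affine_between hU₃ hx₃ (W := W ⊓ ι ⁻¹ᵁ V) ⟨hx, hV⟩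
  obtain ⟨U₅, hU₅, hx₅, hle₅⟩ := exists_isAffineOpen_mem_and_subset (show ι.base x ∈ U₄ ⊓ V from ⟨hx₄, hV⟩)
  have h54 : U₅ ≤ U₄ := le_trans hle₅ inf_le_left
  have h53 : U₅ ≤ U₃ := h54.trans h43
  have h5W : ι ⁻¹ᵁ U₅ ≤ W := (ι.preimage_mono h54).trans (h4W.trans inf_le_left)
  refine ⟨ι ⁻¹ᵁ U₅, h5W, hx₅, ?_⟩
  have hlink := hp U₅ h53 hU₅ hx₅ (le_trans hle₅ inf_le_right)
  beta_reduce at hlink
  rw [res_res, res_res, res_tau T D hl₁ (h53.trans h31) hU₅, res_tau T D hl₂ (h53.trans h32) hU₅, res_res, res_res]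
  refine Eq.trans (tau_congr T D (map_resO_resO h31 h53 l₁).symm _ ((hl₁.resO h31 hU₃).resO h53 hU₅) _) ?_
  refine Eq.trans ?_ (tau_congr T D (map_resO_resO h32 h53 l₂) ((hl₂.resO h32 hU₃).resO h53 hU₅) _ _)
  exact tau_linked T D _ _ hlink _

include hι in
lemma exists_val (U₀ : P.Opens) (s : Γ(F, U₀)) : ∃ t, IsVal T D s t := by
  choose U l hle hxU hl using fun x : (ι ⁻¹ᵁ U₀ : X.Opens) => exists_good_le hι (U₀ := U₀) (x := x.1) x.2
  obtain ⟨t, ht, -⟩ := TopCat.Sheaf.existsUnique_gluing' (Groth.Agent.QC.abSheaf (CohB1.tensorMod D.E L))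
    (fun x => ι ⁻¹ᵁ U x) (ι ⁻¹ᵁ U₀) (fun x => homOfLE (ι.preimage_mono (hle x)))
    (fun z hz => Opens.mem_iSup.mpr ⟨⟨z, hz⟩, hxU ⟨z, hz⟩⟩) (fun x => tau T D (hl x) (res F (hle x) s))
    (fun x y => tau_compat T D (hl x) (hl y) (hle x) (hle y) s inf_le_left inf_le_right)
  refine ⟨t, fun V hV m hm => section_eq_of_locally fun z hz => ?_⟩
  let z' : (ι ⁻¹ᵁ U₀ : X.Opens) := ⟨z, ι.preimage_mono hV hz⟩
  refine ⟨ι ⁻¹ᵁ V ⊓ ι ⁻¹ᵁ U z', inf_le_left, ⟨hz, hxU z'⟩, ?_⟩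
  have h1 : res _ (ι.preimage_mono (hle z')) t = tau T D (hl z') (res F (hle z') s) := ht z'
  rw [res_res, ← tau_compat T D (hl z') hm (hle z') hV s (W := ι ⁻¹ᵁ V ⊓ ι ⁻¹ᵁ U z') inf_le_right inf_le_left,
    ← h1, res_res]

include hι in
/-- The glued morphism. -/
theorem exists_hom : ∃ f : F ⟶ (Scheme.Modules.pushforward ι).obj (CohB1.tensorMod D.E L),
    ∀ (U₀ : P.Opens) (s : Γ(F, U₀)), IsVal T D s (show Γ(CohB1.tensorMod D.E L, ι ⁻¹ᵁ U₀) from f.app U₀ s) := by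
  choose t ht using exists_val T D hι
  have hadd : ∀ (U₀ : P.Opens) (a b : Γ(F, U₀)), t U₀ (a + b) = t U₀ a + t U₀ b := fun U₀ a b =>
    IsVal.unique T D hι (ht U₀ _) fun U h l hl => by rw [map_add, map_add, tau_add, ht U₀ a U h l hl, ht U₀ b U h l hl]
  have hsmul : ∀ (U₀ : P.Opens) (r : Γ(P, U₀)) (a : Γ(F, U₀)), t U₀ (r • a) = (ι.app U₀).hom r • t U₀ a :=
    fun U₀ r a => IsVal.unique T D hι (ht U₀ _) fun U h l hl => by
      rw [res_smul, res_smul, tau_smul, ht U₀ a U h l hl, app_resO]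
  have hnat : ∀ {U₀ U₁ : P.Opens} (h : U₁ ≤ U₀) (a : Γ(F, U₀)),
      res _ (ι.preimage_mono h) (t U₀ a) = t U₁ (res F h a) := fun {U₀ U₁} h a =>
    IsVal.unique T D hι (s := res F h a) (fun U hU l hl => by rw [res_res, res_res]; exact ht U₀ a U (hU.trans h) l hl)
      (ht U₁ _)
  refine ⟨⟨PresheafOfModules.homMk
    { app := fun U => AddCommGrpCat.ofHom (AddMonoidHom.mk' (fun s => t U.unop s) (hadd U.unop))
      naturality := fun U V h => by
        ext s
        exact (hnat (leOfHom h.unop) s).symm }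
    fun U r s => hsmul U.unop r s⟩, fun U₀ s => ht U₀ s⟩

include hι T in
/-- `ι^* F ≅ E ⊗ L`. -/
theorem nonempty_pullback_iso (hF : Coh.IsQCoh F) :
    Nonempty ((Scheme.Modules.pullback ι).obj F ≅ CohB1.tensorMod D.E L) := by
  obtain ⟨f, hf⟩ := exists_hom T D hι
  let g := ((Scheme.Modules.pullbackPushforwardAdjunction ι).homEquiv F (CohB1.tensorMod D.E L)).symm f
  have hg : (Scheme.Modules.pullbackPushforwardAdjunction ι).unit.app F ≫ (Scheme.Modules.pushforward ι).map g = f :=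
    ((Scheme.Modules.pullbackPushforwardAdjunction ι).homEquiv_unit _ _ _).symm.trans (Equiv.apply_symm_apply _ _)
  have hbij : ∀ x : X, IsIso ((DerSch.stalkFunctor X x).map g) := fun x => by
    refine (ConcreteCategory.isIso_iff_bijective _).2 ?_
    obtain ⟨U, l, hxU, hl⟩ := exists_good hι x
    obtain ⟨Ξ, hΞs, hsurj, hker, hΞ⟩ := exists_stalk_xi D hF hl.chart hxU
    let κ : (DerSch.stalkFunctor P (ι.base x)).obj F → (DerSch.stalkFunctor X x).obj ((Scheme.Modules.pullback ι).obj F) :=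
      KFlat.kap ι x F
    have hgk : ∀ (U' : P.Opens) (h : U' ≤ U) (hU' : IsAffineOpen U') (hx' : ι.base x ∈ U') (s : Γ(F, U')),
        ((DerSch.stalkFunctor X x).map g).hom (κ (germM F hx' s)) =
          germM (CohB1.tensorMod D.E L) (show x ∈ ι ⁻¹ᵁ U' from hx') (tau T D (hl.resO h hU') s) := by
      intro U' h hU' hx' s
      refine (congrArg ((DerSch.stalkFunctor X x).map g).hom (KFlat.kap_germ ι x F U' hx' s)).trans ?_
      refine (germM_app (show x ∈ ι ⁻¹ᵁ U' from hx') g _).trans ?_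
      refine congrArg _ ?_
      refine Eq.trans (congrArg (fun k : F ⟶ (Scheme.Modules.pushforward ι).obj (CohB1.tensorMod D.E L) => k.app U' s) hg) ?_
      have h1 := hf U' s U' le_rfl _ (hl.resO h hU')
      rw [QC.res_self] at h1
      refine Eq.trans ?_ (h1.trans (by rw [QC.res_self]))
      rfl
    refine ⟨(injective_iff_map_eq_zero _).2 fun m hm => ?_, fun m => ?_⟩
    · obtain ⟨n, rfl⟩ := GrothSS.kap_surjective ι x F m
      obtain ⟨U', h, hU', hx', s, rfl⟩ := exists_rep hl.chart hxU n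
      have h0 : germM (CohB1.tensorMod D.E L) (show x ∈ ι ⁻¹ᵁ U' from hx') (tau T D (hl.resO h hU') s) = 0 :=
        (hgk U' h hU' hx' s).symm.trans hm
      obtain ⟨W, hW, i, i', e⟩ := TopCat.Presheaf.germ_eq (CohB1.tensorMod D.E L).presheaf x
        (U := ι ⁻¹ᵁ U') (V := ι ⁻¹ᵁ U') hx' hx' (tau T D (hl.resO h hU') s) 0 (h0.trans (map_zero _).symm)
      rw [map_zero] at e
      have e1 : TMul.tm (res D.E (leOfHom i) (xi D (hl.resO h hU').chart s)) (res L (leOfHom i) (lam T (hl.resO h hU'))) = 0 := by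
        rw [← TMul.res_tm]; exact e
      have e2 : res D.E (leOfHom i) (xi D (hl.resO h hU').chart s) = 0 :=
        (TMul.tm_bijective (isGen_lam T (hl.resO h hU')) W (leOfHom i)).1 (e1.trans (TMul.zero_tm _).symm)
      have e3 : germM D.E (show x ∈ ι ⁻¹ᵁ U' from hx') (xi D (hl.resO h hU').chart s) = 0 := by
        rw [← germM_res D.E _ (leOfHom i) hW, e2, map_zero]
      have hmem := (hker _).1 ((hΞ U' h hU' hx' s).trans e3)
      show κ (germM F hx' s) = 0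
      generalize germM F hx' s = v at hmem ⊢
      induction hmem using Submodule.smul_induction_on' with
      | smul r hr n _ =>
        refine (KFlat.kap_smul ι x F r n).trans ?_
        rw [((hl.chart.cuts (ι.base x) hxU).2 x rfl r).2 hr]
        exact zero_smul _ _
      | add a _ b _ ha hb => exact (map_add _ _ _).trans ((congrArg₂ (· + ·) ha hb).trans (add_zero _))
    · obtain ⟨W, hW, t, rfl⟩ := exists_germM (M := CohB1.tensorMod D.E L) m
      obtain ⟨m', hm'⟩ := (TMul.tm_bijective (M := D.E) (isGen_lam T hl) (W ⊓ ι ⁻¹ᵁ U) inf_le_right).2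
        (res _ inf_le_left t)
      obtain ⟨n, hn⟩ := hsurj (germM D.E (show x ∈ W ⊓ ι ⁻¹ᵁ U from ⟨hW, hxU⟩) m')
      obtain ⟨U', h, hU', hx', s, rfl⟩ := exists_rep hl.chart hxU n
      refine ⟨κ (germM F hx' s), (hgk U' h hU' hx' s).trans ?_⟩
      rw [hΞ U' h hU' hx'] at hn
      obtain ⟨W', hW', i, i', e⟩ := TopCat.Presheaf.germ_eq D.E.presheaf x
        (U := ι ⁻¹ᵁ U') (V := W ⊓ ι ⁻¹ᵁ U) hx' ⟨hW, hxU⟩ (xi D (hl.resO h hU').chart s) m' hn
      rw [← germM_res (CohB1.tensorMod D.E L) _ (leOfHom i) hW' (tau T D (hl.resO h hU') s),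
        ← germM_res (CohB1.tensorMod D.E L) hW ((leOfHom i').trans inf_le_left) hW' t]
      refine congrArg _ ?_
      rw [tau, TMul.res_tm, lam_res T hl h hU', res_res,
        ← res_res (CohB1.tensorMod D.E L) (leOfHom i') inf_le_left t, ← hm', TMul.res_tm, res_res]
      exact congrArg (fun z => TMul.tm z _) e
  haveI : IsIso g := KFlat.isIso_of_stalks g hbij
  exact ⟨asIso g⟩

end Groth.Agent.ExtFund
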