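import Groth.Agent.ExtFund.Charts
import Groth.Agent.ExtFund.Edge
import Groth.Agent.ExtFund.Functorial
import Groth.Agent.CohQC.CechVanish

/-!
The local description of `RᶜT F` on a chart: sections of `F` modulo the ideal.
-/

set_option autoImplicit false
set_option linter.style.haveILetI false
set_option linter.unusedSectionVars false
set_option backward.isDefEq.respectTransparency false
set_option backward.isDefEq.respectTransparency.types false
set_option maxHeartbeats 1000000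

universe u

open CategoryTheory Limits AlgebraicGeometry TopologicalSpace Opposite Abelian
open Groth.Agent.QC (res resO res_res resO_resO res_smul app_res)

noncomputable section

namespace Groth.Agent.ExtFund

variable {P X : Scheme.{u}} [HasExt.{u} P.Modules]

/-- The edge map as data. -/
structure EdgeData (ι : X ⟶ P) (c : ℕ) (F : P.Modules) where
  /-- the sheaf -/
  E : X.Modules
  /-- the edge map -/
  Θ : ∀ M : X.Modules, Ext.{u} ((Scheme.Modules.pushforward ι).obj M) F c →+ (M ⟶ E)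
  nat : ∀ {M M' : X.Modules} (p : M ⟶ M') (α : Ext.{u} ((Scheme.Modules.pushforward ι).obj M') F c),
    Θ M ((Ext.mk₀ ((Scheme.Modules.pushforward ι).map p)).comp α (zero_add c)) = p ≫ Θ M' α
  surj : ∀ (V : X.Opens) (e : fr V ⟶ E) (x : X), x ∈ V → ∃ (V' : X.Opens) (h : V' ≤ V),
    x ∈ V' ∧ ∃ α, Θ (fr V') α = fmap h ≫ e
  inj : ∀ (V : X.Opens) (α : Ext.{u} ((Scheme.Modules.pushforward ι).obj (fr V)) F c), Θ (fr V) α = 0 →
    ∀ x ∈ V, ∃ (V' : X.Opens) (h : V' ≤ V), x ∈ V' ∧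
      (Ext.mk₀ ((Scheme.Modules.pushforward ι).map (fmap h))).comp α (zero_add c) = 0

variable {ι : X ⟶ P} [IsClosedImmersion ι] {c : ℕ} {U : P.Opens} {l : List Γ(P, U)}

/-- the identification of the iterated quotient -/
def qe (hl : IsChart ι c U l) : (kq (act U) l).Q ≅ (Scheme.Modules.pushforward ι).obj (fr (ι ⁻¹ᵁ U)) :=
  (exists_quot_iso ι hl.cuts).choose

lemma qe_spec (hl : IsChart ι c U l) :
    sec U ((Scheme.Modules.pushforward ι).obj (fr (ι ⁻¹ᵁ U))) ((kq (act U) l).π ≫ (qe hl).hom) = gen (ι ⁻¹ᵁ U) :=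
  (exists_quot_iso ι hl.cuts).choose_spec

lemma qe_unique (hl : IsChart ι c U l) {l' : List Γ(P, U)} (hl' : IsChart ι c U l')
    (θ : (kq (act U) l').Q ≅ (kq (act U) l).Q) (hθ : (kq (act U) l').π ≫ θ.hom = (kq (act U) l).π) :
    θ.hom ≫ (qe hl).hom = (qe hl').hom := by
  rw [← cancel_epi (kq (act U) l').π, ← Category.assoc, hθ]
  exact (sec U _).injective ((qe_spec hl).trans (qe_spec hl').symm)

variable {F : P.Modules} (D : EdgeData ι c F)

/-- the class of a section -/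
def cl (hl : IsChart ι c U l) : Γ(F, U) →+ Ext.{u} ((Scheme.Modules.pushforward ι).obj (fr (ι ⁻¹ᵁ U))) F c :=
  AddMonoidHom.mk' (fun s => (Ext.mk₀ (qe hl).inv).comp
    ((kcls l (kReg_of_reg hl.reg)).comp (Ext.mk₀ ((sec U F).symm s)) ((add_zero l.length).trans hl.len)) (zero_add c))
    fun s t => by rw [map_add, Ext.mk₀_add, Ext.comp_add, Ext.comp_add]

/-- the local comparison map -/
def xi (hl : IsChart ι c U l) : Γ(F, U) →+ Γ(D.E, ι ⁻¹ᵁ U) :=
  AddMonoidHom.mk' (fun s => sec _ _ (D.Θ _ (cl hl s))) fun s t => by simp only [map_add]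

lemma qe_act (hl : IsChart ι c U l) (r : Γ(P, U)) :
    (kq (act U) l).act r ≫ (qe hl).hom =
      (qe hl).hom ≫ (Scheme.Modules.pushforward ι).map (act (ι ⁻¹ᵁ U) ((ι.app U).hom r)) := by
  rw [← cancel_epi (kq (act U) l).π, ← Category.assoc, (kq (act U) l).comm, Category.assoc]
  apply (sec U _).injective
  rw [sec_act, qe_spec, ← Category.assoc, sec_comp, qe_spec]
  exact (act_gen (ι ⁻¹ᵁ U) _).symm

theorem cl_smul (hl : IsChart ι c U l) (r : Γ(P, U)) (s : Γ(F, U)) :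
    cl hl (r • s) = (Ext.mk₀ ((Scheme.Modules.pushforward ι).map (act (ι ⁻¹ᵁ U) ((ι.app U).hom r)))).comp
      (cl hl s) (zero_add c) := by
  have h1 : (sec U F).symm (r • s) = (act U r : fr U ⟶ fr U) ≫ (sec U F).symm s := by
    apply (sec U F).injective
    rw [AddEquiv.apply_symm_apply, sec_act, AddEquiv.apply_symm_apply]
  have h2 : (Scheme.Modules.pushforward ι).map (act (ι ⁻¹ᵁ U) ((ι.app U).hom r)) ≫ (qe hl).inv =
      (qe hl).inv ≫ (kq (act U) l).act r := by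
    rw [Iso.comp_inv_eq, Category.assoc, qe_act, Iso.inv_hom_id_assoc]
  obtain rfl := hl.len
  simp only [cl, AddMonoidHom.mk'_apply]
  rw [Ext.mk₀_comp_mk₀_assoc, h2, ← Ext.mk₀_comp_mk₀_assoc]
  refine congrArg (fun z => (Ext.mk₀ (qe hl).inv).comp z (zero_add _)) ?_
  refine Eq.trans ?_ (mk₀_comp_comp _ _ _ _).symm
  rw [kcls_comm, Ext.comp_assoc_of_third_deg_zero, Ext.mk₀_comp_mk₀, h1]

theorem xi_smul (hl : IsChart ι c U l) (r : Γ(P, U)) (s : Γ(F, U)) :
    xi D hl (r • s) = (ι.app U).hom r • xi D hl s := by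
  show sec _ _ (D.Θ _ (cl hl (r • s))) = _ • sec _ _ (D.Θ _ (cl hl s))
  rw [cl_smul, D.nat, sec_act]

theorem cl_res (hl : IsChart ι c U l) {U' : P.Opens} (h : U' ≤ U) (hU' : IsAffineOpen U') (s : Γ(F, U)) :
    cl (hl.resO h hU') (res F h s) =
      (Ext.mk₀ ((Scheme.Modules.pushforward ι).map (fmap (ι.preimage_mono h)))).comp (cl hl s) (zero_add c) := by
  have hl' := hl.resO h hU'
  obtain ⟨κ, hκ, e⟩ := kcls_map (a := act U) (a' := act U') (resO P h) (fmap h) (fun r => fmap_act h r) l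
    (kReg_of_reg hl.reg) (kReg_of_reg hl'.reg)
  have h1 : (sec U' F).symm (res F h s) = fmap h ≫ (sec U F).symm s := by
    apply (sec U' F).injective
    rw [AddEquiv.apply_symm_apply, sec_fmap, AddEquiv.apply_symm_apply]
  have h2 : (Scheme.Modules.pushforward ι).map (fmap (ι.preimage_mono h)) ≫ (qe hl).inv = (qe hl').inv ≫ κ := by
    rw [Iso.comp_inv_eq, Category.assoc, Iso.eq_inv_comp, ← cancel_epi (kq (act U') (l.map (resO P h))).π,
      ← Category.assoc (kq (act U') _).π κ, hκ, Category.assoc, ← Category.assoc]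
    apply (sec U' _).injective
    rw [sec_comp, qe_spec, sec_fmap, qe_spec]
    exact fmap_gen (ι.preimage_mono h)
  obtain rfl := hl.len
  simp only [cl, AddMonoidHom.mk'_apply]
  have hlm : (l.map (resO P h)).length + 0 = l.length := by simp
  rw [Ext.mk₀_comp_mk₀_assoc, h2, ← Ext.mk₀_comp_mk₀_assoc]
  refine congrArg (fun z => (Ext.mk₀ (qe hl').inv).comp z (zero_add _)) ?_
  refine Eq.trans ?_ (mk₀_comp_comp _ _ _ _).symm
  rw [e hlm, h1, ← Ext.mk₀_comp_mk₀ (fmap h)]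
  exact (Ext.comp_assoc _ _ _ hlm (add_zero 0) (by omega)).symm

theorem xi_res (hl : IsChart ι c U l) {U' : P.Opens} (h : U' ≤ U) (hU' : IsAffineOpen U') (s : Γ(F, U)) :
    xi D (hl.resO h hU') (res F h s) = res D.E (ι.preimage_mono h) (xi D hl s) := by
  show sec _ _ (D.Θ _ (cl _ _)) = res _ _ (sec _ _ (D.Θ _ _))
  rw [cl_res hl h hU', D.nat, sec_fmap]

theorem xi_rel (hl : IsChart ι c U l) {l' : List Γ(P, U)} (hl' : IsChart ι c U l') {d : Γ(P, U)}
    (h : Rel (a := act U) l l' d) (s : Γ(F, U)) : xi D hl s = xi D hl' (d • s) := by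
  obtain ⟨hk, hk', hn, θ, hθ, e⟩ := h
  have h1 : (sec U F).symm (d • s) = (act U d : fr U ⟶ fr U) ≫ (sec U F).symm s := by
    apply (sec U F).injective
    rw [AddEquiv.apply_symm_apply, sec_act, AddEquiv.apply_symm_apply]
  have h2 : (qe hl).inv = (qe hl').inv ≫ θ.hom := by
    rw [Iso.eq_inv_comp, Iso.comp_inv_eq, qe_unique hl hl' θ hθ]
  obtain rfl := hl.len
  show sec _ _ (D.Θ _ _) = sec _ _ (D.Θ _ _)
  refine congrArg (fun z => sec _ _ (D.Θ _ z)) ?_
  simp only [cl, AddMonoidHom.mk'_apply]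
  rw [h2, ← Ext.mk₀_comp_mk₀_assoc]
  refine congrArg (fun z => (Ext.mk₀ (qe hl').inv).comp z (zero_add _)) ?_
  refine (mk₀_comp_comp _ _ _ _).trans ?_
  rw [e, h1, ← Ext.mk₀_comp_mk₀ (act U d : fr U ⟶ fr U)]
  exact Ext.comp_assoc _ _ _ hn (add_zero 0) (by omega)

variable (hF : Coh.IsQCoh F)

include hF in
theorem subsingleton_ext_fr (hU : IsAffineOpen U) (k : ℕ) : Subsingleton (Ext.{u} (fr U) F (k + 1)) := by
  haveI : F.IsQuasicoherent := hF
  exact HDU.subsingleton_ext_of_hu P.sheaf U k F (CohQC.hu_vanish_of_isAffineOpen F hU k)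

include hF in
theorem exists_cl (hl : IsChart ι c U l) (α : Ext.{u} ((Scheme.Modules.pushforward ι).obj (fr (ι ⁻¹ᵁ U))) F c) :
    ∃ s, cl hl s = α := by
  obtain rfl := hl.len
  obtain ⟨φ, hφ⟩ := kcls_surjective (subsingleton_ext_fr hF hl.aff) l (kReg_of_reg hl.reg)
    ((Ext.mk₀ (qe hl).hom).comp α (zero_add _))
  refine ⟨sec U F φ, ?_⟩
  simp only [cl, AddMonoidHom.mk'_apply]
  rw [AddEquiv.symm_apply_apply, hφ, Ext.mk₀_comp_mk₀_assoc, Iso.inv_hom_id, Ext.mk₀_id_comp]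

include hF in
theorem germ_mem_of_cl_eq_zero (hl : IsChart ι c U l) {s : Γ(F, U)} (h : cl hl s = 0) {y : P} (hy : y ∈ U) :
    germM F hy s ∈ Ideal.ofList (l.map (P.presheaf.germ U y hy).hom) •
      (⊤ : Submodule (P.presheaf.stalk y) ((DerSch.stalkFunctor P y).obj F)) := by
  obtain rfl := hl.len
  have h' : (kcls l (kReg_of_reg hl.reg)).comp (Ext.mk₀ ((sec U F).symm s)) (add_zero _) = 0 := by
    have h0 := congrArg (fun z => (Ext.mk₀ (qe hl).hom).comp z (zero_add _)) h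
    simp only [cl, AddMonoidHom.mk'_apply] at h0
    rw [Ext.mk₀_comp_mk₀_assoc, Iso.hom_inv_id, Ext.mk₀_id_comp] at h0
    exact h0.trans (Ext.comp_zero _ _ _ _ _)
  have hI := (kcls_eq_zero_iff (subsingleton_ext_fr hF hl.aff) l _ _).1 h'
  let T : AddSubgroup (fr U ⟶ F) :=
    ((Ideal.ofList (l.map (P.presheaf.germ U y hy).hom) •
      (⊤ : Submodule (P.presheaf.stalk y) ((DerSch.stalkFunctor P y).obj F))).toAddSubgroup).comap
      ((germM F hy).comp (sec U F).toAddMonoidHom)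
  have hT := InI.mem_subgroup T (fun f hf ψ => by
    rw [AddSubgroup.mem_comap]
    show germM F hy (sec U F ((act U f : fr U ⟶ fr U) ≫ ψ)) ∈ _
    rw [sec_act, germM_smul]
    exact Submodule.smul_mem_smul (Ideal.subset_span (List.mem_map.2 ⟨f, hf, rfl⟩)) trivial) hI
  rw [AddSubgroup.mem_comap] at hT
  change germM F hy (sec U F ((sec U F).symm s)) ∈ _ at hT
  rwa [AddEquiv.apply_symm_apply] at hT

lemma exists_affine_between (hU : IsAffineOpen U) {W : X.Opens} {x : X} (hxU : ι.base x ∈ U) (hxW : x ∈ W) :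
    ∃ (U' : P.Opens), IsAffineOpen U' ∧ U' ≤ U ∧ ι.base x ∈ U' ∧ ι ⁻¹ᵁ U' ≤ W := by
  obtain ⟨O, hO, hO'⟩ := ι.isClosedEmbedding.isInducing.isOpen_iff.1 W.isOpen
  obtain ⟨g, hg, hxg⟩ := hU.exists_basicOpen_le (V := U ⊓ ⟨O, hO⟩)
    ⟨ι.base x, hxU, show x ∈ ι.base ⁻¹' O by rw [hO']; exact hxW⟩ hxU
  refine ⟨P.basicOpen g, hU.basicOpen g, hg.trans inf_le_left, hxg, fun z hz => ?_⟩
  show z ∈ (W : Set X)
  rw [← hO']
  exact (hg hz).2

include hF in
/-- Every germ of the sheaf comes from a section on a smaller chart. -/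
theorem exists_xi (hl : IsChart ι c U l) {x : X} (hx : ι.base x ∈ U) (m : (DerSch.stalkFunctor X x).obj D.E) :
    ∃ (U' : P.Opens) (h : U' ≤ U) (hU' : IsAffineOpen U') (hx' : ι.base x ∈ U') (s : Γ(F, U')),
      germM D.E (show x ∈ ι ⁻¹ᵁ U' from hx') (xi D (hl.resO h hU') s) = m := by
  obtain ⟨W, hW, e, rfl⟩ := exists_germM (M := D.E) m
  obtain ⟨V', hV', hxV', α, hα⟩ := D.surj W ((sec W D.E).symm e) x hW
  obtain ⟨U', hU', hle, hxU', hUV⟩ := exists_affine_between hl.aff hx hxV'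
  let α' := (Ext.mk₀ ((Scheme.Modules.pushforward ι).map (fmap hUV))).comp α (zero_add c)
  obtain ⟨s, hs⟩ := exists_cl hF (hl.resO hle hU') α'
  refine ⟨U', hle, hU', hxU', s, ?_⟩
  show germM D.E _ (sec _ _ (D.Θ _ (cl _ s))) = _
  rw [hs, D.nat, hα, sec_fmap, sec_fmap, AddEquiv.apply_symm_apply, germM_res D.E hxV', germM_res D.E hW]

include hF in
/-- The kernel of the comparison on stalks. -/
theorem germ_mem_of_xi (hl : IsChart ι c U l) {x : X} (hx : ι.base x ∈ U) {s : Γ(F, U)}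
    (h : germM D.E (show x ∈ ι ⁻¹ᵁ U from hx) (xi D hl s) = 0) :
    germM F hx s ∈ Ideal.ofList (l.map (P.presheaf.germ U (ι.base x) hx).hom) •
      (⊤ : Submodule (P.presheaf.stalk (ι.base x)) ((DerSch.stalkFunctor P (ι.base x)).obj F)) := by
  obtain ⟨W, hxW, i, i', he⟩ := TopCat.Presheaf.germ_eq D.E.presheaf x (U := ι ⁻¹ᵁ U) (V := ι ⁻¹ᵁ U) hx hx (xi D hl s) 0 (h.trans (map_zero _).symm)
  rw [map_zero] at he
  obtain ⟨U₁, hU₁, hle₁, hx₁, hUW⟩ := exists_affine_between hl.aff hx hxW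
  have h1 : xi D (hl.resO hle₁ hU₁) (res F hle₁ s) = 0 := by
    rw [xi_res D hl hle₁ hU₁, ← res_res D.E hUW (leOfHom i)]
    exact (congrArg _ he).trans (map_zero _)
  have h2 : D.Θ _ (cl (hl.resO hle₁ hU₁) (res F hle₁ s)) = 0 := (sec _ _).injective (h1.trans (map_zero _).symm)
  obtain ⟨V', hV', hxV', h3⟩ := D.inj _ _ h2 x hx₁
  obtain ⟨U₂, hU₂, hle₂, hx₂, hUV⟩ := exists_affine_between hU₁ hx₁ hxV'
  have h4 : cl ((hl.resO hle₁ hU₁).resO hle₂ hU₂) (res F hle₂ (res F hle₁ s)) = 0 := by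
    rw [cl_res (hl.resO hle₁ hU₁) hle₂ hU₂]
    have : fmap (ι.preimage_mono hle₂) = fmap hUV ≫ fmap hV' := by
      apply (sec _ _).injective
      rw [sec_fmap, sec_apply (fmap hV'), fmap_gen, res_res, sec_apply, fmap_gen]
    rw [this, Functor.map_comp, ← Ext.mk₀_comp_mk₀_assoc, h3, Ext.comp_zero]
  have h5 := germ_mem_of_cl_eq_zero hF _ h4 hx₂
  rw [map_germ_resO, map_germ_resO, germM_res F hx₁, germM_res F hx] at h5
  exact h5

end Groth.Agent.ExtFund
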