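import Groth.Agent.ExtFund.Wedge

/-!
Two regular lists cutting out `X` are related near every point of `X`.
-/

set_option autoImplicit false
set_option linter.style.haveILetI false
set_option linter.unusedSectionVars false
set_option backward.isDefEq.respectTransparency false
set_option backward.isDefEq.respectTransparency.types false
set_option maxHeartbeats 1000000

universe u

open CategoryTheory Limits AlgebraicGeometry TopologicalSpace Opposite
open Groth.Agent.QC (res resO res_res resO_resO res_smul)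
open RingTheory.Sequence
open scoped Pointwise

noncomputable section

namespace Groth.Agent.ExtFund

lemma ofList_map_reverse {A B : Type u} [CommRing B] (φ : A → B) (l : List A) :
    Ideal.ofList (l.reverse.map φ) = Ideal.ofList (l.map φ) := by simp [Ideal.ofList]

section Local

variable {R : Type u} [CommRing R]

lemma isWeaklyRegular_reverse_cons_iff (f : R) (l : List R) :
    IsWeaklyRegular R (f :: l).reverse ↔
      IsWeaklyRegular R l.reverse ∧ ∀ r : R, f * r ∈ Ideal.span {y | y ∈ l} → r ∈ Ideal.span {y | y ∈ l} := by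
  rw [List.reverse_cons, isWeaklyRegular_append_iff, isWeaklyRegular_singleton_iff,
    isSMulRegular_quotient_iff_mem_of_smul_mem, smul_eq_mul, Ideal.mul_top,
    show Ideal.ofList l.reverse = Ideal.span {y | y ∈ l} by simp [Ideal.ofList]]
  simp only [smul_eq_mul]

variable [IsLocalRing R] [IsNoetherianRing R]

/-- Moves preserve regularity and membership in the maximal ideal. -/
theorem Move.preserves {l l' : List R} (h : Move l l') :
    IsWeaklyRegular R l.reverse → (∀ y ∈ l, y ∈ IsLocalRing.maximalIdeal R) →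
      IsWeaklyRegular R l'.reverse ∧ ∀ y ∈ l', y ∈ IsLocalRing.maximalIdeal R := by
  intro hr hm
  have hm' : ∀ y ∈ l', y ∈ IsLocalRing.maximalIdeal R := fun y hy =>
    (Ideal.span_le.2 hm) (h.span_eq ▸ Ideal.subset_span hy)
  refine ⟨?_, hm'⟩
  clear hm'
  induction h with
  | refl => exact hr
  | @add f g l hfg =>
    rw [isWeaklyRegular_reverse_cons_iff] at hr ⊢
    refine ⟨hr.1, fun r h => hr.2 r ?_⟩
    have := sub_mem h (Ideal.mul_mem_right r _ hfg)
    rwa [show g * r - (g - f) * r = f * r by ring] at this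
  | @scale u f l hu =>
    rw [isWeaklyRegular_reverse_cons_iff] at hr ⊢
    refine ⟨hr.1, fun r h => hr.2 r ?_⟩
    rw [mul_assoc, Ideal.unit_mul_mem_iff_mem _ hu] at h
    exact h
  | swap f g l =>
    refine IsLocalRing.isWeaklyRegular_of_perm_of_subset_maximalIdeal hr ?_ fun y hy =>
      hm y (List.mem_reverse.1 hy)
    exact (List.reverse_perm _).trans ((List.Perm.swap f g l).trans (List.reverse_perm _).symm)
  | @cons f l l' hll ih =>
    rw [isWeaklyRegular_reverse_cons_iff] at hr ⊢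
    refine ⟨ih hr.1 fun y hy => hm y (List.mem_cons_of_mem _ hy), fun r h => ?_⟩
    rw [hll.span_eq] at h ⊢
    exact hr.2 r h
  | @trans a b d hab hbd ih₁ ih₂ =>
    exact ih₂ (ih₁ hr hm) fun y hy => (Ideal.span_le.2 hm) (hab.span_eq ▸ Ideal.subset_span hy)

end Local

variable {P X : Scheme.{u}} (ι : X ⟶ P) [IsClosedImmersion ι] {U : P.Opens}

/-- `p` holds on all small affine neighbourhoods of `y` inside `U`. -/
def Near (U : P.Opens) (y : P) (p : ∀ U' : P.Opens, U' ≤ U → Prop) : Prop :=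
  ∃ W : P.Opens, y ∈ W ∧ ∀ (U' : P.Opens) (h : U' ≤ U), IsAffineOpen U' → y ∈ U' → U' ≤ W → p U' h

lemma Near.and {y : P} {p q : ∀ U' : P.Opens, U' ≤ U → Prop} (hp : Near U y p) (hq : Near U y q) :
    Near U y fun U' h => p U' h ∧ q U' h := by
  obtain ⟨W, hW, hp⟩ := hp
  obtain ⟨W', hW', hq⟩ := hq
  exact ⟨W ⊓ W', ⟨hW, hW'⟩, fun U' h ha hy hle =>
    ⟨hp U' h ha hy (hle.trans inf_le_left), hq U' h ha hy (hle.trans inf_le_right)⟩⟩

lemma Near.mono {y : P} {p q : ∀ U' : P.Opens, U' ≤ U → Prop} (hp : Near U y p)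
    (h : ∀ U' hU', IsAffineOpen U' → y ∈ U' → p U' hU' → q U' hU') : Near U y q := by
  obtain ⟨W, hW, hp⟩ := hp
  exact ⟨W, hW, fun U' hU' ha hy hle => h U' hU' ha hy (hp U' hU' ha hy hle)⟩

lemma Near.of_le {U₁ : P.Opens} (h₁ : U₁ ≤ U) {y : P} (hy₁ : y ∈ U₁) {p : ∀ U' : P.Opens, U' ≤ U → Prop}
    (hp : Near U₁ y fun U' h => p U' (h.trans h₁)) : Near U y p := by
  obtain ⟨W, hW, hp⟩ := hp
  exact ⟨W ⊓ U₁, ⟨hW, hy₁⟩, fun U' h ha hy hle => hp U' (hle.trans inf_le_right) ha hy (hle.trans inf_le_left)⟩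

lemma germ_resO {U' : P.Opens} (h : U' ≤ U) {y : P} (hy : y ∈ U') (a : Γ(P, U)) :
    (P.presheaf.germ U' y hy).hom (resO P h a) = (P.presheaf.germ U y (h hy)).hom a :=
  P.presheaf.germ_res_apply (homOfLE h) y hy a

lemma near_eq {y : P} (hy : y ∈ U) {a b : Γ(P, U)}
    (h : (P.presheaf.germ U y hy).hom a = (P.presheaf.germ U y hy).hom b) :
    Near U y fun U' hU' => resO P hU' a = resO P hU' b := by
  obtain ⟨W, hW, i, i', e⟩ := TopCat.Presheaf.germ_eq P.presheaf y hy hy a b h
  refine ⟨W, hW, fun U' hU' _ _ hle => ?_⟩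
  show resO P hU' a = resO P hU' b
  rw [← resO_resO hle (leOfHom i) a, ← resO_resO hle (leOfHom i) b]
  exact congrArg _ e

lemma near_eq_list {y : P} (hy : y ∈ U) : ∀ {l l' : List Γ(P, U)},
    l.map (P.presheaf.germ U y hy).hom = l'.map (P.presheaf.germ U y hy).hom →
    Near U y fun U' hU' => l.map (resO P hU') = l'.map (resO P hU')
  | [], [], _ => ⟨U, hy, fun _ _ _ _ _ => rfl⟩
  | [], _ :: _, h => by simp at h
  | _ :: _, [], h => by simp at h
  | a :: l, b :: l', h => by
    simp only [List.map_cons, List.cons.injEq] at h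
    refine ((near_eq hy h.1).and (near_eq_list hy h.2)).mono fun U' hU' _ _ e => ?_
    simp only [List.map_cons, e.1, e.2]

lemma exists_lift {y : P} (hy : y ∈ U) (r : P.presheaf.stalk y) :
    ∃ (U₁ : P.Opens) (h : U₁ ≤ U) (hy₁ : y ∈ U₁), IsAffineOpen U₁ ∧ ∃ a, (P.presheaf.germ U₁ y hy₁).hom a = r := by
  obtain ⟨W, hW, a, rfl⟩ := TopCat.Presheaf.exists_germ_eq P.presheaf r
  obtain ⟨U₁, hU₁, hy₁, hle⟩ := exists_isAffineOpen_mem_and_subset (show y ∈ W ⊓ U from ⟨hW, hy⟩)
  exact ⟨U₁, le_trans hle inf_le_right, hy₁, hU₁, resO P (le_trans hle inf_le_left) a, germ_resO _ hy₁ a⟩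

theorem near_mem_span {y : P} : ∀ (l : List (P.presheaf.stalk y)) {U : P.Opens} (hy : y ∈ U) (L : List Γ(P, U))
    (a : Γ(P, U)), L.map (P.presheaf.germ U y hy).hom = l →
    (P.presheaf.germ U y hy).hom a ∈ Ideal.span {z | z ∈ l} →
    Near U y fun U' hU' => resO P hU' a ∈ Ideal.span {z | z ∈ L.map (resO P hU')}
  | [], U, hy, L, a, hL, h => by
    have h0 : (P.presheaf.germ U y hy).hom a = (P.presheaf.germ U y hy).hom 0 := by
      rw [map_zero]
      simpa using h
    exact (near_eq hy h0).mono fun U' hU' _ _ e => by rw [e, map_zero]; exact Submodule.zero_mem _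
  | t :: l, U, hy, L, a, hL, h => by
    obtain ⟨T, L, rfl⟩ : ∃ T L', L = T :: L' := by
      cases L with
      | nil => simp at hL
      | cons T L' => exact ⟨T, L', rfl⟩
    simp only [List.map_cons, List.cons.injEq] at hL
    rw [span_cons', Submodule.mem_sup] at h
    obtain ⟨z, hz, w, hw, he⟩ := h
    obtain ⟨c, rfl⟩ := Ideal.mem_span_singleton'.1 hz
    obtain ⟨U₁, h₁, hy₁, -, C, rfl⟩ := exists_lift hy c
    refine Near.of_le h₁ hy₁ ?_
    refine (near_mem_span l hy₁ (L.map (resO P h₁)) (resO P h₁ a - C * resO P h₁ T)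
      (by rw [map_germ_resO]; exact hL.2) ?_).mono fun U' hU' _ _ hm => ?_
    · rw [map_sub, map_mul, germ_resO, germ_resO, hL.1, ← he, add_sub_cancel_left]
      exact hw
    · rw [List.map_cons, span_cons']
      rw [map_sub, map_mul, resO_resO, resO_resO, map_resO_resO] at hm
      rw [← add_sub_cancel (resO P hU' C * resO P (hU'.trans h₁) T) (resO P (hU'.trans h₁) a)]
      exact Submodule.add_mem_sup (Ideal.mem_span_singleton'.2 ⟨_, rfl⟩) hm

theorem exists_lift_list {y : P} : ∀ (m : List (P.presheaf.stalk y)) {U : P.Opens} (hy : y ∈ U) (L : List Γ(P, U)),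
    (∀ r ∈ m, r ∈ Ideal.span {z | z ∈ L.map (P.presheaf.germ U y hy).hom}) →
    ∃ (U₁ : P.Opens) (h : U₁ ≤ U) (hy₁ : y ∈ U₁) (M : List Γ(P, U₁)), IsAffineOpen U₁ ∧
      M.map (P.presheaf.germ U₁ y hy₁).hom = m ∧ ∀ g ∈ M, g ∈ Ideal.span {z | z ∈ L.map (resO P h)}
  | [], U, hy, L, _ => by
    obtain ⟨U₁, hU₁, hy₁, hle⟩ := exists_isAffineOpen_mem_and_subset hy
    exact ⟨U₁, hle, hy₁, [], hU₁, rfl, by simp⟩
  | r :: m, U, hy, L, h => by
    obtain ⟨U₁, h₁, hy₁, M, -, hM, hMl⟩ := exists_lift_list m hy L fun q hq => h q (List.mem_cons_of_mem _ hq)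
    obtain ⟨U₂, h₂, hy₂, -, a, ha⟩ := exists_lift hy₁ r
    obtain ⟨W, hW, hp⟩ := near_mem_span (L.map (P.presheaf.germ U y hy).hom) hy₂ (L.map (resO P (h₂.trans h₁))) a
      (map_germ_resO _ _ _) (ha ▸ h r List.mem_cons_self)
    obtain ⟨U₃, hU₃, hy₃, hle⟩ := exists_isAffineOpen_mem_and_subset (show y ∈ W ⊓ U₂ from ⟨hW, hy₂⟩)
    have h₃ : U₃ ≤ U₂ := le_trans hle inf_le_right
    refine ⟨U₃, h₃.trans (h₂.trans h₁), hy₃, resO P h₃ a :: M.map (resO P (h₃.trans h₂)), hU₃, ?_, ?_⟩
    · rw [List.map_cons, map_germ_resO, hM, germ_resO, ha]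
    · intro g hg
      rcases List.mem_cons.1 hg with rfl | hg
      · have := hp U₃ h₃ hU₃ hy₃ (le_trans hle inf_le_left)
        beta_reduce at this
        rwa [map_resO_resO] at this
      · obtain ⟨g', hg', rfl⟩ := List.mem_map.1 hg
        have h4 := Ideal.mem_map_of_mem (resO P (h₃.trans h₂)) (hMl g' hg')
        rw [show Ideal.span {z | z ∈ L.map (resO P h₁)} = Ideal.ofList (L.map (resO P h₁)) from rfl,
          Ideal.map_ofList, map_resO_resO] at h4
        exact h4

theorem near_reg [IsLocallyNoetherian P] (hU : IsAffineOpen U) {y : P} (hy : y ∈ U) (L : List Γ(P, U))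
    (h : IsWeaklyRegular (P.presheaf.stalk y) (L.map (P.presheaf.germ U y hy).hom).reverse) :
    Near U y fun U' hU' => Reg U' (L.map (resO P hU')) := by
  haveI : IsNoetherianRing Γ(P, U) := IsLocallyNoetherian.component_noetherian ⟨U, hU⟩
  let p := (hU.primeIdealOf ⟨y, hy⟩).asIdeal
  have key : ∀ (q : P) (hq : q ∈ U), IsWeaklyRegular (P.presheaf.stalk q) (L.reverse.map (P.presheaf.germ U q hq).hom) ↔
      IsWeaklyRegular (LocalizedModule (hU.primeIdealOf ⟨q, hq⟩).asIdeal.primeCompl Γ(P, U))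
        (L.reverse.map (algebraMap Γ(P, U) (Localization.AtPrime (hU.primeIdealOf ⟨q, hq⟩).asIdeal))) := fun q hq => by
    letI : Algebra Γ(P, U) (P.presheaf.stalk q) := (P.presheaf.germ U q hq).hom.toAlgebra
    let S := (hU.primeIdealOf ⟨q, hq⟩).asIdeal.primeCompl
    haveI : IsLocalization S (P.presheaf.stalk q) := hU.isLocalization_stalk ⟨q, hq⟩
    let e : Localization S ≃ₐ[Γ(P, U)] P.presheaf.stalk q := IsLocalization.algEquiv S _ _
    refine (AddEquiv.isWeaklyRegular_congr (e := e.toAddEquiv) ?_).symm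
    rw [List.forall₂_map_left_iff, List.forall₂_map_right_iff]
    refine List.forall₂_same.2 fun r _ x => ?_
    show e (algebraMap Γ(P, U) (Localization S) r * x) = _
    rw [map_mul, e.commutes]
    rfl
  obtain ⟨g, hg, hgq⟩ := LocH.exists_notMem_weaklyRegular (M := Γ(P, U)) p L.reverse ((key y hy).1 (by
    rwa [← List.map_reverse] at h))
  refine ⟨P.basicOpen g, (P.mem_basicOpen g y hy).2 (by
    letI : Algebra Γ(P, U) (P.presheaf.stalk y) := (P.presheaf.germ U y hy).hom.toAlgebra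
    haveI : IsLocalization p.primeCompl (P.presheaf.stalk y) := hU.isLocalization_stalk ⟨y, hy⟩
    exact IsLocalization.map_units (P.presheaf.stalk y) (⟨g, hg⟩ : p.primeCompl)), fun U' hU' _ _ hle q hq => ?_⟩
  rw [← List.map_reverse, map_germ_resO]
  refine (key q (hU' hq)).2 (hgq _ fun hgm => ?_)
  letI : Algebra Γ(P, U) (P.presheaf.stalk q) := (P.presheaf.germ U q (hU' hq)).hom.toAlgebra
  haveI : IsLocalization.AtPrime (P.presheaf.stalk q) (hU.primeIdealOf ⟨q, hU' hq⟩).asIdeal :=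
    hU.isLocalization_stalk ⟨q, hU' hq⟩
  exact ((IsLocalization.AtPrime.isUnit_to_map_iff (P.presheaf.stalk q) _ g).1
    ((P.mem_basicOpen g q (hU' hq)).1 (hle hq))) hgm

/-- The relation to be propagated. -/
def Linked {U : P.Opens} (L L' : List Γ(P, U)) : Prop :=
  Reg U L ∧ Reg U L' ∧ ∃ d, Rel (a := act U) L L' d ∧ wedge ι U L' = (ι.app U).hom d • wedge ι U L

theorem near_linked [IsLocallyNoetherian P] {y : P} {m m' : List (P.presheaf.stalk y)} (hm : Move m m') :
    ∀ {U : P.Opens}, IsAffineOpen U → ∀ (hy : y ∈ U) (L L' : List Γ(P, U)),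
      L.map (P.presheaf.germ U y hy).hom = m → L'.map (P.presheaf.germ U y hy).hom = m' →
      (∀ f ∈ L, ι.app U f = 0) → (∀ f ∈ L', ι.app U f = 0) →
      IsWeaklyRegular (P.presheaf.stalk y) m.reverse → (∀ z ∈ m, z ∈ IsLocalRing.maximalIdeal (P.presheaf.stalk y)) →
      Near U y fun U' h => Linked ι (L.map (resO P h)) (L'.map (resO P h)) := by
  haveI : IsNoetherianRing (P.presheaf.stalk y) := inferInstance
  induction hm with
  | refl l =>
    intro U hU hy L L' hL hL' hk hk' hr hmax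
    refine ((near_eq_list hy (hL.trans hL'.symm)).and (near_reg hU hy L (hL ▸ hr))).mono fun U' h _ _ e => ?_
    rw [← e.1]
    exact ⟨e.2, e.2, 1, Rel.refl (kReg_of_reg e.2), by rw [map_one, one_smul]⟩
  | @add f g l hfg =>
    intro U hU hy L L' hL hL' hk hk' hr hmax
    obtain ⟨F, T, rfl, rfl, rfl⟩ := List.map_eq_cons_iff.1 hL
    obtain ⟨G, T', rfl, rfl, hT⟩ := List.map_eq_cons_iff.1 hL'
    have hsp : (P.presheaf.germ U y hy).hom (G - F) ∈ Ideal.span {z | z ∈ T.map (P.presheaf.germ U y hy).hom} := by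
      rw [map_sub]; exact hfg
    refine (((near_eq_list hy hT.symm).and (near_mem_span _ hy T (G - F) rfl hsp)).and
      (near_reg hU hy (F :: T) hr)).mono fun U' h _ _ e => ?_
    obtain ⟨⟨eT, hs⟩, hR⟩ := e
    simp only [List.map_cons] at hR ⊢
    rw [map_sub] at hs
    rw [← eT]
    have hF : ι.app U' (resO P h F) = 0 := (app_resO h F).trans (by rw [hk F List.mem_cons_self, map_zero])
    obtain ⟨h0, hw⟩ := ι_mul_wedge_span (ι := ι) (l := T.map (resO P h)) (fun z hz => by
      obtain ⟨z, hz', rfl⟩ := List.mem_map.1 hz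
      exact (app_resO h z).trans (by rw [hk z (List.mem_cons_of_mem _ hz'), map_zero])) hs
    refine ⟨hR, fun q hq => ?_, 1, Rel.add_tail (kReg_of_reg hR) hs, ?_⟩
    · have h1 := hR q hq
      simp only [List.map_reverse, List.map_cons, isWeaklyRegular_reverse_cons_iff] at h1 ⊢
      refine ⟨h1.1, fun r hr' => h1.2 r ?_⟩
      have h2 := Ideal.mem_map_of_mem (P.presheaf.germ U' q hq).hom hs
      rw [show Ideal.span {z | z ∈ T.map (resO P h)} = Ideal.ofList (T.map (resO P h)) from rfl, Ideal.map_ofList,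
        map_sub] at h2
      have h3 := sub_mem hr' (Ideal.mul_mem_right r _ h2)
      rwa [← sub_mul, sub_sub_cancel] at h3
    · rw [map_one, one_smul, wedge_cons, wedge_cons, show resO P h G = resO P h F + (resO P h G - resO P h F) by ring,
        cls_add hF h0, map_add, add_mul, hw, add_zero]
  | @scale u f l hu =>
    intro U hU hy L L' hL hL' hk hk' hr hmax
    obtain ⟨F, T, rfl, rfl, rfl⟩ := List.map_eq_cons_iff.1 hL
    obtain ⟨G, T', rfl, hG, hT⟩ := List.map_eq_cons_iff.1 hL'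
    obtain ⟨v, hv⟩ := hu.exists_right_inv
    obtain ⟨U₁, h₁, hy₁, hU₁, A, hA⟩ := exists_lift hy u
    obtain ⟨U₂, h₂, hy₂, -, B, hB⟩ := exists_lift hy₁ v
    have n1 : Near U₂ y fun U' hU' => resO P hU' (resO P h₂ A * B) = resO P hU' 1 :=
      near_eq hy₂ (by rw [map_mul, map_one, germ_resO, hA, hB, hv])
    have n2 : Near U₂ y fun U' hU' => resO P hU' (resO P (h₂.trans h₁) G) =
        resO P hU' (resO P h₂ A * resO P (h₂.trans h₁) F) :=
      near_eq hy₂ (by rw [map_mul, germ_resO, germ_resO, germ_resO, hA, hG])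
    have n12 := Near.of_le (p := fun U' h => ∃ a b : Γ(P, U'), a * b = 1 ∧ resO P h G = a * resO P h F)
      (h₂.trans h₁) hy₂ ((n1.and n2).mono fun U' hU' _ _ e => by
        obtain ⟨e1, e2⟩ := e
        rw [map_mul, map_one] at e1
        rw [map_mul, resO_resO, resO_resO, resO_resO] at e2
        rw [resO_resO] at e1
        exact ⟨_, _, e1, e2⟩)
    refine (((near_eq_list hy hT.symm).and n12).and (near_reg hU hy (F :: T) hr)).mono fun U' h _ _ e => ?_
    obtain ⟨⟨eT, a, b, hab, hGF⟩, hR⟩ := e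
    simp only [List.map_cons] at hR ⊢
    rw [← eT, hGF]
    have hF : ι.app U' (resO P h F) = 0 := (app_resO h F).trans (by rw [hk F List.mem_cons_self, map_zero])
    refine ⟨hR, fun q hq => ?_, a, Rel.scale (kReg_of_reg hR) hab, ?_⟩
    · have h1 := hR q hq
      simp only [List.map_reverse, List.map_cons, isWeaklyRegular_reverse_cons_iff, map_mul] at h1 ⊢
      refine ⟨h1.1, fun r hr' => h1.2 r ?_⟩
      rwa [mul_assoc, Ideal.unit_mul_mem_iff_mem _ (IsUnit.of_mul_eq_one _ (by
        rw [← map_mul, hab, map_one]))] at hr'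
    · rw [wedge_cons, wedge_cons, cls_mul a hF, map_smul, Algebra.smul_mul_assoc]
  | swap f g l =>
    intro U hU hy L L' hL hL' hk hk' hr hmax
    obtain ⟨G, L₁, rfl, rfl, hL₁⟩ := List.map_eq_cons_iff.1 hL
    obtain ⟨F, T, rfl, rfl, rfl⟩ := List.map_eq_cons_iff.1 hL₁
    obtain ⟨F', L₂, rfl, hF', hL₂⟩ := List.map_eq_cons_iff.1 hL'
    obtain ⟨G', T', rfl, hG', hT'⟩ := List.map_eq_cons_iff.1 hL₂
    have he : (F :: G :: T).map (P.presheaf.germ U y hy).hom = (F' :: G' :: T').map (P.presheaf.germ U y hy).hom := by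
      simp only [List.map_cons, hF', hG', hT']
    have hp := (Move.swap ((P.presheaf.germ U y hy).hom F) ((P.presheaf.germ U y hy).hom G)
      (T.map (P.presheaf.germ U y hy).hom)).preserves hr hmax
    refine (((near_eq_list hy he).and (near_reg hU hy (F :: G :: T) hp.1)).and
      (near_reg hU hy (G :: F :: T) hr)).mono fun U' h _ _ e => ?_
    obtain ⟨⟨e1, hR'⟩, hR⟩ := e
    rw [← e1]
    simp only [List.map_cons] at hR hR' ⊢
    exact ⟨hR, hR', -1, Rel.swap (kReg_of_reg hR) (kReg_of_reg hR'),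
      by rw [map_neg, map_one, neg_one_smul, wedge_swap]⟩
  | @cons f l l' hll ih =>
    intro U hU hy L L' hL hL' hk hk' hr hmax
    obtain ⟨F, T, rfl, rfl, rfl⟩ := List.map_eq_cons_iff.1 hL
    obtain ⟨F', T', rfl, hF', rfl⟩ := List.map_eq_cons_iff.1 hL'
    have hp := (Move.cons ((P.presheaf.germ U y hy).hom F) hll).preserves hr hmax
    rw [isWeaklyRegular_reverse_cons_iff] at hr
    refine (((near_eq hy hF').and (near_reg hU hy (F :: T) ((isWeaklyRegular_reverse_cons_iff _ _).2 hr))).and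
      ((near_reg hU hy (F :: T') hp.1).and (ih hU hy T T' rfl rfl (fun z hz => hk z (List.mem_cons_of_mem _ hz))
        (fun z hz => hk' z (List.mem_cons_of_mem _ hz)) hr.1 fun z hz => hmax z (List.mem_cons_of_mem _ hz)))).mono
      fun U' h _ _ e => ?_
    obtain ⟨⟨eF, hR⟩, hR', -, -, d, hd, hw⟩ := e
    simp only [List.map_cons] at hR hR' ⊢
    rw [eF]
    refine ⟨hR, hR', d, hd.cons (kReg_of_reg hR), ?_⟩
    rw [wedge_cons, wedge_cons, hw, Algebra.mul_smul_comm]
  | @trans l l₁ l' h₁ h₂ ih₁ ih₂ =>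
    intro U hU hy L L' hL hL' hk hk' hr hmax
    obtain ⟨U₁, h₁', hy₁, M, hU₁, hM, hMl⟩ := exists_lift_list l₁ hy L fun r hr' => by
      rw [hL, ← h₁.span_eq]
      exact Ideal.subset_span hr'
    refine Near.of_le h₁' hy₁ ?_
    have hLk : ∀ z ∈ L.map (resO P h₁'), ι.app U₁ z = 0 := fun z hz => by
      obtain ⟨z, hz', rfl⟩ := List.mem_map.1 hz
      exact (app_resO h₁' z).trans (by rw [hk z hz', map_zero])
    have hL'k : ∀ z ∈ L'.map (resO P h₁'), ι.app U₁ z = 0 := fun z hz => by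
      obtain ⟨z, hz', rfl⟩ := List.mem_map.1 hz
      exact (app_resO h₁' z).trans (by rw [hk' z hz', map_zero])
    have hMk : ∀ z ∈ M, ι.app U₁ z = 0 := fun z hz => (ι_mul_wedge_span hLk (hMl z hz)).1
    have hp := h₁.preserves hr hmax
    refine ((ih₁ hU₁ hy₁ _ M ((map_germ_resO h₁' L hy₁).trans hL) hM hLk hMk hr hmax).and
      (ih₂ hU₁ hy₁ M _ hM ((map_germ_resO h₁' L' hy₁).trans hL') hMk hL'k hp.1 hp.2)).mono fun U' h _ _ e => ?_
    obtain ⟨⟨hR, -, d₁, hd₁, hw₁⟩, -, hR', d₂, hd₂, hw₂⟩ := e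
    rw [map_resO_resO] at hR hd₁ hw₁ hR' hd₂ hw₂
    exact ⟨hR, hR', d₁ * d₂, hd₁.trans hd₂, by rw [hw₂, hw₁, smul_smul, map_mul, mul_comm]⟩

/-- Two good charts are linked near every point of `X` in both. -/
theorem exists_linked [IsLocallyNoetherian P] {c : ℕ} {U : P.Opens} {L L' : List Γ(P, U)} (hL : IsGood ι c U L)
    (hL' : IsGood ι c U L') {x : X} (hx : ι.base x ∈ U) :
    Near U (ι.base x) fun U' h => Linked ι (L.map (resO P h)) (L'.map (resO P h)) := by
  let γ := (P.presheaf.germ U (ι.base x) hx).hom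
  have hspan : Ideal.span {z | z ∈ L'.map γ} = Ideal.span {z | z ∈ L.map γ} :=
    SetLike.ext fun r => (((hL'.chart.cuts _ hx).2 x rfl r).symm.trans ((hL.chart.cuts _ hx).2 x rfl r))
  have hmax : ∀ z ∈ L.map γ, z ∈ IsLocalRing.maximalIdeal (P.presheaf.stalk (ι.base x)) := fun z hz => by
    by_contra hu
    rw [IsLocalRing.mem_maximalIdeal, mem_nonunits_iff, not_not] at hu
    have h0 := ((hL.chart.cuts _ hx).2 x rfl z).2 (Ideal.subset_span hz)
    exact not_isUnit_zero (h0 ▸ hu.map (ι.stalkMap x).hom)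
  have hr : IsWeaklyRegular (P.presheaf.stalk (ι.base x)) (L.map γ).reverse := by
    rw [← List.map_reverse]; exact hL.chart.reg _ hx
  have hrs : ∀ z ∈ (L.map γ).reverse, z ∈ IsLocalRing.maximalIdeal (P.presheaf.stalk (ι.base x)) :=
    fun z hz => hmax z (List.mem_reverse.1 hz)
  have hmove : Move (L.map γ) (L'.map γ) := move_of_minimal
    (by rw [List.length_map, List.length_map, hL.chart.len, hL'.chart.len]) hspan hmax fun k hk => by
      have := length_le_of_regular hr hrs (m := k) (hk.trans (by simp))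
      simpa using this
  exact near_linked ι hmove hL.chart.aff hx L L' rfl rfl (fun f hf => hL.app_eq_zero hf)
    (fun f hf => hL'.app_eq_zero hf) hr hmax

end Groth.Agent.ExtFund
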