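import Mathlib

/-!
Two minimal lists of generators of an ideal in a Noetherian local ring are connected by elementary changes.
-/

set_option autoImplicit false
set_option linter.style.haveILetI false

universe u

namespace Groth.Agent.ExtFund

variable {R : Type u} [CommRing R]

/-- Elementary changes of a list; the head is the last entry divided out. -/
inductive Move : List R → List R → Prop
  | refl (l : List R) : Move l l
  | add {f g : R} {l : List R} (h : g - f ∈ Ideal.span {y | y ∈ l}) : Move (f :: l) (g :: l)
  | scale {u f : R} {l : List R} (hu : IsUnit u) : Move (f :: l) (u * f :: l)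
  | swap (f g : R) (l : List R) : Move (g :: f :: l) (f :: g :: l)
  | cons (f : R) {l l' : List R} : Move l l' → Move (f :: l) (f :: l')
  | trans {l l' l'' : List R} : Move l l' → Move l' l'' → Move l l''

theorem Move.of_perm {l l' : List R} (h : l.Perm l') : Move l l' := by
  induction h with
  | nil => exact Move.refl _
  | cons x _ ih => exact Move.cons x ih
  | swap x y l => exact Move.swap x y l
  | trans _ _ ih₁ ih₂ => exact ih₁.trans ih₂

theorem Move.length_eq {l l' : List R} (h : Move l l') : l'.length = l.length := by
  induction h with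
  | refl => rfl
  | add => rfl
  | scale => rfl
  | swap => rfl
  | cons _ _ ih => simp [ih]
  | trans _ _ ih₁ ih₂ => omega

theorem span_cons' (f : R) (l : List R) :
    Ideal.span {y | y ∈ f :: l} = Ideal.span {f} ⊔ Ideal.span {y | y ∈ l} := by
  rw [← Ideal.span_union]
  congr 1
  ext y
  simp

theorem Move.span_eq {l l' : List R} (h : Move l l') :
    Ideal.span {y | y ∈ l'} = Ideal.span {y | y ∈ l} := by
  induction h with
  | refl => rfl
  | @add f g l h =>
    rw [span_cons', span_cons']
    refine le_antisymm (sup_le ?_ le_sup_right) (sup_le ?_ le_sup_right) <;>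
      rw [Ideal.span_singleton_le_iff_mem]
    · rw [show g = f + (g - f) by ring]
      exact Submodule.add_mem_sup (Ideal.mem_span_singleton_self _) h
    · rw [show f = g + -(g - f) by ring]
      exact Submodule.add_mem_sup (Ideal.mem_span_singleton_self _) (neg_mem h)
  | @scale u f l hu =>
    rw [span_cons', span_cons']
    congr 1
    exact Ideal.span_singleton_mul_left_unit hu f
  | swap f g l =>
    congr 1
    ext y
    simp only [List.mem_cons, Set.mem_setOf_eq]
    tauto
  | cons f _ ih => rw [span_cons', span_cons', ih]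
  | trans _ _ ih₁ ih₂ => rw [ih₂, ih₁]

theorem exists_coeffs (l : List R) {g : R} (hg : g ∈ Ideal.span {y | y ∈ l}) :
    ∃ c : Fin l.length → R, g = ∑ i, c i * l.get i := by
  rw [show {y | y ∈ l} = Set.range l.get from (Set.range_list_get l).symm] at hg
  obtain ⟨c, hc⟩ := Ideal.mem_span_range_iff_exists_fun.1 hg
  exact ⟨c, hc.symm⟩

variable [IsLocalRing R]

/-- `s` is a fixed tail. -/
theorem move_append : ∀ (n : ℕ) (k k' s : List R), k.length = n → k'.length = n →
    Ideal.span {y | y ∈ k' ++ s} = Ideal.span {y | y ∈ k ++ s} →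
    (∀ y ∈ k ++ s, y ∈ IsLocalRing.maximalIdeal R) →
    (∀ m : List R, Ideal.span {y | y ∈ m} = Ideal.span {y | y ∈ k ++ s} → n + s.length ≤ m.length) →
    Move (k ++ s) (k' ++ s) := by
  classical
  intro n
  induction n with
  | zero =>
    intro k k' s hk hk' _ _ _
    rw [List.length_eq_zero_iff.1 hk, List.length_eq_zero_iff.1 hk']
    exact Move.refl _
  | succ n ih =>
    intro k k' s hk hk' hspan hmax hmin
    obtain ⟨g, k'', rfl⟩ : ∃ g k'', k' = g :: k'' := by
      cases k' with
      | nil => simp at hk'
      | cons g k'' => exact ⟨g, k'', rfl⟩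
    have hk'' : k''.length = n := by simpa using hk'
    have hgI : g ∈ Ideal.span {y | y ∈ k ++ s} := hspan ▸ Ideal.subset_span (by simp)
    obtain ⟨c, hc⟩ := exists_coeffs (k ++ s) hgI
    obtain ⟨i, hi, hu⟩ : ∃ i : Fin (k ++ s).length, (i : ℕ) < k.length ∧ IsUnit (c i) := by
      by_contra hno
      push Not at hno
      let J := Ideal.span {y | y ∈ k'' ++ s}
      let I := Ideal.span {y | y ∈ k ++ s}
      have hIm : I ≤ IsLocalRing.maximalIdeal R := Ideal.span_le.2 hmax
      have hsJ : ∀ y ∈ s, y ∈ J := fun y hy => Ideal.subset_span (List.mem_append_right k'' hy)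
      have hg' : g ∈ IsLocalRing.maximalIdeal R • I ⊔ J := by
        rw [hc]
        refine Ideal.sum_mem _ fun j _ => ?_
        by_cases hj : (j : ℕ) < k.length
        · refine Submodule.mem_sup_left (Submodule.smul_mem_smul ?_ (Ideal.subset_span (List.get_mem _ _)))
          exact (IsLocalRing.mem_maximalIdeal _).2 (hno j hj)
        · refine Submodule.mem_sup_right (Ideal.mul_mem_left _ _ (hsJ _ ?_))
          rw [List.get_eq_getElem, List.getElem_append_right (by omega)]
          exact List.getElem_mem _
      have hIle : I ≤ J ⊔ IsLocalRing.maximalIdeal R • I := by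
        show Ideal.span {y | y ∈ k ++ s} ≤ _
        rw [← hspan, List.cons_append, span_cons', sup_comm J]
        exact sup_le ((Ideal.span_singleton_le_iff_mem _).2 hg') le_sup_right
      have hfg : I.FG := ⟨(k ++ s).toFinset, by
        show Ideal.span _ = Ideal.span {y | y ∈ k ++ s}
        congr 1
        ext; simp⟩
      have hIJ : I ≤ J := Submodule.le_of_le_smul_of_le_jacobson_bot hfg
        (by rw [IsLocalRing.jacobson_eq_maximalIdeal ⊥ bot_ne_top]) hIle
      have hJI : J ≤ I := by
        refine Ideal.span_le.2 fun y hy => ?_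
        show y ∈ Ideal.span {y | y ∈ k ++ s}
        rw [← hspan]
        exact Ideal.subset_span (List.mem_cons_of_mem g hy)
      have := hmin (k'' ++ s) (le_antisymm hJI hIJ)
      simp [hk''] at this
    have hget : (k ++ s).get i = k.get ⟨i, hi⟩ := by
      simp [List.getElem_append_left hi]
    let f := k.get ⟨i, hi⟩
    obtain ⟨k₁, hperm, hk₁⟩ : ∃ k₁, k.Perm (f :: k₁) ∧ k₁.length = n := by
      refine ⟨k.eraseIdx i, ?_, by rw [List.length_eraseIdx_of_lt hi]; omega⟩
      exact (List.getElem_cons_eraseIdx_perm hi).symm
    have h1 : Move (k ++ s) (f :: (k₁ ++ s)) := by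
      refine Move.of_perm ?_
      exact (hperm.append_right s).trans (List.Perm.refl _)
    obtain ⟨v, hv⟩ := hu
    have h2 : Move (f :: (k₁ ++ s)) (c i * f :: (k₁ ++ s)) := Move.scale ⟨v, hv⟩
    have h3 : Move (c i * f :: (k₁ ++ s)) (g :: (k₁ ++ s)) := by
      refine Move.add ?_
      have hsub : g - c i * f = ∑ j ∈ Finset.univ.erase i, c j * (k ++ s).get j := by
        rw [hc, ← Finset.add_sum_erase _ _ (Finset.mem_univ i), hget]
        ring
      rw [hsub]
      refine Ideal.sum_mem _ fun j hj => Ideal.mul_mem_left _ _ (Ideal.subset_span ?_)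
      rw [Set.mem_setOf_eq]
      by_cases hjk : (j : ℕ) < k.length
      · rw [List.get_eq_getElem, List.getElem_append_left hjk]
        refine List.mem_append_left _ ?_
        have hmem : k[(j : ℕ)] ∈ k.eraseIdx i := List.mem_eraseIdx_iff_getElem.2
          ⟨j, hjk, fun e => (Finset.mem_erase.1 hj).1 (Fin.ext e), rfl⟩
        have hp2 : (k.eraseIdx i).Perm k₁ :=
          ((List.getElem_cons_eraseIdx_perm hi).trans hperm).cons_inv
        exact hp2.subset hmem
      · rw [List.get_eq_getElem, List.getElem_append_right (by omega)]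
        exact List.mem_append_right _ (List.getElem_mem _)
    have h4 : Move (g :: (k₁ ++ s)) (k₁ ++ g :: s) := Move.of_perm List.perm_middle.symm
    have h123 := ((h1.trans h2).trans h3).trans h4
    have h5 : Move (k₁ ++ g :: s) (k'' ++ g :: s) := by
      refine ih k₁ k'' (g :: s) hk₁ hk'' ?_ ?_ ?_
      · rw [h123.span_eq, ← hspan]
        congr 1
        ext y
        simp only [List.mem_append, List.mem_cons, Set.mem_setOf_eq]
        tauto
      · intro y hy
        have : y ∈ Ideal.span {y | y ∈ k ++ s} := h123.span_eq ▸ Ideal.subset_span hy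
        exact Ideal.span_le.2 hmax this
      · intro m hm
        have := hmin m (hm.trans h123.span_eq)
        simp only [List.length_cons]
        omega
    exact (h123.trans h5).trans (Move.of_perm List.perm_middle)

/-- Two minimal lists of generators are connected. -/
theorem move_of_minimal {l l' : List R} (hlen : l'.length = l.length)
    (hspan : Ideal.span {y | y ∈ l'} = Ideal.span {y | y ∈ l})
    (hmax : ∀ y ∈ l, y ∈ IsLocalRing.maximalIdeal R)
    (hmin : ∀ m : List R, Ideal.span {y | y ∈ m} = Ideal.span {y | y ∈ l} → l.length ≤ m.length) :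
    Move l l' := by
  have h := move_append l.length l l' [] rfl hlen (by rwa [List.append_nil, List.append_nil])
    (by rwa [List.append_nil]) (by simpa only [List.append_nil, List.length_nil, add_zero] using hmin)
  rwa [List.append_nil, List.append_nil] at h

variable [IsNoetherianRing R]

/-- Regular sequences in the maximal ideal generate minimally. -/
theorem length_le_of_regular {l : List R} (hreg : RingTheory.Sequence.IsWeaklyRegular R l)
    (hmax : ∀ y ∈ l, y ∈ IsLocalRing.maximalIdeal R) {m : List R}
    (hm : Ideal.span {y | y ∈ m} = Ideal.span {y | y ∈ l}) : l.length ≤ m.length := by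
  classical
  have hne0 : Ideal.ofList l ≠ ⊤ := ne_top_of_le_ne_top (IsLocalRing.maximalIdeal.isMaximal R).ne_top
    (Ideal.span_le.2 fun z hz => hmax z hz)
  have hreg' : RingTheory.Sequence.IsRegular R l := ⟨hreg, fun e => hne0 (by
    rw [smul_eq_mul, Ideal.mul_top] at e
    exact e.symm)⟩
  have h1 := ringKrullDim_add_length_eq_ringKrullDim_of_isRegular l hreg'
  have hspan : Ideal.span (m.toFinset : Set R) = Ideal.ofList l := by
    rw [Ideal.ofList, ← hm]
    congr 1
    ext; simp
  have h2 := ringKrullDim_le_ringKrullDim_quotient_add_card (R := R) m.toFinset (by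
    refine (Set.Subset.trans ?_ (le_of_eq (congrArg SetLike.coe
      (IsLocalRing.ringJacobson_eq_maximalIdeal R).symm)))
    intro y hy
    have : y ∈ Ideal.ofList l := hspan ▸ Ideal.subset_span hy
    exact Ideal.span_le.2 (fun z hz => hmax z hz) this)
  rw [hspan, ← h1] at h2
  have hne : Nontrivial (R ⧸ Ideal.ofList l) := Ideal.Quotient.nontrivial_iff.2
    (ne_top_of_le_ne_top (IsLocalRing.maximalIdeal.isMaximal R).ne_top
      (Ideal.span_le.2 fun z hz => hmax z hz))
  have hcard : m.toFinset.card ≤ m.length := m.toFinset_card_le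
  obtain ⟨d, hd⟩ : ∃ d : ℕ, ringKrullDim (R ⧸ Ideal.ofList l) = d := by
    have : IsLocalRing (R ⧸ Ideal.ofList l) := .of_surjective' (Ideal.Quotient.mk _) Ideal.Quotient.mk_surjective
    have hlt : ringKrullDim (R ⧸ Ideal.ofList l) < ⊤ := ringKrullDim_lt_top
    have hge : 0 ≤ ringKrullDim (R ⧸ Ideal.ofList l) := ringKrullDim_nonneg_of_nontrivial
    generalize ringKrullDim (R ⧸ Ideal.ofList l) = t at hlt hge
    induction t using WithBot.recBotCoe with
    | bot => simp at hge
    | coe t =>
      induction t using WithTop.recTopCoe with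
      | top => exact absurd hlt (lt_irrefl _)
      | coe t => exact ⟨t, rfl⟩
  rw [hd] at h2
  norm_cast at h2
  omega

end Groth.Agent.ExtFund
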