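import Groth.Agent.ExtFund.Local
import Groth.Agent.KFlat.StalkTensor

/-!
The comparison map on stalks.
-/

set_option autoImplicit false
set_option linter.style.haveILetI false
set_option linter.unusedSectionVars false
set_option backward.isDefEq.respectTransparency false
set_option backward.isDefEq.respectTransparency.types false
set_option maxHeartbeats 1000000

universe u

open CategoryTheory Limits AlgebraicGeometry TopologicalSpace Opposite Abelian
open Groth.Agent.QC (res resO res_res resO_resO res_smul)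

noncomputable section

namespace Groth.Agent.ExtFund

variable {P X : Scheme.{u}} [HasExt.{u} P.Modules] {ι : X ⟶ P} [IsClosedImmersion ι] {c : ℕ} {U : P.Opens}
  {l : List Γ(P, U)} {F : P.Modules} (D : EdgeData ι c F)

lemma map_resO_resO {U U' U'' : P.Opens} (h : U' ≤ U) (h' : U'' ≤ U') (l : List Γ(P, U)) :
    (l.map (resO P h)).map (resO P h') = l.map (resO P (h'.trans h)) := by
  rw [List.map_map]
  exact List.map_congr_left fun r _ => resO_resO _ _ r

lemma xi_congr {l₁ l₂ : List Γ(P, U)} (e : l₁ = l₂) (h₁ : IsChart ι c U l₁) (h₂ : IsChart ι c U l₂) (s : Γ(F, U)) :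
    xi D h₁ s = xi D h₂ s := by
  subst e
  rfl

theorem xi_res_res (hl : IsChart ι c U l) {U' U'' : P.Opens} (h : U' ≤ U) (hU' : IsAffineOpen U') (h' : U'' ≤ U')
    (hU'' : IsAffineOpen U'') (s : Γ(F, U')) :
    xi D (hl.resO (h'.trans h) hU'') (res F h' s) = res D.E (ι.preimage_mono h') (xi D (hl.resO h hU') s) :=
  (xi_congr D (map_resO_resO h h' l).symm _ _ _).trans (xi_res D (hl.resO h hU') h' hU'' s)

/-- the comparison at a point, on sections near it -/
theorem germ_xi_well (hl : IsChart ι c U l) {x : X} {U₁ U₂ : P.Opens} (h₁ : U₁ ≤ U) (hU₁ : IsAffineOpen U₁)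
    (hx₁ : ι.base x ∈ U₁) (h₂ : U₂ ≤ U) (hU₂ : IsAffineOpen U₂) (hx₂ : ι.base x ∈ U₂) (s₁ : Γ(F, U₁)) (s₂ : Γ(F, U₂))
    (e : germM F hx₁ s₁ = germM F hx₂ s₂) :
    germM D.E (show x ∈ ι ⁻¹ᵁ U₁ from hx₁) (xi D (hl.resO h₁ hU₁) s₁) =
      germM D.E (show x ∈ ι ⁻¹ᵁ U₂ from hx₂) (xi D (hl.resO h₂ hU₂) s₂) := by
  obtain ⟨W, hxW, i₁, i₂, he⟩ := TopCat.Presheaf.germ_eq F.presheaf (ι.base x) hx₁ hx₂ s₁ s₂ e
  obtain ⟨U₃, hU₃, hxU₃, hle⟩ := exists_isAffineOpen_mem_and_subset (show ι.base x ∈ W from hxW)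
  have h31 : U₃ ≤ U₁ := le_trans hle (leOfHom i₁)
  have h32 : U₃ ≤ U₂ := le_trans hle (leOfHom i₂)
  have he' : res F h31 s₁ = res F h32 s₂ := by
    rw [← res_res F hle (leOfHom i₁), ← res_res F hle (leOfHom i₂)]
    exact congrArg _ he
  rw [← germM_res D.E (show x ∈ ι ⁻¹ᵁ U₁ from hx₁) (ι.preimage_mono h31) hxU₃,
    ← germM_res D.E (show x ∈ ι ⁻¹ᵁ U₂ from hx₂) (ι.preimage_mono h32) hxU₃,
    ← xi_res_res D hl h₁ hU₁ h31 hU₃, ← xi_res_res D hl h₂ hU₂ h32 hU₃, he']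

theorem exists_rep (hl : IsChart ι c U l) {y : P} (hy : y ∈ U) (m : (DerSch.stalkFunctor P y).obj F) :
    ∃ (U' : P.Opens) (_ : U' ≤ U) (_ : IsAffineOpen U') (hy' : y ∈ U') (s : Γ(F, U')), germM F hy' s = m := by
  obtain ⟨W, hW, s, rfl⟩ := exists_germM (M := F) m
  obtain ⟨g, hg, hyg⟩ := hl.aff.exists_basicOpen_le (V := W ⊓ U) ⟨y, hW, hy⟩ hy
  exact ⟨P.basicOpen g, hg.trans inf_le_right, hl.aff.basicOpen g, hyg, res F (hg.trans inf_le_left) s,
    germM_res F hW _ hyg s⟩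

variable (hF : Coh.IsQCoh F)

include hF in
/-- The comparison on stalks. -/
theorem exists_stalk_xi (hl : IsChart ι c U l) {x : X} (hx : ι.base x ∈ U) :
    ∃ Ξ : (DerSch.stalkFunctor P (ι.base x)).obj F →+ (DerSch.stalkFunctor X x).obj D.E,
      (∀ r m, Ξ (r • m) = (ι.stalkMap x).hom r • Ξ m) ∧ Function.Surjective Ξ ∧
      (∀ m, Ξ m = 0 ↔ m ∈ Ideal.ofList (l.map (P.presheaf.germ U (ι.base x) hx).hom) •
        (⊤ : Submodule (P.presheaf.stalk (ι.base x)) ((DerSch.stalkFunctor P (ι.base x)).obj F))) ∧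
      ∀ (U' : P.Opens) (h : U' ≤ U) (hU' : IsAffineOpen U') (hx' : ι.base x ∈ U') (s : Γ(F, U')),
        Ξ (germM F hx' s) = germM D.E (show x ∈ ι ⁻¹ᵁ U' from hx') (xi D (hl.resO h hU') s) := by
  choose V hV hVa hxV s hs using fun m => exists_rep hl hx m
  let φ : (DerSch.stalkFunctor P (ι.base x)).obj F → (DerSch.stalkFunctor X x).obj D.E := fun m =>
    germM D.E (show x ∈ ι ⁻¹ᵁ V m from hxV m) (xi D (hl.resO (hV m) (hVa m)) (s m))
  have hφ : ∀ (U' : P.Opens) (h : U' ≤ U) (hU' : IsAffineOpen U') (hx' : ι.base x ∈ U') (t : Γ(F, U')),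
      φ (germM F hx' t) = germM D.E (show x ∈ ι ⁻¹ᵁ U' from hx') (xi D (hl.resO h hU') t) :=
    fun U' h hU' hx' t => germ_xi_well D hl (hV _) (hVa _) (hxV _) h hU' hx' _ t (hs _)
  have hadd : ∀ m m', φ (m + m') = φ m + φ m' := fun m m' => by
    obtain ⟨U', hU', hxU', hle⟩ := exists_isAffineOpen_mem_and_subset
      (show ι.base x ∈ V m ⊓ V m' from ⟨hxV m, hxV m'⟩)
    have h1 : U' ≤ V m := le_trans hle inf_le_left
    have h2 : U' ≤ V m' := le_trans hle inf_le_right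
    have e1 : germM F hxU' (res F h1 (s m)) = m := (germM_res F (hxV m) h1 hxU' _).trans (hs m)
    have e2 : germM F hxU' (res F h2 (s m')) = m' := (germM_res F (hxV m') h2 hxU' _).trans (hs m')
    conv_lhs => rw [← e1, ← e2, ← map_add, hφ U' (h1.trans (hV m)) hU' hxU', map_add, map_add]
    conv_rhs => rw [← e1, ← e2, hφ U' (h1.trans (hV m)) hU' hxU', hφ U' (h1.trans (hV m)) hU' hxU']
  have hsmul : ∀ r m, φ (r • m) = (ι.stalkMap x).hom r • φ m := fun r m => by
    obtain ⟨W, hW, a, rfl⟩ := TopCat.Presheaf.exists_germ_eq P.presheaf r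
    obtain ⟨U', hU', hxU', hle⟩ := exists_isAffineOpen_mem_and_subset (show ι.base x ∈ V m ⊓ W from ⟨hxV m, hW⟩)
    have h1 : U' ≤ V m := le_trans hle inf_le_left
    have h2 : U' ≤ W := le_trans hle inf_le_right
    have e1 : germM F hxU' (res F h1 (s m)) = m := (germM_res F (hxV m) h1 hxU' _).trans (hs m)
    have e2 : P.presheaf.germ U' (ι.base x) hxU' (resO P h2 a) = P.presheaf.germ W (ι.base x) hW a :=
      P.presheaf.germ_res_apply (homOfLE h2) _ hxU' a
    conv_lhs => rw [← e1, ← e2, ← germM_smul, hφ U' (h1.trans (hV m)) hU' hxU', xi_smul, germM_smul]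
    conv_rhs => rw [← e1, hφ U' (h1.trans (hV m)) hU' hxU', ← e2]
    exact congrArg (· • _) (Scheme.Hom.germ_stalkMap_apply ι U' x hxU' _).symm
  refine ⟨AddMonoidHom.mk' φ hadd, hsmul, fun m => ?_, fun m => ⟨fun h => ?_, fun h => ?_⟩, hφ⟩
  · obtain ⟨U', h, hU', hx', t, ht⟩ := exists_xi D hF hl hx m
    exact ⟨germM F hx' t, (hφ U' h hU' hx' t).trans ht⟩
  · have h' := germ_mem_of_xi D hF (hl.resO (hV m) (hVa m)) (hxV m) h
    rw [map_germ_resO, hs] at h'
    exact h'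
  · induction h using Submodule.smul_induction_on' with
    | smul r hr n _ =>
      show φ (r • n) = 0
      rw [hsmul, ((hl.cuts (ι.base x) hx).2 x rfl r).2 hr, zero_smul]
    | add a _ b _ ha hb => rw [map_add, ha, hb, add_zero]

end Groth.Agent.ExtFund
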