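import Groth.Agent.ExtFund.StalkMap
import Groth.Agent.ExtFund.Moves
import Groth.Agent.Conormal.Basic
import Groth.Agent.LocH.Spread
import Groth.Prelude.Def_ExtPow2
import Groth.Agent.S12482
import Groth.Agent.RegIdeal.CotBasis

/-!
Classes in the conormal sheaf, their wedge products, and a basis on a chart.
-/

set_option autoImplicit false
set_option linter.style.haveILetI false
set_option linter.unusedSectionVars false
set_option backward.isDefEq.respectTransparency false
set_option backward.isDefEq.respectTransparency.types false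
set_option maxHeartbeats 1000000

universe u

open CategoryTheory Limits AlgebraicGeometry TopologicalSpace Opposite
open Groth.Agent.QC (res resO res_res resO_resO res_smul)

noncomputable section

namespace Groth.Agent.ExtFund

variable {P X : Scheme.{u}} (ι : X ⟶ P) [IsClosedImmersion ι]

/-- An affine open with a list generating the kernel and regular on stalks. -/
structure IsGood (c : ℕ) (U : P.Opens) (l : List Γ(P, U)) : Prop where
  chart : IsChart ι c U l
  ker : RingHom.ker (ι.app U).hom = Ideal.ofList l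

variable {ι} {c : ℕ} {U : P.Opens} {l : List Γ(P, U)}

lemma conormalChart (hU : IsAffineOpen U) : Conormal.IsChart ι U :=
  ⟨hU, IsZariskiLocalAtTarget.restrict ‹IsClosedImmersion ι› U⟩

lemma app_resO {U' : P.Opens} (h : U' ≤ U) (f : Γ(P, U)) :
    (ι.app U').hom (resO P h f) = resO X (ι.preimage_mono h) ((ι.app U).hom f) :=
  ConcreteCategory.congr_hom (ι.naturality (homOfLE h).op) f

lemma IsGood.resO (hl : IsGood ι c U l) {U' : P.Opens} (h : U' ≤ U) (hU' : IsAffineOpen U') :
    IsGood ι c U' (l.map (QC.resO P h)) :=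
  ⟨hl.chart.resO h hU', by rw [(conormalChart hl.chart.aff).ker_eq_map hU' h, hl.ker, Ideal.map_ofList]⟩

lemma IsGood.of_reg (hU : IsAffineOpen U) (hlen : l.length = c) (hreg : Reg U l)
    (hker : RingHom.ker (ι.app U).hom = Ideal.ofList l) : IsGood ι c U l :=
  ⟨⟨hlen, hU, hreg, cuts_of_ker hU hker⟩, hker⟩

theorem exists_good (hι : RegImm.IsRegularImmersionOfCodim RegImm.Kind.regular c ι) (x : X) :
    ∃ (U : P.Opens) (l : List Γ(P, U)), ι.base x ∈ U ∧ IsGood ι c U l := by
  obtain ⟨U, l, hx, hl, hker⟩ := exists_chart hι x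
  exact ⟨U, l, hx, hl, hker⟩

variable (ι) in
/-- the class of a function vanishing on `X` -/
def cls (U : P.Opens) (f : Γ(P, U)) : Γ(Omega.conormal ι, ι ⁻¹ᵁ U) := by
  classical
  exact if h : ι.app U f = 0 then OmegaSh.conormalSect ι U (Conormal.exists_idealSect ι U f h).choose else 0

lemma cls_eq {f : Γ(P, U)} (s : Γ(ClSub.idealMod ι.ker, U)) (hs : OmegaSh.idealSect ι.ker U s = f) :
    cls ι U f = OmegaSh.conormalSect ι U s := by
  have h : ι.app U f = 0 := hs ▸ Conormal.app_idealSect ι U s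
  rw [cls, dif_pos h]
  exact congrArg _ (Conormal.idealSect_injective ι.ker U
    ((Conormal.exists_idealSect ι U f h).choose_spec.trans hs.symm))

lemma cls_add {f g : Γ(P, U)} (hf : ι.app U f = 0) (hg : ι.app U g = 0) :
    cls ι U (f + g) = cls ι U f + cls ι U g := by
  obtain ⟨s, rfl⟩ := Conormal.exists_idealSect ι U f hf
  obtain ⟨t, rfl⟩ := Conormal.exists_idealSect ι U g hg
  rw [cls_eq (s + t) (map_add _ _ _), cls_eq s rfl, cls_eq t rfl, map_add]

lemma cls_zero : cls ι U (0 : Γ(P, U)) = 0 := by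
  rw [cls_eq 0 (map_zero _), map_zero]

lemma cls_mul (r : Γ(P, U)) {f : Γ(P, U)} (hf : ι.app U f = 0) :
    cls ι U (r * f) = (ι.app U).hom r • cls ι U f := by
  obtain ⟨s, rfl⟩ := Conormal.exists_idealSect ι U f hf
  rw [cls_eq (r • s) (Conormal.idealSect_smul _ _ r s), cls_eq s rfl, Conormal.conormalSect_smul]

lemma cls_sum {n : ℕ} (a f : Fin n → Γ(P, U)) (hf : ∀ i, ι.app U (f i) = 0) :
    cls ι U (∑ i, a i * f i) = ∑ i, (ι.app U).hom (a i) • cls ι U (f i) := by
  classical
  have key : ∀ S : Finset (Fin n), ι.app U (∑ i ∈ S, a i * f i) = 0 ∧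
      cls ι U (∑ i ∈ S, a i * f i) = ∑ i ∈ S, (ι.app U).hom (a i) • cls ι U (f i) := by
    intro S
    induction S using Finset.induction_on with
    | empty => exact ⟨map_zero _, cls_zero⟩
    | insert i S hi ih =>
      have h0 : ι.app U (a i * f i) = 0 := by rw [map_mul, hf, mul_zero]
      rw [Finset.sum_insert hi, Finset.sum_insert hi]
      exact ⟨by rw [map_add, h0, ih.1, add_zero], by rw [cls_add h0 ih.1, ih.2, cls_mul _ (hf i)]⟩
  exact (key _).2

lemma cls_res {U' : P.Opens} (h : U' ≤ U) {f : Γ(P, U)} (hf : ι.app U f = 0) :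
    cls ι U' (resO P h f) = res (Omega.conormal ι) (ι.preimage_mono h) (cls ι U f) := by
  obtain ⟨s, rfl⟩ := Conormal.exists_idealSect ι U f hf
  rw [cls_eq s rfl, Conormal.res_conormalSect, cls_eq _ (Conormal.idealSect_res _ h s)]

variable (ι) in
/-- the wedge of the classes -/
def wedge (U : P.Opens) (l : List Γ(P, U)) : ExteriorAlgebra Γ(X, ι ⁻¹ᵁ U) Γ(Omega.conormal ι, ι ⁻¹ᵁ U) :=
  (l.map fun f => ExteriorAlgebra.ι Γ(X, ι ⁻¹ᵁ U) (cls ι U f)).prod

lemma wedge_cons (f : Γ(P, U)) (l : List Γ(P, U)) :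
    wedge ι U (f :: l) = ExteriorAlgebra.ι Γ(X, ι ⁻¹ᵁ U) (cls ι U f) * wedge ι U l := by
  rw [wedge, wedge, List.map_cons, List.prod_cons]

lemma wedge_swap (f g : Γ(P, U)) (l : List Γ(P, U)) :
    wedge ι U (f :: g :: l) = -wedge ι U (g :: f :: l) := by
  simp only [wedge_cons, ← mul_assoc]
  rw [eq_neg_of_add_eq_zero_left (ExteriorAlgebra.ι_add_mul_swap (cls ι U f) (cls ι U g)), neg_mul]

lemma ι_mul_wedge : ∀ {l : List Γ(P, U)} {f : Γ(P, U)}, f ∈ l →
    ExteriorAlgebra.ι Γ(X, ι ⁻¹ᵁ U) (cls ι U f) * wedge ι U l = 0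
  | g :: l, f, hf => by
    rw [wedge_cons, ← mul_assoc]
    rcases List.mem_cons.1 hf with rfl | h
    · rw [ExteriorAlgebra.ι_sq_zero, zero_mul]
    · rw [eq_neg_of_add_eq_zero_left (ExteriorAlgebra.ι_add_mul_swap (cls ι U f) (cls ι U g)), neg_mul,
        mul_assoc, ι_mul_wedge h, mul_zero, neg_zero]

lemma ι_mul_wedge_span {l : List Γ(P, U)} (hl : ∀ f ∈ l, ι.app U f = 0) {x : Γ(P, U)}
    (hx : x ∈ Ideal.span {y | y ∈ l}) :
    ι.app U x = 0 ∧ ExteriorAlgebra.ι Γ(X, ι ⁻¹ᵁ U) (cls ι U x) * wedge ι U l = 0 := by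
  induction hx using Submodule.span_induction with
  | mem y hy => exact ⟨hl y hy, ι_mul_wedge hy⟩
  | zero => exact ⟨map_zero _, by rw [cls_zero, map_zero, zero_mul]⟩
  | add a b _ _ ha hb =>
    exact ⟨by rw [map_add, ha.1, hb.1, add_zero], by
      rw [cls_add ha.1 hb.1, map_add, add_mul, ha.2, hb.2, add_zero]⟩
  | smul r a _ ha =>
    exact ⟨by rw [smul_eq_mul, map_mul, ha.1, mul_zero], by
      rw [smul_eq_mul, cls_mul r ha.1, map_smul, Algebra.smul_mul_assoc, ha.2, smul_zero]⟩

variable (ι) in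
/-- the family of classes of a list of length `c` -/
def clsFam (c : ℕ) (U : P.Opens) (l : List Γ(P, U)) (hl : l.length = c) : Fin c → Γ(Omega.conormal ι, ι ⁻¹ᵁ U) :=
  fun j => cls ι U (l.get (Fin.cast hl.symm j))

lemma ιMulti_clsFam (hl : l.length = c) :
    ExteriorAlgebra.ιMulti Γ(X, ι ⁻¹ᵁ U) c (clsFam ι c U l hl) = wedge ι U l := by
  subst hl
  rw [ExteriorAlgebra.ιMulti_apply, wedge]
  congr 1
  show List.ofFn ((fun f => ExteriorAlgebra.ι Γ(X, ι ⁻¹ᵁ U) (cls ι U f)) ∘ fun j => l.get j) = _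
  rw [← List.map_ofFn, List.ofFn_get]

lemma IsGood.app_eq_zero (hl : IsGood ι c U l) {f : Γ(P, U)} (hf : f ∈ l) : ι.app U f = 0 :=
  RingHom.mem_ker.1 (hl.ker ▸ Ideal.subset_span hf)

lemma app_eq_zero_of_germs {f : Γ(P, U)}
    (h : ∀ (z : X) (hz : ι.base z ∈ U), (ι.stalkMap z).hom (P.presheaf.germ U (ι.base z) hz f) = 0) :
    ι.app U f = 0 := by
  refine TopCat.Presheaf.section_ext X.sheaf (ι ⁻¹ᵁ U) _ _ fun z hz => ?_
  refine Eq.trans ?_ (map_zero (X.presheaf.germ (ι ⁻¹ᵁ U) z hz).hom).symm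
  exact (Scheme.Hom.germ_stalkMap_apply ι U z hz f).symm.trans (h z hz)

/-- The classes form a basis of the sections of the conormal sheaf. -/
theorem exists_basis_cls (hl : IsGood ι c U l) :
    ∃ b : Module.Basis (Fin c) Γ(X, ι ⁻¹ᵁ U) Γ(Omega.conormal ι, ι ⁻¹ᵁ U),
      ⇑b = clsFam ι c U l hl.chart.len := by
  obtain rfl := hl.chart.len
  let v := clsFam ι l.length U l rfl
  let f : Fin l.length → Γ(P, U) := fun i => l.get i
  have hf : ∀ i, ι.app U (f i) = 0 := fun i => hl.app_eq_zero (List.get_mem _ _)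
  have hv : ∀ i, v i = cls ι U (f i) := fun i => rfl
  have hli : LinearIndependent Γ(X, ι ⁻¹ᵁ U) v := by
    rw [Fintype.linearIndependent_iff]
    intro g hg i
    choose a ha using fun i => (conormalChart (ι := ι) hl.chart.aff).surjective (g i)
    rw [← ha i]
    refine app_eq_zero_of_germs fun z hz => ?_
    obtain ⟨s, hs⟩ := Conormal.exists_idealSect ι U (∑ i, a i * f i) (by
      rw [map_sum]; exact Finset.sum_eq_zero fun j _ => by rw [map_mul, hf, mul_zero])
    have h2 : (∑ i, a i * f i) ∈ Ideal.ofList l ^ 2 := by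
      rw [← hl.ker, ← hs, ← Conormal.conormalSect_eq_zero_iff ι (conormalChart hl.chart.aff), ← cls_eq s hs,
        cls_sum a f hf, ← hg]
      exact Finset.sum_congr rfl fun j _ => by rw [ha, hv]
    let γ := (P.presheaf.germ U (ι.base z) hz).hom
    let w : Fin l.length → P.presheaf.stalk (ι.base z) := fun j => γ (f j.rev)
    have hw : List.ofFn w = l.reverse.map γ := by
      refine List.ext_getElem (by simp) fun n h1 h2 => ?_
      simp [w, f, List.getElem_reverse, Fin.rev]
      congr 2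
      omega
    obtain ⟨b, hb⟩ := S12482.result (P.presheaf.stalk (ι.base z)) l.length w (hw ▸ hl.chart.reg _ hz)
    have hspan : Ideal.span (Set.range w) = Ideal.ofList (l.map γ) := by
      rw [show Ideal.span (Set.range w) = Ideal.ofList (List.ofFn w) from by
        rw [Ideal.ofList]; congr 1; ext; simp [List.mem_ofFn], hw]
      simp [Ideal.ofList]
    have h3 : ∑ j, γ (a j.rev) * w j ∈ Ideal.span (Set.range w) ^ 2 := by
      have h4 := Ideal.mem_map_of_mem γ h2
      rw [Ideal.map_pow, Ideal.map_ofList, ← hspan, map_sum] at h4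
      convert h4 using 1
      exact Fintype.sum_equiv Fin.revPerm _ _ fun j => by simp [w]
    have h5 : LinearIndependent (P.presheaf.stalk (ι.base z) ⧸ Ideal.span (Set.range w))
        (fun j => (Ideal.span (Set.range w)).toCotangent ⟨w j, Ideal.subset_span (Set.mem_range_self j)⟩) := by
      rw [← funext hb]
      exact b.linearIndependent
    have h6 := (RegIdeal.linearIndependent_toCotangent_iff _ _).1 h5 (fun j => γ (a j.rev)) h3 i.rev
    rw [Fin.rev_rev, hspan] at h6
    exact ((hl.chart.cuts _ hz).2 z rfl _).2 h6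
  have hsp : ⊤ ≤ Submodule.span Γ(X, ι ⁻¹ᵁ U) (Set.range v) := by
    intro m _
    obtain ⟨s, rfl⟩ := Conormal.conormalSect_surjective ι (conormalChart hl.chart.aff) m
    have hmem : OmegaSh.idealSect ι.ker U s ∈ Ideal.ofList l :=
      hl.ker ▸ RingHom.mem_ker.2 (Conormal.app_idealSect ι U s)
    rw [Ideal.ofList, show {r | r ∈ l} = Set.range f from (Set.range_list_get l).symm] at hmem
    obtain ⟨a, ha⟩ := Ideal.mem_span_range_iff_exists_fun.1 hmem
    rw [← cls_eq s rfl, ← ha, cls_sum a f hf]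
    exact Submodule.sum_mem _ fun i _ => Submodule.smul_mem _ _ (Submodule.subset_span ⟨i, hv i⟩)
  exact ⟨Module.Basis.mk hli hsp, Module.Basis.coe_mk hli hsp⟩

/-- The top exterior power of a module with a basis is free on the wedge of the basis. -/
theorem bijective_smul_ιMulti {R : Type u} [CommRing R] {M : Type u} [AddCommGroup M] [Module R M] {n : ℕ}
    (b : Module.Basis (Fin n) R M) :
    Function.Bijective fun r : R => r • exteriorPower.ιMulti R n (⇑b) := by
  classical
  have h1 : exteriorPower.ιMulti R n = (LinearMap.toSpanSingleton R _ (exteriorPower.ιMulti R n (⇑b))).compAlternatingMap b.det := by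
    refine Module.Basis.ext_alternating b fun v hv => ?_
    let σ : Equiv.Perm (Fin n) := Equiv.ofBijective v (Finite.injective_iff_bijective.1 hv)
    show exteriorPower.ιMulti R n (⇑b ∘ σ) = b.det (⇑b ∘ σ) • exteriorPower.ιMulti R n (⇑b)
    rw [AlternatingMap.map_perm, AlternatingMap.map_perm, b.det_self]
    simp [Units.smul_def]
    exact (Int.cast_smul_eq_zsmul R _ _).symm
  refine ⟨fun r s h => ?_, fun m => ?_⟩
  · have h2 := congrArg (exteriorPower.alternatingMapLinearEquiv b.det) h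
    simpa [exteriorPower.alternatingMapLinearEquiv_apply_ιMulti, b.det_self] using h2
  · have hm : m ∈ Submodule.span R (Set.range (exteriorPower.ιMulti R n (M := M))) := by
      rw [exteriorPower.ιMulti_span]; trivial
    induction hm using Submodule.span_induction with
    | mem y hy =>
      obtain ⟨v, rfl⟩ := hy
      exact ⟨b.det v, by rw [h1]; simp [b.det_self]⟩
    | zero => exact ⟨0, zero_smul _ _⟩
    | add a a' _ _ ha ha' =>
      obtain ⟨r, rfl⟩ := ha
      obtain ⟨r', rfl⟩ := ha'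
      exact ⟨r + r', add_smul _ _ _⟩
    | smul t a _ ha =>
      obtain ⟨r, rfl⟩ := ha
      exact ⟨t * r, mul_smul _ _ _⟩

end Groth.Agent.ExtFund
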